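import Cfsg.Agent.Lib.LocalStructure.CubicBound.FarDist

/-!
# The critical distance is not five
-/

set_option autoImplicit false
set_option linter.style.haveILetI false
set_option linter.unusedSectionVars false

open Subgroup MulAction

namespace CfsgLib.LS.CubicBound

open CfsgLib.LS.ActiveCenter
open CfsgLib.LS.ActiveCenter.Geo (zOf kern_le edgeA_le_zOf zOf_comm_kern)

universe u v

variable {G : Type u} {V : Type v} [Group G] [MulAction G V] {Adj : V → V → Prop} {ty : V → Bool}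

/-- six vertices as a walk -/
def six (a b c d e f : V) : ℕ → V := pre a (pre b (pre c (pre d (pre e fun _ => f))))

theorem six_walk {a b c d e f : V} (h1 : Adj a b) (h2 : Adj b c) (h3 : Adj c d) (h4 : Adj d e) (h5 : Adj e f)
    (n1 : c ≠ a) (n2 : d ≠ b) (n3 : e ≠ c) (n4 : f ≠ d) : IsWalk Adj 5 (six a b c d e f) :=
  (((((show IsWalk Adj 0 (fun _ => f) from
    ⟨fun i hi => absurd hi (by omega), fun i hi => absurd hi (by omega)⟩).cons h5 (by omega)).cons h4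
      fun _ => n4).cons h3 fun _ => n3).cons h2 fun _ => n2).cons h1 fun _ => n1

/-- The three windows and their reverses along a walk of length twelve. -/
structure Win (G : Type u) [Group G] [MulAction G V] (Adj : V → V → Prop) (ty : V → Bool) (F : ℕ → V) : Prop where
  walk : IsWalk Adj 12 F
  w0 : Crit G Adj ty 5 (fun i => F i)
  w2 : Crit G Adj ty 5 (fun i => F (i + 2))
  w4 : Crit G Adj ty 5 (fun i => F (i + 4))
  v12 : Crit G Adj ty 5 (fun i => F (12 - i))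
  v10 : Crit G Adj ty 5 (fun i => F (10 - i))
  v8 : Crit G Adj ty 5 (fun i => F (8 - i))

namespace Cub

variable (h : Cub G Adj ty)
include h

theorem win_mirror {F : ℕ → V} (hF : Win G Adj ty F) : Win G Adj ty (fun i => F (12 - i)) := by
  have hsh : ∀ (k : ℕ), k ≤ 4 → ∀ i ≤ 5, 12 - (12 - k - i) = i + k := fun k hk i hi => by omega
  have conv : ∀ (g g' : ℕ → V), (∀ i ≤ 5, g i = g' i) → Crit G Adj ty 5 g → Crit G Adj ty 5 g' := by
    intro g g' e hc
    refine ⟨⟨fun i hi => ?_, fun i hi => ?_⟩, by rw [← e 0 (by omega)]; exact hc.start,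
      by rw [← e 0 (by omega), ← e 5 le_rfl]; exact hc.not_le⟩
    · rw [← e i (by omega), ← e (i + 1) (by omega)]; exact hc.walk.adj i hi
    · rw [← e i (by omega), ← e (i + 2) (by omega)]; exact hc.walk.ne i hi
  refine ⟨h.walk_rev hF.walk, hF.v12, conv _ _ (fun i hi => ?_) hF.v10, conv _ _ (fun i hi => ?_) hF.v8,
    conv _ _ (fun i hi => ?_) hF.w0, conv _ _ (fun i hi => ?_) hF.w2, conv _ _ (fun i hi => ?_) hF.w4⟩
  · show F (10 - i) = F (12 - (i + 2)); congr 1; omega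
  · show F (8 - i) = F (12 - (i + 4)); congr 1; omega
  · show F i = F (12 - (12 - i)); congr 1; omega
  · show F (i + 2) = F (12 - (10 - i)); congr 1; omega
  · show F (i + 4) = F (12 - (8 - i)); congr 1; omega

variable (hd : OddDist G Adj ty 5) (hj : JZero G Adj ty)
include hd hj

theorem tri {p : ℕ → V} (hc : Crit G Adj ty 5 p) {y : G} (hy : Out G Adj (p 1) (p 0) y) {w γ u : V}
    (hw : Adj (p 5) w) (hw4 : w ≠ p 4) (hγ : Adj w γ) (hγ5 : γ ≠ p 5) (hu : Adj γ u) (huw : u ≠ w) :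
    zOf G Adj u ≤ kern Adj (y • γ) := by
  by_contra hnle
  have hp := hc.walk
  have hk := h.kOne_odd hd
  have h5B : ty (p 5) = false := h.end_ty hd hc
  have hwA := h.tyA hw h5B
  have hγB := h.tyB hγ hwA
  have hyq := h.out_crit hd hc hy
  have hy5 : y • p 5 = p 5 := h.crit_fix hd hc le_rfl hy.mem
  have hy4 : y • p 4 = p 4 := h.crit_fix hd hc (i := 4) (by omega) hy.mem
  have h45 := hp.adj 4 (by omega)
  have hyw : y • w ≠ w := h.moves (h.symm h45) hw (Ne.symm hw4) (mem_edgeT.2 ⟨hy5, hy4⟩) hyq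
  have hy5w : Adj (p 5) (y • w) := h.smul_adj hy5 hw
  have hyγ : y • γ ≠ p 5 := fun e => hγ5 (smul_left_cancel y (e.trans hy5.symm))
  have hq : Crit G Adj ty 5 (six u γ w (p 5) (y • w) (y • γ)) :=
    ⟨six_walk (h.symm hu) (h.symm hγ) (h.symm hw) hy5w (h.smul y hγ) (Ne.symm huw) (Ne.symm hγ5) hyw hyγ,
      h.tyA hu hγB, hnle⟩
  obtain ⟨a, ha⟩ := h.exists_out hγB hu
  have hay : Out G Adj (y • γ) (y • u) (y * a * y⁻¹) := h.out_conj y ha
  obtain ⟨e1, e2⟩ := h.com_mem hd hj hq (w := y • u) (h.smul y hu)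
    (fun e => huw (smul_left_cancel y e)) (z := a) (y := y * a * y⁻¹) ha hay
  have hya := h.zOf_inv ha.mem
  have hyy := h.zOf_inv hy.mem
  obtain ⟨y', hy'd⟩ : ∃ y', y' = a * y * a⁻¹ := ⟨_, rfl⟩
  obtain ⟨S, hS⟩ : ∃ S, S = y * (y' * y * y'⁻¹) := ⟨_, rfl⟩
  obtain ⟨R, hR⟩ : ∃ R, R = a * (y * a * y⁻¹ * a * (y * a * y⁻¹)⁻¹) := ⟨_, rfl⟩
  rw [← hR] at e1 e2
  have hRW : R ∈ zOf G Adj (p 5) := h.zOf_inter h5B hw hy5w (Ne.symm hyw) e1.mem e2.mem
  have hR1 : R ≠ 1 := fun e => e1.not_mem (e ▸ one_mem _)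
  have hRr : R = rOf G Adj (p 5) := h.rOf_eq hk h5B hRW hR1
  have hSR : S = R := by
    rw [show S = R⁻¹ from ?_, hRr, h.zOf_inv (h.rOf_spec _).1]
    rw [hS, hy'd, hR]
    simp only [mul_inv_rev, inv_inv, hya, hyy]
    group
  -- the action of `a` on the walk `p`
  have hak : ∀ v n, n < 5 → Near Adj n u v → a ∈ kern Adj v := fun v n hn hnv =>
    h.le_kern hd.toIsDist hn (h.tyA hu hγB) hnv ha.mem
  have ha4 : a ∈ kern Adj (p 4) := hak (p 4) 4 (by omega) (near_cons (h.symm hu) (near_cons (h.symm hγ)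
    (near_cons (h.symm hw) (near_one (h.symm h45)))))
  have h34 := hp.adj 3 (by omega)
  have h23 := hp.adj 2 (by omega)
  have ha3 : a • p 3 = p 3 := ha4.2 _ (h.symm h34)
  have h0A := hc.start
  have hy' : Out G Adj (a • p 1) (a • p 0) y' := hy'd ▸ h.out_conj a hy
  have h2A : ty (p 2) = true := (h.ty_idx hp h0A (i := 2) (by omega)).2 ⟨1, rfl⟩
  have h3B : ty (p 3) = false := h.ty_odd hp h0A (i := 3) (by omega) ⟨1, rfl⟩
  have h01 := hp.adj 0 (by omega)
  have h12 := hp.adj 1 (by omega)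
  have hS1 : S ≠ 1 := hSR ▸ hR1
  by_cases ha3k : a ∈ kern Adj (p 3)
  · have ha2 : a • p 2 = p 2 := ha3k.2 _ (h.symm h23)
    refine hS1 ?_
    have hn : Near Adj 4 (p 0) (a • p 0) := near_cons h01 (near_cons h12
      (by
        have h1 : Adj (p 2) (a • p 1) := by
          have := h.smul a (h.symm h12)
          rwa [ha2] at this
        exact near_cons h1 (near_one (h.smul a (h.symm h01)))))
    have hcom := h.comm_zz hd.toIsDist (n := 4) (by omega) h0A hn hy.mem hy'.mem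
    rw [hS, show y' * y = y * y' from hcom.symm, mul_inv_cancel_right, h.zOf_sq hy.mem]
  have ha2 : a • p 2 ≠ p 2 :=
    h.moves h34 (h.symm h23) (hp.ne 2 (by omega)) (mem_edgeT.2 ⟨ha3, ha4.1⟩) ha3k
  have hA32 : Adj (p 3) (a • p 2) := h.smul_adj ha3 (h.symm h23)
  have hA2 : ty (a • p 2) = true := h.tyA hA32 h3B
  have hA21 : Adj (a • p 2) (a • p 1) := h.smul a (h.symm h12)
  have hq' : IsWalk Adj 5 (six (p 0) (p 1) (p 2) (p 3) (a • p 2) (a • p 1)) :=
    six_walk h01 h12 h23 hA32 hA21 (hp.ne 0 (by omega)) (hp.ne 1 (by omega)) ha2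
      fun e => hp.ne 1 (by omega) (smul_left_cancel a (e.trans ha3.symm)).symm
  have hne1 : a • p 0 ≠ a • p 2 := fun e => hp.ne 0 (by omega) (smul_left_cancel a e).symm
  by_cases hcq : zOf G Adj (p 0) ≤ kern Adj (a • p 1)
  · have hyk := hcq hy.mem
    have hyA0 : y ∈ edgeT G (a • p 0) (a • p 1) :=
      edgeT_comm (G := G) (a • p 1) (a • p 0) ▸ kern_le (h.smul a (h.symm h01)) hyk
    have h0A' : ty (a • p 0) = true := (h.ty_smul' a _).trans h0A
    by_cases hy0 : y ∈ kern Adj (a • p 0)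
    · refine hS1 ?_
      have := zOf_comm_kern hy'.mem hy0
      rw [hS, ← this, mul_inv_cancel_right, h.zOf_sq hy.mem]
    · have hSm := inv_mem (h.fold_mem h0A' (h.smul a h01) hy'.mem hyA0 hy0)
      have hyy' := h.zOf_inv hy'.mem
      rw [show (y' * (y * y' * y⁻¹))⁻¹ = y * y'⁻¹ * y⁻¹ * y'⁻¹ by group, hyy', hyy,
        show y * y' * y * y' = y * (y' * y * y'⁻¹) by rw [hyy']; group, ← hS, hSR, hRr] at hSm
      have h1B : ty (a • p 1) = false := h.tyB hA21 hA2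
      rw [← h.rOf_eq hk h5B ((h.rOf_spec (p 5)).1) (h.rOf_spec _).2] at hSm
      have hZ4 : rOf G Adj (p 5) ∈ zOf G Adj (p 4) :=
        h.wOf_le (h.tyA (h.symm h45) h5B) h45 (h.rOf_spec _).1
      have hZ2 : rOf G Adj (p 5) ∈ zOf G Adj (a • p 2) := h.wOf_le hA2 hA21 hSm
      have hne4 : p 4 ≠ a • p 2 := fun e => hp.ne 2 (by omega) (smul_left_cancel a (ha4.1.trans e))
      have h53 := h.zOf_inter h3B h34 hA32 hne4 hZ4 hZ2
      exact h.rOf_inj hk (h.tyA (h.symm h45) h5B) (h.symm h34) h45 (Ne.symm (hp.ne 3 (by omega)))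
        (h.rOf_eq hk h3B h53 (h.rOf_spec _).2).symm
  · obtain ⟨f1, f2⟩ := h.com_mem hd hj (f := six (p 0) (p 1) (p 2) (p 3) (a • p 2) (a • p 1))
      ⟨hq', h0A, hcq⟩ (w := a • p 0) (h.smul a (h.symm h01)) hne1 (z := y) (y := y') hy hy'
    rw [← hS, hSR, hRr] at f1 f2
    have h53 := h.zOf_inter h3B (h.symm h23) hA32 (Ne.symm ha2) f1.mem f2.mem
    exact h.rOf_inj hk (h.tyA (h.symm h45) h5B) (h.symm h34) h45 (Ne.symm (hp.ne 3 (by omega)))
      (h.rOf_eq hk h3B h53 (h.rOf_spec _).2).symm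

theorem sibling_le {f : ℕ → V} (hc : Crit G Adj ty 5 f) {v : V} (hv : Adj (f 4) v) (hv5 : v ≠ f 5)
    (hv3 : v ≠ f 3) : zOf G Adj (f 0) ≤ kern Adj v := by
  by_contra hnle
  have hall : ∀ g : ℕ → V, IsWalk Adj 5 g → ty (g 0) = true → Crit G Adj ty 5 g := by
    intro g hg hgA
    have hf := hc.walk
    have hB1 := h.tyB (hf.adj 0 (by omega)) hc.start
    haveI : Nonempty V := ⟨f 0⟩
    obtain ⟨k, hk⟩ := h.conj_walk (fun s => h.mv_one s) (le_refl 2) (hf.shift (m := 2) (k := 1) (by omega))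
      (hg.shift (m := 2) (k := 1) (by omega))
      (show ty (f 1) = ty (g 1) from hB1.trans (h.tyB (hg.adj 0 (by omega)) hgA).symm)
    have k1 : k • f 1 = g 1 := hk 0 (by omega)
    have k2 : k • f 2 = g 2 := hk 1 (by omega)
    have k3 : k • f 3 = g 3 := hk 2 le_rfl
    have h10 : Adj (f 1) (k⁻¹ • g 0) := by
      have := h.smul k⁻¹ (h.symm (hg.adj 0 (by omega)))
      rwa [show k⁻¹ • g 1 = f 1 from inv_smul_eq_iff.2 k1.symm] at this
    have h10' : k⁻¹ • g 0 ≠ f 2 := fun e => hg.ne 0 (by omega) (by rw [← k2, ← e, smul_inv_smul])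
    obtain ⟨x, hx⟩ : ∃ x, x = k⁻¹ • g 0 := ⟨_, rfl⟩
    have hcx := h.both_outer hd hc (x := x) (hx ▸ h10) (hx ▸ h10')
    have hcv : ¬ zOf G Adj x ≤ kern Adj v := by
      have hw : IsWalk Adj 5 (six (f 0) (f 1) (f 2) (f 3) (f 4) v) :=
        six_walk (hf.adj 0 (by omega)) (hf.adj 1 (by omega)) (hf.adj 2 (by omega)) (hf.adj 3 (by omega)) hv
          (hf.ne 0 (by omega)) (hf.ne 1 (by omega)) (hf.ne 2 (by omega)) hv3
      exact (h.both_outer hd (f := six (f 0) (f 1) (f 2) (f 3) (f 4) v) ⟨hw, hc.start, hnle⟩ (x := x)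
        (hx ▸ h10) (hx ▸ h10')).not_le
    obtain ⟨γ, hγ, hγ1, hpr⟩ := h.exists_pred hd hcx le_rfl
    obtain ⟨u, hu, hu0⟩ := h.exists_nbr_ne (x := γ) x
    have hcu := hpr u hu hu0
    obtain ⟨e, he, heq⟩ := SetLike.not_le_iff_exists.1 hcu.not_le
    have hek : ∀ i < 5, e ∈ kern Adj (pre u (pre γ (pre x fun i => f (i + 1))) i) := fun i hi =>
      h.crit_fix_left hd.toIsDist hcu hi he
    have he0 : e • x = x := (hek 2 (by omega)).1
    have he2 : e • f 2 = f 2 := (hek 4 (by omega)).1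
    have he3 : e • f 3 = f 3 := h.crit_fix hd hcu le_rfl he
    have hxA : ty x = true := h.tyA (hx ▸ h10) hB1
    have hfull : ∀ w, Adj (f 3) w → w ≠ f 2 → ∀ v', Adj w v' → v' ≠ f 3 → ¬ zOf G Adj x ≤ kern Adj v' := by
      have hfour : ∀ v', Adj (f 4) v' → v' ≠ f 3 → ¬ zOf G Adj x ≤ kern Adj v' := by
        intro v' hv' hv'3
        rcases h.adj_cases (h.symm (hf.adj 3 (by omega))) (hf.adj 4 (by omega)) hv (Ne.symm (hf.ne 3 (by omega)))
          (Ne.symm hv3) (Ne.symm hv5) hv' with rfl | rfl | rfl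
        · exact absurd rfl hv'3
        · exact hcx.not_le
        · exact hcv
      intro w hw hw2 v' hv' hv'3
      by_cases e4 : w = f 4
      · subst e4; exact hfour v' hv' hv'3
      have hsw : e • w = f 4 := h.swap_eq (h.symm (hf.adj 2 (by omega))) hw (hf.adj 3 (by omega))
        (Ne.symm hw2) (Ne.symm (hf.ne 2 (by omega))) e4 (mem_edgeT.2 ⟨he3, he2⟩) heq
      intro hle
      refine hfour (e • v') (hsw ▸ h.smul e hv') (fun e' => hv'3 (smul_left_cancel e (e'.trans he3.symm))) ?_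
      have := (h.crit_smul_iff e (x := x) (y := v')).2 hle
      rwa [he0] at this
    refine ⟨hg, hgA, fun hle => ?_⟩
    have h34 : Adj (f 3) (k⁻¹ • g 4) := by
      have := h.smul k⁻¹ (hg.adj 3 (by omega))
      rwa [show k⁻¹ • g 3 = f 3 from inv_smul_eq_iff.2 k3.symm] at this
    refine hfull (k⁻¹ • g 4) h34 (fun e' => hg.ne 2 (by omega) (by rw [← k2, ← e', smul_inv_smul]))
      (k⁻¹ • g 5) (h.smul k⁻¹ (hg.adj 4 (by omega)))
      (fun e' => hg.ne 3 (by omega) (by rw [← k3, ← e', smul_inv_smul])) ?_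
    rw [hx]
    exact (h.crit_smul_iff k⁻¹).2 hle
  have hf := hc.walk
  have h5B := h.end_ty hd hc
  obtain ⟨y, hy⟩ := h.exists_out (h.tyB (hf.adj 0 (by omega)) hc.start) (h.symm (hf.adj 0 (by omega)))
  have hyq := h.out_crit hd hc hy
  have hy5 : y • f 5 = f 5 := h.crit_fix hd hc le_rfl hy.mem
  have hy4 : y • f 4 = f 4 := h.crit_fix hd hc (i := 4) (by omega) hy.mem
  obtain ⟨w, hw, hw4⟩ := h.exists_nbr_ne (x := f 5) (f 4)
  have hwA := h.tyA hw h5B
  obtain ⟨γ, hγ, hγ5⟩ := h.exists_nbr_ne (x := w) (f 5)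
  obtain ⟨u, hu, huw⟩ := h.exists_nbr_ne (x := γ) w
  have hyw : y • w ≠ w :=
    h.moves (h.symm (hf.adj 4 (by omega))) hw (Ne.symm hw4) (mem_edgeT.2 ⟨hy5, hy4⟩) hyq
  refine (hall (six u γ w (f 5) (y • w) (y • γ)) ?_ (h.tyA hu (h.tyB hγ hwA))).not_le
    (h.tri hd hj hc hy hw hw4 hγ hγ5 hu huw)
  exact six_walk (h.symm hu) (h.symm hγ) (h.symm hw) (h.smul_adj hy5 hw) (h.smul y hγ) (Ne.symm huw)
    (Ne.symm hγ5) hyw fun e => hγ5 (smul_left_cancel y (e.trans hy5.symm))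

/-- one half of the configuration -/
theorem half {F : ℕ → V} (hF : Win G Adj ty F) {third : V} (h3 : Adj (F 6) third) (n5 : third ≠ F 5)
    (n7 : third ≠ F 7) :
    ∃ e : G, e • F 3 = third ∧ e • F 4 = F 6 ∧ e • F 5 = F 5 ∧
      rOf G Adj (e • F 1) = rOf G Adj (F 1) * (rOf G Adj (F 11) * rOf G Adj (F 1) * rOf G Adj (F 11)) := by
  have hw := hF.walk
  have hk := h.kOne_odd hd
  have h0A : ty (F 0) = true := hF.w0.start
  have hA : ∀ i ≤ 12, Even i → ty (F i) = true := fun i hi he => (h.ty_idx hw h0A hi).2 he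
  have hB : ∀ i ≤ 12, Odd i → ty (F i) = false := fun i hi ho => h.ty_odd hw h0A hi ho
  have up : ∀ i < 12, Adj (F i) (F (i + 1)) := hw.adj
  have dn : ∀ i < 12, Adj (F (i + 1)) (F i) := fun i hi => h.symm (hw.adj i hi)
  obtain ⟨a, had⟩ : ∃ a, a = rOf G Adj (F 1) := ⟨_, rfl⟩
  obtain ⟨y, hyd⟩ : ∃ y, y = rOf G Adj (F 11) := ⟨_, rfl⟩
  rw [← had, ← hyd]
  have ha : Out G Adj (F 3) (F 2) a :=
    had ▸ h.out_rOf (hA 2 (by omega) ⟨1, rfl⟩) (up 2 (by omega)) (dn 1 (by omega)) (Ne.symm (hw.ne 1 (by omega)))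
  have hy : Out G Adj (F 9) (F 10) y :=
    hyd ▸ h.out_rOf (hA 10 (by omega) ⟨5, rfl⟩) (dn 9 (by omega)) (up 10 (by omega)) (hw.ne 9 (by omega))
  obtain ⟨d, hdo⟩ := h.exists_out (hB 1 (by omega) odd_one) (dn 0 (by omega))
  -- the action of `y`
  have hy10 : Out G Adj (F (10 - 1)) (F (10 - 0)) y := hy
  have hy5q : y ∉ kern Adj (F 5) := h.out_crit hd hF.v10 hy10
  have hyfix : ∀ i ≤ 5, y • F (10 - i) = F (10 - i) := fun i hi => h.crit_fix hd hF.v10 hi hy.mem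
  have hyk : ∀ i < 5, y ∈ kern Adj (F (10 - i)) := fun i hi => h.crit_fix_left hd.toIsDist hF.v10 hi hy.mem
  have hy5 : y • F 5 = F 5 := hyfix 5 le_rfl
  have hy6 : y • F 6 = F 6 := hyfix 4 (by omega)
  have hy7 : y • F 7 = F 7 := hyfix 3 (by omega)
  have hy8 : y • F 8 = F 8 := hyfix 2 (by omega)
  have hyi := h.zOf_inv hy.mem
  have hai := h.zOf_inv ha.mem
  have hdi := h.zOf_inv hdo.mem
  have hyinv : ∀ x : V, y • y • x = x := fun x => by rw [← mul_smul, h.zOf_sq hy.mem, one_smul]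
  have hdinv : ∀ x : V, d • d • x = x := fun x => by rw [← mul_smul, h.zOf_sq hdo.mem, one_smul]
  obtain ⟨c, hcd⟩ : ∃ c, c = y * a * y⁻¹ := ⟨_, rfl⟩
  have hcO : Out G Adj (y • F 3) (y • F 2) c := hcd ▸ h.out_conj y ha
  rw [show y * a * y = c by rw [hcd, hyi]]
  -- `c` is in the kernel at `F 3`
  have hHle : zOf G Adj (y • F 2) ≤ kern Adj (F 3) := by
    have := h.tri hd hj hF.v10 hy10 (w := F 4) (γ := F 3) (u := F 2) (dn 4 (by omega))
      (Ne.symm (hw.ne 4 (by omega))) (dn 3 (by omega)) (Ne.symm (hw.ne 3 (by omega))) (dn 2 (by omega))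
      (Ne.symm (hw.ne 2 (by omega)))
    have h2 := (h.crit_smul_iff y).2 this
    rwa [hyinv] at h2
  have hc3 : c ∈ kern Adj (F 3) := hHle hcO.mem
  -- `a` and `c` commute
  have hcomm : a * c = c * a := by
    obtain ⟨y', hy'd⟩ : ∃ y', y' = a * y * a⁻¹ := ⟨_, rfl⟩
    obtain ⟨S, hS⟩ : ∃ S, S = a * c * (a * c) := ⟨_, rfl⟩
    have ha2 : Out G Adj (F (1 + 2)) (F (0 + 2)) a := ha
    have h7 := h.tri hd hj hF.w2 ha2 (w := F 8) (γ := F 9) (u := F 10) (up 7 (by omega)) (hw.ne 6 (by omega))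
      (up 8 (by omega)) (hw.ne 7 (by omega)) (up 9 (by omega)) (hw.ne 8 (by omega))
    have ha7 : a • F 7 = F 7 := h.crit_fix hd hF.w2 (i := 5) le_rfl ha.mem
    have ha6 : a • F 6 = F 6 := h.crit_fix hd hF.w2 (i := 4) (by omega) ha.mem
    have haq : a ∉ kern Adj (F 7) := h.out_crit hd hF.w2 ha2
    have ha8 : a • F 8 ≠ F 8 :=
      h.moves (dn 6 (by omega)) (up 7 (by omega)) (Ne.symm (hw.ne 6 (by omega))) (mem_edgeT.2 ⟨ha7, ha6⟩) haq
    have hy'O : Out G Adj (a • F 9) (a • F 10) y' := hy'd ▸ h.out_conj a hy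
    have hA10 : ty (a • F 10) = true := (h.ty_smul' a _).trans (hA 10 (by omega) ⟨5, rfl⟩)
    have hy'le : zOf G Adj (a • F 10) ≤ kern Adj (F 9) := by
      have h2 := (h.crit_smul_iff a).2 h7
      rwa [← mul_smul a a, h.zOf_sq ha.mem, one_smul] at h2
    have hy'i := h.zOf_inv hy'O.mem
    have k1 : S = y' * (y * y' * y⁻¹) * 1 := by
      rw [hS, hcd, hy'd]
      simp only [mul_inv_rev, inv_inv, hai, hyi]
      group
    rw [mul_one] at k1
    have k2 : S⁻¹ = y * (y' * y * y'⁻¹) := by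
      rw [k1, show (y' * (y * y' * y⁻¹))⁻¹ = y * y'⁻¹ * y⁻¹ * y'⁻¹ by group, hy'i, hyi]
      group
    have e1 : S = 1 := by
      have hyT : y ∈ edgeT G (a • F 10) (a • F 9) :=
        edgeT_comm (G := G) (a • F 9) (a • F 10) ▸ kern_le (h.smul a (up 9 (by omega))) (h7 hy.mem)
      have hy'T : y' ∈ edgeT G (F 10) (F 9) :=
        edgeT_comm (G := G) (F 9) (F 10) ▸ kern_le (up 9 (by omega)) (hy'le hy'O.mem)
      by_cases c1 : y ∈ kern Adj (a • F 10)
      · rw [k1, zOf_comm_kern hy'O.mem c1, mul_inv_cancel_right, h.zOf_sq hy'O.mem]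
      by_cases c2 : y' ∈ kern Adj (F 10)
      · rw [← inv_eq_one, k2, zOf_comm_kern hy.mem c2, mul_inv_cancel_right, h.zOf_sq hy.mem]
      have m1 : S ∈ zOf G Adj (a • F 9) := k1 ▸ h.fold_mem hA10 (h.smul a (dn 9 (by omega))) hy'O.mem hyT c1
      have m2 : S ∈ zOf G Adj (F 9) := by
        have := inv_mem (k2 ▸ h.fold_mem (hA 10 (by omega) ⟨5, rfl⟩) (dn 9 (by omega)) hy.mem hy'T c2 :
          S⁻¹ ∈ zOf G Adj (F 9))
        rwa [inv_inv] at this
      by_contra hS1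
      have h8A := hA 8 (by omega) ⟨4, rfl⟩
      have h7B := hB 7 (by omega) ⟨3, rfl⟩
      have m7 := h.zOf_inter h7B (h.smul_adj ha7 (up 7 (by omega))) (up 7 (by omega)) ha8
        (h.wOf_le ((h.ty_smul' a _).trans h8A) (h.smul a (up 8 (by omega))) m1) (h.wOf_le h8A (up 8 (by omega)) m2)
      exact h.rOf_inj hk h8A (dn 7 (by omega)) (up 8 (by omega)) (Ne.symm (hw.ne 7 (by omega)))
        ((h.rOf_eq hk h7B m7 hS1).symm.trans (h.rOf_eq hk (hB 9 (by omega) ⟨4, rfl⟩) m2 hS1))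
    rw [hS] at e1
    rw [eq_inv_of_mul_eq_one_left e1, mul_inv_rev, hai, h.zOf_inv hcO.mem]
  have hc2 : c ∈ kern Adj (F 2) := by
    by_contra hne
    refine ha.not_mem (h.mem_wOf_of_comm (hA 2 (by omega) ⟨1, rfl⟩) (up 2 (by omega)) ha.mem (t := c) ?_ hne
      hcomm.symm)
    exact edgeT_comm (G := G) (F 3) (F 2) ▸ kern_le (dn 2 (by omega)) hc3
  have hc1 : c • F 1 = F 1 := hc2.2 _ (dn 1 (by omega))
  -- `d` carries `y • F 3` to `third`
  have hd5q : d ∉ kern Adj (F 5) := h.out_crit hd hF.w0 hdo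
  have hd5 : d • F 5 = F 5 := h.crit_fix hd hF.w0 le_rfl hdo.mem
  have hd4 : d • F 4 = F 4 := h.crit_fix hd hF.w0 (i := 4) (by omega) hdo.mem
  have hyO : y • F 4 ≠ F 4 :=
    h.moves (up 5 (by omega)) (dn 4 (by omega)) (hw.ne 4 (by omega)) (mem_edgeT.2 ⟨hy5, hy6⟩) hy5q
  have hyO6 : y • F 4 ≠ F 6 := fun e => hw.ne 4 (by omega) (smul_left_cancel y (e.trans hy6.symm)).symm
  have hdO : d • y • F 4 = F 6 := h.swap_eq (dn 4 (by omega)) (h.smul_adj hy5 (dn 4 (by omega))) (up 5 (by omega))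
    (Ne.symm hyO) (Ne.symm (hw.ne 4 (by omega))) hyO6 (mem_edgeT.2 ⟨hd5, hd4⟩) hd5q
  have hdG : d • y • F 3 = third := by
    have hadj : Adj (F 6) (d • y • F 3) := hdO ▸ h.smul d (h.smul y (dn 3 (by omega)))
    rcases h.adj_cases (dn 5 (by omega)) (up 6 (by omega)) h3 (Ne.symm (hw.ne 5 (by omega))) (Ne.symm n5)
      (Ne.symm n7) hadj with e | e | e
    · exfalso
      have := smul_left_cancel d (e.trans hd5.symm)
      exact hw.ne 3 (by omega) (smul_left_cancel y (this.trans hy5.symm)).symm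
    · exfalso
      have hGv : d • F 7 = y • F 3 := by rw [← e, hdinv]
      have hd0 : Out G Adj (F 1) (F 0) d := hdo
      have h1 := h.tri hd hj hF.w0 hd0 (w := F 6) (γ := F 7) (u := F 8) (up 5 (by omega)) (hw.ne 4 (by omega))
        (up 6 (by omega)) (hw.ne 5 (by omega)) (up 7 (by omega)) (hw.ne 6 (by omega))
      rw [hGv, ← hy8, h.crit_smul_iff] at h1
      exact hF.v8.not_le h1
    · exact e
  refine ⟨d * y, by rw [mul_smul, hdG], by rw [mul_smul, hdO], by rw [mul_smul, hy5, hd5], ?_⟩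
  obtain ⟨x, hxd⟩ : ∃ x, x = d * c * d⁻¹ := ⟨_, rfl⟩
  have hx : x = rOf G Adj ((d * y) • F 1) := by
    rw [h.rOf_smul hk (d * y) (hB 1 (by omega) odd_one), ← had, hxd, hcd]
    group
  rw [← hx]
  -- the product `c x`
  obtain ⟨q, hqd⟩ : ∃ q, q = c * x := ⟨_, rfl⟩
  have hc0T : c • F 1 = F 1 ∧ c • F 2 = F 2 := ⟨hc1, hc2.1⟩
  have hq2 : q ∈ zOf G Adj (F 2) := by
    have hci := h.zOf_inv hcO.mem
    by_cases c1 : c ∈ kern Adj (F 1)
    · have hcT : c ∈ edgeT G (F 0) (F 1) := edgeT_comm (G := G) (F 1) (F 0) ▸ kern_le (dn 0 (by omega)) c1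
      by_cases c0 : c ∈ kern Adj (F 0)
      · rw [hqd, hxd, ← zOf_comm_kern hdo.mem c0, mul_inv_cancel_right, h.zOf_sq hcO.mem]
        exact one_mem _
      · have := inv_mem (h.fold_mem h0A (up 0 (by omega)) hdo.mem hcT c0)
        rw [show (d * (c * d * c⁻¹))⁻¹ = c * d⁻¹ * c⁻¹ * d⁻¹ by group, hci, hdi] at this
        refine h.wOf_le (hA 2 (by omega) ⟨1, rfl⟩) (dn 1 (by omega)) ?_
        rw [hqd, hxd, hdi, ← mul_assoc, ← mul_assoc]
        exact this
    · have h12 := up 1 (by omega)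
      have n0 : c • F 0 ≠ F 0 :=
        h.moves h12 (dn 0 (by omega)) (hw.ne 0 (by omega)) (mem_edgeT.2 hc0T) c1
      have n2' : c • F 0 ≠ F 2 := fun e => hw.ne 0 (by omega) (smul_left_cancel c (e.trans hc2.1.symm)).symm
      have hO : Out G Adj (F 1) (c • F 0) (c * d * c⁻¹) := hc1 ▸ h.out_conj c hdo
      have := h.jZero_out hd hj (hB 1 (by omega) odd_one) (h.smul_adj hc1 (dn 0 (by omega))) (dn 0 (by omega))
        h12 n0 n2' (Ne.symm (hw.ne 0 (by omega))) hO hdo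
      have he : q = c * d * c⁻¹ * d := by rw [hqd, hxd, hci, hdi]; group
      exact he ▸ this.mem
  have hv0 : Adj third (d • y • F 2) := hdG ▸ h.smul d (h.smul y (dn 2 (by omega)))
  have hvA : ty (d • y • F 2) = true := by rw [h.ty_smul', h.ty_smul']; exact hA 2 (by omega) ⟨1, rfl⟩
  have hxv : x ∈ zOf G Adj (d • y • F 2) := hxd ▸ h.conj_zOf d hcO.mem
  have hx7 : x ∈ kern Adj (F 7) := h.le_kern hd.toIsDist (n := 3) (by omega) hvA
    (near_cons (h.symm hv0) (near_cons (h.symm h3) (near_one (up 6 (by omega))))) hxv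
  have hq7 : q ∉ kern Adj (F 7) := by
    rw [hqd]
    intro hq7
    have hc7 := (mul_mem_cancel_right hx7).1 hq7
    have := h.conj_kern y⁻¹ hc7
    rw [inv_smul_eq_iff.2 hy7.symm, hcd, inv_inv, show y⁻¹ * (y * a * y⁻¹) * y = a by group] at this
    exact h.out_crit hd hF.w2 (show Out G Adj (F (1 + 2)) (F (0 + 2)) a from ha) this
  have hx9 : x ∈ kern Adj (F 9) := by
    by_contra hx9
    have hv6 : d • y • F 2 ≠ F 6 := fun e => hw.ne 2 (by omega)
      (smul_left_cancel y (smul_left_cancel d (e.trans hdO.symm))).symm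
    have hg : Crit G Adj ty 5 (six (d • y • F 2) third (F 6) (F 7) (F 8) (F 9)) :=
      ⟨six_walk (h.symm hv0) (h.symm h3) (up 6 (by omega)) (up 7 (by omega)) (up 8 (by omega)) (Ne.symm hv6)
        (Ne.symm n7) (hw.ne 6 (by omega)) (hw.ne 7 (by omega)), hvA, fun e => hx9 (e hxv)⟩
    exact h.outer_not_le hd hg (w := F 10) (up 9 (by omega)) (hw.ne 8 (by omega))
      (h.sibling_le hd hj hF.v10 (v := third) h3 n5 n7)
  have hW3 : ∀ p ∈ zOf G Adj (F 3), p ∈ kern Adj (F 7) := fun p hp =>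
    h.w_le_kern hd.toIsDist (n := 4) (by omega) (hB 3 (by omega) ⟨1, rfl⟩) (hw.near (i := 3) (j := 7) (by omega) (by omega)) hp
  have hqO : Out G Adj (F 3) (F 2) q := ⟨hq2, fun e => hq7 (hW3 q e)⟩
  have haq := h.out_mul hd (hB 3 (by omega) ⟨1, rfl⟩) (dn 2 (by omega)) hqO ha
  rcases h.wOf_cases hk (hB 3 (by omega) ⟨1, rfl⟩) haq with e | e
  · rw [hcomm]
    have hqa : q = a := by rw [eq_inv_of_mul_eq_one_left e, hai]
    rw [← hqa, hqd, ← mul_assoc, h.zOf_sq hcO.mem, one_mul]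
  · exfalso
    have hp9 : a * c ∈ kern Adj (F 9) := by
      have h7 := h.tri hd hj hF.w2 (show Out G Adj (F (1 + 2)) (F (0 + 2)) a from ha) (w := F 8) (γ := F 9)
        (u := F 10) (up 7 (by omega)) (hw.ne 6 (by omega)) (up 8 (by omega)) (hw.ne 7 (by omega)) (up 9 (by omega))
        (hw.ne 8 (by omega))
      have h2 := (h.crit_smul_iff a).2 h7
      rw [← mul_smul a a, h.zOf_sq ha.mem, one_smul] at h2
      have hac : a * c = a * y * a⁻¹ * y := by rw [hcd, hyi, hai]; group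
      rw [hac]
      exact mul_mem (h2 (h.conj_zOf a hy.mem)) (hyk 1 (by omega))
    refine h.out_crit hd hF.w4 (a := rOf G Adj (F 3))
      (h.out_rOf (hA 4 (by omega) ⟨2, rfl⟩) (up 4 (by omega)) (dn 3 (by omega)) (Ne.symm (hw.ne 3 (by omega)))) ?_
    rw [← e, h.zOf_comm hq2 ha.mem, hqd, ← mul_assoc]
    exact mul_mem hp9 hx9

theorem no_five : False := by
  obtain ⟨f, hc⟩ := hd.attained
  have hf := hc.walk
  obtain ⟨w6, hw6, hw6n, -⟩ := h.sym hd hc
  obtain ⟨m1, hm1, hm11, hp1⟩ := h.exists_pred hd hc le_rfl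
  obtain ⟨m2, hm2, hm20⟩ := h.exists_nbr_ne (x := m1) (f 0)
  have hc2 := hp1 m2 hm2 hm20
  obtain ⟨m3, hm3, hm31, hp2⟩ := h.exists_pred hd hc2 le_rfl
  obtain ⟨m4, hm4, hm40⟩ := h.exists_nbr_ne (x := m3) m2
  have hc4 := hp2 m4 hm4 hm40
  have hb := h.crit_back hd hc hw6 hw6n
  obtain ⟨s7, hs7, hs75, hp3⟩ := h.exists_pred hd hb le_rfl
  obtain ⟨s8, hs8, hs86⟩ := h.exists_nbr_ne (x := s7) w6
  have hc8 := hp3 s8 hs8 hs86
  obtain ⟨F, hFd⟩ : ∃ F : ℕ → V, F = pre m4 (pre m3 (pre m2 (pre m1 (pre (f 0) (pre (f 1) (pre (f 2) (pre (f 3)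
    (pre (f 4) (pre (f 5) (pre w6 (pre s7 fun _ => s8))))))))))) := ⟨_, rfl⟩
  have hbw : w6 ≠ f 4 := hw6n
  have hF : IsWalk Adj 12 F := by
    rw [hFd]
    exact ((((((((((((show IsWalk Adj 0 (fun _ => s8) from
      ⟨fun i hi => absurd hi (by omega), fun i hi => absurd hi (by omega)⟩).cons hs8 (by omega)).cons hs7
        fun _ => hs86).cons hw6 fun _ => hs75).cons (hf.adj 4 (by omega)) fun _ => hbw).cons (hf.adj 3 (by omega))
        fun _ => hf.ne 3 (by omega)).cons (hf.adj 2 (by omega)) fun _ => hf.ne 2 (by omega)).cons (hf.adj 1 (by omega))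
        fun _ => hf.ne 1 (by omega)).cons (hf.adj 0 (by omega)) fun _ => hf.ne 0 (by omega)).cons (h.symm hm1)
        fun _ => Ne.symm hm11).cons (h.symm hm2) fun _ => Ne.symm hm20).cons (h.symm hm3) fun _ => Ne.symm hm31).cons
        (h.symm hm4) fun _ => Ne.symm hm40
  have conv : ∀ (g g' : ℕ → V), IsWalk Adj 5 g' → (g 0 = g' 0) → (g 5 = g' 5) → Crit G Adj ty 5 g →
      Crit G Adj ty 5 g' := fun g g' hg e0 e5 hc' =>
    ⟨hg, e0 ▸ hc'.start, e0 ▸ e5 ▸ hc'.not_le⟩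
  have hrev : IsWalk Adj 12 (fun i => F (12 - i)) := h.walk_rev hF
  have hv12 : IsWalk Adj 5 (fun i => F (12 - i)) := hrev.mono (by omega)
  have hv10 : IsWalk Adj 5 (fun i => F (10 - i)) := by
    have := hrev.shift (m := 5) (k := 2) (by omega)
    convert this using 2 with i
    congr 1; omega
  have hv8 : IsWalk Adj 5 (fun i => F (8 - i)) := by
    have := hrev.shift (m := 5) (k := 4) (by omega)
    convert this using 2 with i
    congr 1; omega
  have hWin : Win G Adj ty F := by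
    refine ⟨hF, conv _ _ (hF.mono (by omega)) ?_ ?_ hc4, conv _ _ (hF.shift (by omega)) ?_ ?_ hc2,
      conv _ _ (hF.shift (by omega)) ?_ ?_ hc, conv _ _ hv12 ?_ ?_ hc8, conv _ _ hv10 ?_ ?_ hb,
      conv _ _ hv8 ?_ ?_ (h.crit_back hd hc2 (w := f 4) (hf.adj 3 (by omega)) (hf.ne 2 (by omega)))⟩
    all_goals (rw [hFd]; rfl)
  obtain ⟨a', b', ha', hb', n1, n2, n3, -⟩ := h.exists_two (F 6) (h.symm (hF.adj 5 (by omega)))
  obtain ⟨third, ht, t5, t7⟩ : ∃ third, Adj (F 6) third ∧ third ≠ F 5 ∧ third ≠ F 7 := by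
    by_cases e : a' = F 7
    · exact ⟨b', hb', n2, fun e' => n3 (e.trans e'.symm)⟩
    · exact ⟨a', ha', n1, e⟩
  obtain ⟨e, e3, e4, e5, er⟩ := h.half hd hj hWin ht t5 t7
  obtain ⟨e', f3, f4, f5, fr⟩ := h.half hd hj (h.win_mirror hWin) ht t7 t5
  change e' • F 9 = third at f3
  change e' • F 8 = F 6 at f4
  change e' • F 7 = F 7 at f5
  change rOf G Adj (e' • F 11) = rOf G Adj (F 11) * (rOf G Adj (F 1) * rOf G Adj (F 11) * rOf G Adj (F 1)) at fr
  have hB : ∀ i ≤ 12, Odd i → ∀ g : G, ty (g • F i) = false := fun i hi ho g =>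
    (h.ty_smul' g _).trans (h.ty_odd hF hWin.w0.start hi ho)
  have hA : ∀ i ≤ 12, Even i → ∀ g : G, ty (g • F i) = true := fun i hi he g =>
    (h.ty_smul' g _).trans ((h.ty_idx hF hWin.w0.start hi).2 he)
  have hk := h.kOne_odd hd
  have hr : rOf G Adj (e • F 1) = rOf G Adj (e' • F 11) := by
    rw [fr, ← h.zOf_inv (h.rOf_spec (e • F 1)).1, er, mul_inv_rev, mul_inv_rev, mul_inv_rev,
      h.zOf_inv (h.rOf_spec (F 1)).1, h.zOf_inv (h.rOf_spec (F 11)).1]
    group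
  have a21 : Adj (e • F 2) (e • F 1) := h.smul e (h.symm (hF.adj 1 (by omega)))
  have a10 : Adj (e' • F 10) (e' • F 11) := h.smul e' (hF.adj 10 (by omega))
  have t2 : Adj third (e • F 2) := e3 ▸ h.smul e (h.symm (hF.adj 2 (by omega)))
  have t10 : Adj third (e' • F 10) := f3 ▸ h.smul e' (hF.adj 9 (by omega))
  have h3B : ty third = false := e3 ▸ hB 3 (by omega) ⟨1, rfl⟩ e
  have e13 : e • F 1 ≠ third := fun q => hF.ne 1 (by omega) (smul_left_cancel e (q.trans e3.symm)).symm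
  by_cases hv : e • F 2 = e' • F 10
  swap
  · have hm := h.zOf_inter h3B t2 t10 hv (h.wOf_le (hA 2 (by omega) ⟨1, rfl⟩ e) a21 (h.rOf_spec _).1)
      (hr ▸ h.wOf_le (hA 10 (by omega) ⟨5, rfl⟩ e') a10 (h.rOf_spec _).1)
    exact h.rOf_inj hk (hA 2 (by omega) ⟨1, rfl⟩ e) a21 (h.symm t2) e13 (h.rOf_eq hk h3B hm (h.rOf_spec _).2)
  have hγ : e • F 1 = e' • F 11 := by
    by_contra hne
    exact h.rOf_inj hk (hA 2 (by omega) ⟨1, rfl⟩ e) a21 (hv ▸ a10) hne hr
  have g1 := h.crit_smul e hWin.w0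
  have g2 := h.crit_smul e' hWin.v12
  have h02 : e • F 0 ≠ e • F 2 := fun q => hF.ne 0 (by omega) (smul_left_cancel e q).symm
  have hx := (h.both_outer hd g2 (x := e • F 0)
    (by show Adj (e' • F 11) (e • F 0); rw [← hγ]; exact h.smul e (h.symm (hF.adj 0 (by omega))))
    (by show e • F 0 ≠ e' • F 10; rw [← hv]; exact h02)).not_le
  refine hx ?_
  show zOf G Adj (e • F 0) ≤ kern Adj (e' • F 7)
  rw [f5]
  exact h.sibling_le hd hj g1 (v := F 7) (by show Adj (e • F 4) (F 7); rw [e4]; exact hF.adj 6 (by omega))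
    (by show F 7 ≠ e • F 5; rw [e5]; exact hF.ne 5 (by omega))
    (by show F 7 ≠ e • F 3; rw [e3]; exact Ne.symm t7)

end Cub

end CfsgLib.LS.CubicBound
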