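import Cfsg.Agent.Lib.LocalStructure.CubicBound.ThreeKernel

/-!
# Critical distance three: the bound
-/

set_option autoImplicit false
set_option linter.style.haveILetI false
set_option linter.unusedSectionVars false

open Subgroup MulAction

namespace CfsgLib.LS.CubicBound

open CfsgLib.LS.ActiveCenter
open CfsgLib.LS.ActiveCenter.Geo (zOf kern_le edgeA_le_zOf zOf_comm_kern)

universe u v

variable {G : Type u} {V : Type v} [Group G] [MulAction G V] {Adj : V → V → Prop} {ty : V → Bool}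

namespace Cub

variable (h : Cub G Adj ty) (hd : OddDist G Adj ty 3) (hj : JZero G Adj ty)
include h hd hj

section conf

variable {δ w p q : V} {y y' o : G} (hC : Conf G Adj ty δ w p q y y' o)
include hC

/-- the commutator with `y'` -/
theorem conf_psi {c : G} (hc : c ∈ dOf G Adj δ) :
    c * y' * c⁻¹ * y'⁻¹ ∈ zOf G Adj w ∧
      y' * c * y'⁻¹ = c * (c * y' * c⁻¹ * y'⁻¹) ∧ c⁻¹ * y' * c = (c * y' * c⁻¹ * y'⁻¹) * y' := by
  obtain ⟨-, -, -, -, -, hy'k, -, hy'V⟩ := h.conf_y hd hC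
  have hv := h.dOf_com hd hj hC.tyB hC.hw hC.hq hC.nq hc hy'V
  obtain ⟨v, hvd⟩ : ∃ v, v = c * y' * c⁻¹ * y'⁻¹ := ⟨_, rfl⟩
  rw [← hvd] at hv ⊢
  have hvi : v⁻¹ = v := h.zOf_inv hv
  have hcv : c * v = v * c := h.dOf_comm hc (zOf_le_vOf hC.hw hv)
  have e1 : y' * c * y'⁻¹ = v⁻¹ * c := by rw [hvd]; group
  refine ⟨hv, ?_, ?_⟩
  · rw [e1, hvi, hcv]
  · have h1 : c * y' = v * y' * c := by rw [hvd]; group
    calc c⁻¹ * y' * c = c⁻¹ * v⁻¹ * (v * y' * c) := by group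
      _ = (v * c)⁻¹ * (c * y') := by rw [← h1]; group
      _ = (c * v)⁻¹ * (c * y') := by rw [hcv]
      _ = v⁻¹ * y' := by group
      _ = v * y' := by rw [hvi]

/-- the two possible images of `o • p` -/
theorem conf_move {g c v' : G} (hg : g • δ = δ) (hgu : g • o • w = o • o • w) (hc : c ∈ dOf G Adj δ)
    (hco : o * c = c * o) (hcy : c * y = y * c) (hgc : g * c * g⁻¹ = c * v') (hv' : v' ∈ zOf G Adj w) :
    (g • o • p = y • o • p → v' ∈ zOf G Adj δ) ∧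
      (g • o • p ≠ y • o • p → c * y' * c⁻¹ * y'⁻¹ = 1 ∨ c * y' * c⁻¹ * y'⁻¹ = rOf G Adj p) := by
  obtain ⟨hwA, hpB, hqB⟩ := h.conf_ty hC
  obtain ⟨n1, n2, h1, h2, -⟩ := h.conf_arms hC
  obtain ⟨hyT, hyq, -, hyV, hy2, -, -, hy'V⟩ := h.conf_y hd hC
  have hcp : c ∈ dOf G Adj p := h.conf_comm_dOf hd hC hc hcy hj
  have hcop : c ∈ dOf G Adj (o • p) := by
    have := h.dOf_conj o hcp
    rwa [hco, mul_inv_cancel_right] at this
  have hgop : c * v' ∈ dOf G Adj (g • o • p) := hgc ▸ h.dOf_conj g hcop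
  have hyu : y • o • w = o • o • w :=
    h.swap_eq hC.hw h1 h2 (Ne.symm hC.omove) (Ne.symm n1) (Ne.symm n2) hyT hyq
  have hyδ : y • δ = δ := (mem_edgeT.1 hyT).1
  have hXadj : Adj (o • o • w) (y • o • p) := hyu ▸ h.smul y (h.smul o hC.hp)
  have hX'adj : Adj (o • o • w) (y • o • q) := hyu ▸ h.smul y (h.smul o hC.hq)
  have hXne : ∀ r, r ≠ δ → y • o • r ≠ δ := fun r hr e =>
    hr (smul_left_cancel o ((smul_left_cancel y (e.trans hyδ.symm)).trans hC.ofix.symm))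
  refine ⟨fun e => ?_, fun e => ?_⟩
  · rw [e] at hgop
    have hcX : c ∈ dOf G Adj (y • o • p) := by
      have := h.dOf_conj y hcop
      rwa [← hcy, mul_inv_cancel_right] at this
    by_contra hne
    exact h.out_not_kern hd hC.tyB hC.hw h2 hXadj (Ne.symm n1) (hXne p hC.np) ⟨hv', hne⟩
      (mem_dOf.1 ((mul_mem_cancel_left hcX).1 hgop)).1
  · obtain ⟨v, hvd⟩ : ∃ v, v = c * y' * c⁻¹ * y'⁻¹ := ⟨_, rfl⟩
    obtain ⟨hv, -, hv2⟩ := h.conf_psi hd hj hC hc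
    rw [← hvd] at hv hv2 ⊢
    have hgX : g • o • p = y • o • q := by
      have hadj : Adj (o • o • w) (g • o • p) := hgu ▸ h.smul g (h.smul o hC.hp)
      rcases h.adj_cases (h.symm h2) hXadj hX'adj (Ne.symm (hXne p hC.np)) (Ne.symm (hXne q hC.nq))
        (fun e' => hC.npq (smul_left_cancel o (smul_left_cancel y e'))) hadj with e' | e' | e'
      · exact absurd (smul_left_cancel o ((smul_left_cancel g (e'.trans hg.symm)).trans hC.ofix.symm)) hC.np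
      · exact absurd e' e
      · exact e'
    rw [hgX] at hgop
    obtain ⟨x', hx', hx'w, hy'⟩ := hC.outy'
    obtain ⟨k, hk⟩ : ∃ k, k = y * o := ⟨_, rfl⟩
    obtain ⟨e', he'⟩ : ∃ e', e' = k * y' * k⁻¹ := ⟨_, rfl⟩
    have hkδ : k • δ = δ := by rw [hk, mul_smul, hC.ofix, hyδ]
    have hkw : k • w = o • o • w := by rw [hk, mul_smul, hyu]
    have hkq : k • q = y • o • q := by rw [hk, mul_smul]
    have hkp : k • p = y • o • p := by rw [hk, mul_smul]
    have hOut : Out G Adj (k • q) (k • x') e' := he' ▸ h.out_conj k hy'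
    have hck : Commute c k := hk ▸ (show Commute c y from hcy).mul_right (show Commute c o from hco.symm)
    have ec : c⁻¹ * e' * c = (k * v * k⁻¹) * e' := by
      calc c⁻¹ * e' * c = (c⁻¹ * k * c) * (c⁻¹ * y' * c) * (c⁻¹ * k * c)⁻¹ := by rw [he']; group
        _ = k * (v * y') * k⁻¹ := by rw [mul_assoc c⁻¹, ← hck.eq, inv_mul_cancel_left, hv2]
        _ = _ := by rw [he']; group
    have hcom : c * v' * e' = e' * (c * v') :=
      h.dOf_comm hgop (hkq ▸ zOf_le_vOf (h.smul k hx') hOut.mem)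
    have ec' : k * v * k⁻¹ = v' * (e' * v' * e'⁻¹) := by
      have h3 : c⁻¹ * e' * c = v' * e' * v'⁻¹ := by
        calc c⁻¹ * e' * c = c⁻¹ * (e' * (c * v')) * v'⁻¹ := by group
          _ = c⁻¹ * (c * v' * e') * v'⁻¹ := by rw [hcom]
          _ = _ := by group
      rw [ec] at h3
      rw [eq_mul_inv_of_mul_eq h3, h.zOf_inv hv', h.zOf_inv hOut.mem]
      group
    by_cases hvW : v' ∈ zOf G Adj δ
    · left
      have he : e' • δ = δ := (h.vOf_le_kern_nbr hd ((h.ty_smul' k q).trans hqB)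
        (hkq ▸ h.symm hX'adj) (zOf_le_vOf (h.smul k hx') hOut.mem)).2 δ (h.symm h2)
      rw [h.wOf_central hC.tyB hvW he, mul_inv_cancel_right, h.zOf_sq hv'] at ec'
      exact conj_eq_one_iff.1 ec'
    · right
      have hu2A : ty (o • o • w) = true := h.tyA h2 hC.tyB
      have hR := h.com_three hd hj hu2A (h.symm h2) hX'adj hXadj (Ne.symm (hXne q hC.nq)) (Ne.symm (hXne p hC.np))
        (fun e'' => hC.npq (smul_left_cancel o (smul_left_cancel y e'')).symm) hC.hw (Ne.symm n1)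
        (hkq ▸ h.smul k hx') (fun e'' => hx'w (smul_left_cancel k (e''.trans hkw.symm)))
        ⟨hv', hvW⟩ (hkq ▸ hOut)
      rw [hR, ← hkp, h.rOf_smul (h.kOne_odd hd) k hpB] at ec'
      exact conj_injective ec'

/-- all nontrivial values agree -/
theorem conf_psi_unique {a c : G} (ha : a ∈ dOf G Adj δ) (hao : o * a = a * o) (hay : a * y = y * a)
    (hc : c ∈ dOf G Adj δ) (hco : o * c = c * o) (hcy : c * y = y * c) (ha1 : a * y' * a⁻¹ * y'⁻¹ ≠ 1)
    (hc1 : c * y' * c⁻¹ * y'⁻¹ ≠ 1) : a * y' * a⁻¹ * y'⁻¹ = c * y' * c⁻¹ * y'⁻¹ := by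
  classical
  obtain ⟨hwA, hpB, hqB⟩ := h.conf_ty hC
  obtain ⟨n1, n2, h1, h2, -⟩ := h.conf_arms hC
  obtain ⟨-, -, -, -, -, hy'k, hy'q, -⟩ := h.conf_y hd hC
  have hy'δ : y' • δ = δ := hy'k.2 δ (h.symm hC.hw)
  have hgu : y' • o • w = o • o • w :=
    h.swap_eq hC.hw h1 h2 (Ne.symm hC.omove) (Ne.symm n1) (Ne.symm n2) (mem_edgeT.2 ⟨hy'δ, hy'k.1⟩) hy'q
  have key : ∀ d, d ∈ dOf G Adj δ → o * d = d * o → d * y = y * d → d * y' * d⁻¹ * y'⁻¹ ≠ 1 →
      d * y' * d⁻¹ * y'⁻¹ = if y' • o • p = y • o • p then rOf G Adj δ else rOf G Adj p := by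
    intro d hd1 hd2 hd3 hd4
    obtain ⟨hv, he, -⟩ := h.conf_psi hd hj hC hd1
    obtain ⟨m1, m2⟩ := h.conf_move hd hj hC hy'δ hgu hd1 hd2 hd3 he hv
    split
    · rename_i e
      exact h.rOf_eq (h.kOne_odd hd) hC.tyB (m1 e) hd4
    · rename_i e
      exact (m2 e).resolve_left hd4
  rw [key a ha hao hay ha1, key c hc hco hcy hc1]

theorem conf_ker {c : G} (hc : c ∈ dOf G Adj δ) (hco : o * c = c * o) (hcy : c * y = y * c)
    (hcy' : c * y' * c⁻¹ * y'⁻¹ = 1) : c ∈ zOf G Adj δ := by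
  obtain ⟨-, -, -, -, -, -, -, -⟩ := h.conf_y hd hC
  refine h.kOf_le hd hj hC.tyB (h.conf_kOf hd hj hC hc hco (h.conf_comm_dOf hd hC hc hcy hj) ?_)
  obtain ⟨hwA, hpB, hqB⟩ := h.conf_ty hC
  obtain ⟨x', hx', hx'w, hy'⟩ := hC.outy'
  have hcy2 : c * y' = y' * c := mul_inv_eq_iff_eq_mul.1 (mul_inv_eq_one.1 hcy')
  have hgw := (mem_dOf.1 hc).2 w hC.hw
  have hgq : c • q = q := hgw.2 q hC.hq
  refine h.dOf_of_comm hd hqB hgq fun r hr a ha => ?_
  have hgx : ∀ a ∈ zOf G Adj x', c * a = a * c := by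
    intro a ha
    by_cases haW : a ∈ zOf G Adj q
    · exact h.wOf_central hqB haW hgq
    · have h3 : Commute c (a * y') := h.wOf_central hqB (h.out_mul hd hqB hx' ⟨ha, haW⟩ hy') hgq
      have := h3.mul_right (show Commute c y' from hcy2)
      rw [mul_assoc, h.zOf_sq hy'.mem, mul_one] at this
      exact this.eq
  have hle : zOf G Adj w ⊔ zOf G Adj x' ≤ centralizer ({c} : Set G) :=
    sup_le (fun e he => mem_centralizer_singleton_iff.2 (zOf_comm_kern he hgw).symm)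
      fun e he => mem_centralizer_singleton_iff.2 (hgx e he).symm
  exact (mem_centralizer_singleton_iff.1
    (hle (h.vOf_le_sup hd hj hqB (h.symm hC.hq) hx' (Ne.symm hx'w) (zOf_le_vOf hr ha)))).symm

/-- if some element of `C` moves `y`, the commutators with `y'` vanish -/
theorem conf_psi_one {f : G} (hf : f ∈ dOf G Adj δ) (hfo : o * f = f * o) (hfy : f * y ≠ y * f) {c : G}
    (hc : c ∈ dOf G Adj δ) (hco : o * c = c * o) (hcy : c * y = y * c) : c * y' * c⁻¹ * y'⁻¹ = 1 := by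
  by_contra hne
  obtain ⟨hwA, hpB, hqB⟩ := h.conf_ty hC
  obtain ⟨n1, n2, h1, h2, -⟩ := h.conf_arms hC
  obtain ⟨hyT, hyq, hyk, hyV, hy2, hy'k, -, hy'V⟩ := h.conf_y hd hC
  have hk := h.kOne_odd hd
  obtain ⟨x, hx, hxw, hy⟩ := hC.outy
  obtain ⟨x', hx', hx'w, hy'⟩ := hC.outy'
  obtain ⟨t, ht, htq⟩ := h.swap hC.hq
  obtain ⟨htw, htQ⟩ := mem_edgeT.1 ht
  have htδ : t • δ = p :=
    h.swap_eq hC.hq (h.symm hC.hw) hC.hp hC.nq (Ne.symm hC.npq) (Ne.symm hC.np) ht htq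
  have htp : t • p = δ :=
    h.swap_eq hC.hq hC.hp (h.symm hC.hw) (Ne.symm hC.npq) hC.nq hC.np ht htq
  -- the conjugate of `f`
  obtain ⟨f', hf'd⟩ : ∃ f', f' = t * f * t⁻¹ := ⟨_, rfl⟩
  obtain ⟨z, hzd⟩ : ∃ z, z = t * y * t⁻¹ := ⟨_, rfl⟩
  have hzO : Out G Adj δ (t • x) z := hzd ▸ htp ▸ h.out_conj t hy
  have htx : Adj δ (t • x) := htp ▸ h.smul t hx
  have htxw : t • x ≠ w := fun e => hxw (smul_left_cancel t (e.trans htw.symm))
  have hfn : f * y * f⁻¹ * y⁻¹ = rOf G Adj δ := h.rOf_eq hk hC.tyB (h.conf_com_c hd hj hC hf hfo)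
    fun e => hfy (mul_inv_eq_iff_eq_mul.1 (mul_inv_eq_one.1 e))
  have hf'z : f' * z * f'⁻¹ = rOf G Adj p * z := by
    rw [← htδ, h.rOf_smul hk t hC.tyB, ← hfn, hf'd, hzd]
    group
  have hf'D : f' ∈ dOf G Adj p := hf'd ▸ htδ ▸ h.dOf_conj t hf
  have hf'w : f' ∈ kern Adj w := (mem_dOf.1 hf'D).2 w (h.symm hC.hp)
  have hf'δ : f' • δ = δ := hf'w.2 δ (h.symm hC.hw)
  have hrp : rOf G Adj p ∈ zOf G Adj w := h.wOf_le hwA hC.hp (h.rOf_spec p).1
  have hf'q : f' ∉ kern Adj δ := by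
    intro e
    have := h.conj_zOf f' hzO.mem
    rw [e.2 _ htx, hf'z] at this
    have hr := h.zOf_inter hC.tyB htx hC.hw htxw ((mul_mem_cancel_right hzO.mem).1 this) hrp
    exact (h.rOf_spec p).2 (h.wOf_inter hwA hC.hp (h.symm hC.hw) hC.np (h.rOf_spec p).1 hr)
  have hf'u : f' • o • w = o • o • w :=
    h.swap_eq hC.hw h1 h2 (Ne.symm hC.omove) (Ne.symm n1) (Ne.symm n2) (mem_edgeT.2 ⟨hf'δ, hf'w.1⟩) hf'q
  have hu1A : ty (o • w) = true := h.tyA h1 hC.tyB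
  have hop : Adj (o • w) (o • p) := h.smul o hC.hp
  have hopne : o • p ≠ δ := fun e => hC.np (smul_left_cancel o (e.trans hC.ofix.symm))
  have heO : Out G Adj δ (o • w) (rOf G Adj (o • p)) := h.out_rOf hu1A (h.symm h1) hop hopne
  have hf'e : f' * rOf G Adj (o • p) * f'⁻¹ = rOf G Adj p * rOf G Adj (o • p) := by
    obtain ⟨a, ha, e, he, hae⟩ :=
      h.vOf_split hd hj hC.tyB hC.hw htx (Ne.symm htxw) (zOf_le_vOf h1 heO.mem)
    have heW : e ∉ zOf G Adj δ := fun e' => heO.not_mem (h.zOf_inter hC.tyB h1 hC.hw hC.omove heO.mem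
      (hae ▸ mul_mem ha (h.wOf_le hwA (h.symm hC.hw) e')))
    have hez := h.out_mul hd hC.tyB htx ⟨he, heW⟩ hzO
    obtain ⟨m, hm⟩ : ∃ m, m = a * (e * z) := ⟨_, rfl⟩
    have hmw : m ∈ zOf G Adj w := hm ▸ mul_mem ha (h.wOf_le hwA (h.symm hC.hw) hez)
    have hre : rOf G Adj (o • p) = m * z := by
      rw [hm, hae, show a * (e * z) * z = a * e * (z * z) by group, h.zOf_sq hzO.mem, mul_one]
    rw [hre, show f' * (m * z) * f'⁻¹ = (f' * m * f'⁻¹) * (f' * z * f'⁻¹) by group, zOf_comm_kern hmw hf'w,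
      mul_inv_cancel_right, hf'z, ← mul_assoc, h.zOf_comm hmw hrp, mul_assoc]
  have hkB : ty (o • p) = false := (h.ty_smul' o p).trans hpB
  have hX' : f' • o • p ≠ y • o • p := by
    intro e
    have e1 : rOf G Adj (f' • o • p) = rOf G Adj p * rOf G Adj (o • p) := by rw [h.rOf_smul hk f' hkB, hf'e]
    have hR := h.com_three hd hj hwA (h.symm hC.hw) hC.hp hC.hq (Ne.symm hC.np) (Ne.symm hC.nq) hC.npq h1 hC.omove
      hx hxw heO hy
    have e2 : rOf G Adj (y • o • p) = rOf G Adj q * rOf G Adj (o • p) := by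
      have hrq := h.wOf_le hwA hC.hq (h.rOf_spec q).1
      have hc1 := h.comm_at hd hC.tyB hC.hw h1 hrq heO.mem
      rw [h.rOf_smul hk y hkB, hc1, ← hR, ← mul_assoc, h.zOf_sq heO.mem, one_mul]
    rw [e, e2] at e1
    exact h.rOf_inj hk hwA hC.hp hC.hq hC.npq (mul_right_cancel e1).symm
  have all : ∀ d, d ∈ dOf G Adj δ → o * d = d * o → d * y = y * d → d * y' * d⁻¹ * y'⁻¹ ≠ 1 →
      d * y' * d⁻¹ * y'⁻¹ = rOf G Adj p := by
    intro d d1 d2 d3 d4
    have hdp : d ∈ dOf G Adj p := h.conf_comm_dOf hd hC d1 d3 hj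
    have g1 := h.dOf_conj f' d1
    rw [hf'δ] at g1
    have g2 := h.dOf_conj f' hdp
    rw [hf'w.2 p hC.hp] at g2
    obtain ⟨c2, z2, c21, c22, c23, hz2, he⟩ := h.conf_two_split hd hj hC g1 g2
    have c24 : c2 * y' * c2⁻¹ * y'⁻¹ ≠ 1 := by
      intro e
      have hw2 := h.conf_ker hd hj hC c21 c22 c23 e
      have hmem : f' * d * f'⁻¹ ∈ zOf G Adj w := he ▸ mul_mem (h.wOf_le hwA (h.symm hC.hw) hw2) hz2
      have h3 := h.conj_zOf f'⁻¹ hmem
      rw [inv_smul_eq_iff.2 hf'w.1.symm, show f'⁻¹ * (f' * d * f'⁻¹) * f'⁻¹⁻¹ = d by group] at h3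
      have hd' := h.conf_fixed hd hj hC (zOf_le_vOf hC.hw h3) d2
      refine d4 ?_
      rw [h.dOf_comm (h.vOf_le_dOf hd hqB (zOf_le_vOf (h.symm hC.hq) h3)) hy'V]
      group
    have hpsi := h.conf_psi_unique hd hj hC d1 d2 d3 c21 c22 c23 d4 c24
    have hcc : d⁻¹ * c2 ∈ zOf G Adj δ := by
      refine h.conf_ker hd hj hC (mul_mem (inv_mem d1) c21)
        (((show Commute o d from d2).inv_right).mul_right (show Commute o c2 from c22)).eq
        (((show Commute d y from d3).inv_left).mul_left (show Commute c2 y from c23)).eq ?_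
      obtain ⟨v, hv⟩ : ∃ v, v = d * y' * d⁻¹ * y'⁻¹ := ⟨_, rfl⟩
      have hvc := (h.conf_psi hd hj hC d1).1
      rw [← hv] at hvc
      have e3 : c2 * y' * c2⁻¹ = d * y' * d⁻¹ := by
        have := hpsi.symm
        rwa [mul_left_inj] at this
      rw [show d⁻¹ * c2 * y' * (d⁻¹ * c2)⁻¹ * y'⁻¹ = d⁻¹ * (c2 * y' * c2⁻¹) * d * y'⁻¹ by group, e3]
      group
    have hv' : d⁻¹ * c2 * z2 ∈ zOf G Adj w := mul_mem (h.wOf_le hwA (h.symm hC.hw) hcc) hz2
    obtain ⟨-, m2⟩ := h.conf_move hd hj hC hf'δ hf'u d1 d2 d3 (by rw [he]; group) hv'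
    exact (m2 hX').resolve_left d4
  have hψ := all c hc hco hcy hne
  -- the swap of `δ` and `p`
  have g1 : t * c * t⁻¹ ∈ dOf G Adj p := htδ ▸ h.dOf_conj t hc
  have g2 : t * c * t⁻¹ ∈ dOf G Adj δ := htp ▸ h.dOf_conj t (h.conf_comm_dOf hd hC hc hcy hj)
  obtain ⟨c1, z1, c11, c12, c13, hz1, he⟩ := h.conf_two_split hd hj hC g2 g1
  obtain ⟨y2, hy2d⟩ : ∃ y2, y2 = t * y' * t⁻¹ := ⟨_, rfl⟩
  have hy2O : Out G Adj q (t • x') y2 := hy2d ▸ htQ ▸ h.out_conj t hy'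
  have htx' : Adj q (t • x') := htQ ▸ h.smul t hx'
  obtain ⟨a, ha, e, hee, hae⟩ :=
    h.vOf_split hd hj hqB (h.symm hC.hq) hx' (Ne.symm hx'w) (zOf_le_vOf htx' hy2O.mem)
  have heW : e ∉ zOf G Adj q := fun e' => hy2O.not_mem (h.zOf_inter hqB htx' (h.symm hC.hq)
    (fun e'' => hx'w (smul_left_cancel t (e''.trans htw.symm))) hy2O.mem
    (hae ▸ mul_mem ha (h.wOf_le hwA hC.hq e')))
  obtain ⟨m, hm⟩ : ∃ m, m = a * (e * y') := ⟨_, rfl⟩
  have hmw : m ∈ zOf G Adj w := hm ▸ mul_mem ha (h.wOf_le hwA hC.hq (h.out_mul hd hqB hx' ⟨hee, heW⟩ hy'))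
  have hy2e : y2 = m * y' := by
    rw [hm, hae, show a * (e * y') * y' = a * e * (y' * y') by group, h.zOf_sq hy'.mem, mul_one]
  obtain ⟨v1, hv1⟩ : ∃ v1, v1 = c1 * y' * c1⁻¹ * y'⁻¹ := ⟨_, rfl⟩
  have hv1w : v1 ∈ zOf G Adj w := hv1 ▸ (h.conf_psi hd hj hC c11).1
  have hcm : (t * c * t⁻¹) * y2 * (t * c * t⁻¹)⁻¹ = v1 * y2 := by
    have k1 : z1 * y2 = y2 * z1 := by
      rw [hy2e, ← mul_assoc, h.zOf_comm hz1 hmw, mul_assoc, ← zOf_comm_kern hz1 hy'k, mul_assoc]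
    rw [he, show c1 * z1 * y2 * (c1 * z1)⁻¹ = c1 * (z1 * y2 * z1⁻¹) * c1⁻¹ by group, k1, mul_inv_cancel_right,
      hy2e, show c1 * (m * y') * c1⁻¹ = (c1 * m * c1⁻¹) * (c1 * y' * c1⁻¹) by group,
      h.dOf_comm c11 (zOf_le_vOf hC.hw hmw), mul_inv_cancel_right,
      show c1 * y' * c1⁻¹ = v1 * y' by rw [hv1]; group, ← mul_assoc, h.zOf_comm hmw hv1w, mul_assoc]
  have hconj : v1 = rOf G Adj δ := by
    rw [← htp, h.rOf_smul hk t hpB, ← hψ]
    calc v1 = (t * c * t⁻¹) * y2 * (t * c * t⁻¹)⁻¹ * y2⁻¹ := by rw [hcm]; group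
      _ = _ := by rw [hy2d]; group
  have hv1ne : c1 * y' * c1⁻¹ * y'⁻¹ ≠ 1 := fun e' => (h.rOf_spec δ).2 (hconj ▸ hv1 ▸ e')
  exact h.rOf_inj hk hwA (h.symm hC.hw) hC.hp (Ne.symm hC.np) (hconj.symm.trans (hv1 ▸ all c1 c11 c12 c13 hv1ne))

theorem conf_card_c : Nat.card ↥(dOf G Adj δ ⊓ centralizer ({o} : Set G)) ≤ 4 := by
  haveI : ∀ v, Finite (kern (G := G) Adj v) := h.finite_kern
  haveI : Finite (dOf G Adj δ) :=
    Finite.of_injective _ (inclusion_injective (inf_le_left : dOf G Adj δ ≤ kern Adj δ))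
  obtain ⟨C, hCd⟩ : ∃ C, C = dOf G Adj δ ⊓ centralizer ({o} : Set G) := ⟨_, rfl⟩
  obtain ⟨C0, hC0d⟩ : ∃ C0, C0 = C ⊓ centralizer ({y} : Set G) := ⟨_, rfl⟩
  haveI : Finite C := Finite.of_injective _ (inclusion_injective (hCd.le.trans inf_le_left))
  haveI : Finite C0 := Finite.of_injective _ (inclusion_injective (hC0d.le.trans inf_le_left))
  have hmC : ∀ {c}, c ∈ C → c ∈ dOf G Adj δ ∧ o * c = c * o := fun {c} hc => by
    rw [hCd] at hc
    exact ⟨hc.1, (mem_centralizer_singleton_iff.1 hc.2).symm⟩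
  have hmC0 : ∀ {c}, c ∈ C0 → c ∈ C ∧ c * y = y * c := fun {c} hc => by
    rw [hC0d] at hc
    exact ⟨hc.1, mem_centralizer_singleton_iff.1 hc.2⟩
  haveI : Finite (zOf G Adj δ) := Finite.of_injective _ (inclusion_injective (h.zOf_le_kern δ))
  have hW : Nat.card (zOf G Adj δ) ≤ 2 := by
    refine (Nat.card_le_card_of_injective (β := Bool)
      (fun a : zOf G Adj δ => open Classical in decide ((a : G) = 1)) fun a c e => Subtype.ext ?_).trans
      (le_of_eq (by simp))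
    simp only [decide_eq_decide] at e
    rcases h.wOf_cases (h.kOne_odd hd) hC.tyB a.2 with ea | ea <;>
      rcases h.wOf_cases (h.kOne_odd hd) hC.tyB c.2 with ec | ec
    · rw [ea, ec]
    · rw [ea, e.1 ea]
    · rw [ec, e.2 ec]
    · rw [ea, ec]
  rw [← hCd]
  have h1 : Nat.card ↥(C ⊓ centralizer ({y'} : Set G) ⊓ centralizer ({y} : Set G)) ≤ 2 := by
    refine le_trans (Subgroup.card_le_of_le fun c hc => ?_) hW
    obtain ⟨c1, c2⟩ := hmC hc.1.1
    refine h.conf_ker hd hj hC c1 c2 (mem_centralizer_singleton_iff.1 hc.2) ?_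
    rw [mem_centralizer_singleton_iff.1 hc.1.2]
    group
  by_cases hle : C ≤ C0
  · have e1 : Nat.card C ≤ Nat.card C0 := Subgroup.card_le_of_le hle
    have e2 : Nat.card C0 ≤ 2 * Nat.card ↥(C0 ⊓ centralizer ({y'} : Set G)) := by
      refine card_le_two_mul fun a ha c hc han hcn => ?_
      obtain ⟨ha', hay⟩ := hmC0 ha
      obtain ⟨hc', hcy⟩ := hmC0 hc
      obtain ⟨a1, a2⟩ := hmC ha'
      obtain ⟨c1, c2⟩ := hmC hc'
      have ne : ∀ d : G, d ∉ centralizer ({y'} : Set G) → d * y' * d⁻¹ * y'⁻¹ ≠ 1 := fun d hdn e =>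
        hdn (mem_centralizer_singleton_iff.2 (mul_inv_eq_iff_eq_mul.1 (mul_inv_eq_one.1 e)))
      have hu := h.conf_psi_unique hd hj hC a1 a2 hay c1 c2 hcy (ne a han) (ne c hcn)
      obtain ⟨v, hv⟩ : ∃ v, v = a * y' * a⁻¹ * y'⁻¹ := ⟨_, rfl⟩
      have hvw : v ∈ zOf G Adj w := hv ▸ (h.conf_psi hd hj hC a1).1
      rw [← hv] at hu
      have ea : a * y' * a⁻¹ = v * y' := by rw [hv]; group
      have ec : c * y' * c⁻¹ = v * y' := by rw [hu]; group
      refine mem_centralizer_singleton_iff.2 (mul_inv_eq_iff_eq_mul.1 ?_)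
      calc a * c * y' * (a * c)⁻¹ = a * (c * y' * c⁻¹) * a⁻¹ := by group
        _ = (a * v * a⁻¹) * (a * y' * a⁻¹) := by rw [ec]; group
        _ = v * (v * y') := by rw [h.dOf_comm a1 (zOf_le_vOf hC.hw hvw), mul_inv_cancel_right, ea]
        _ = y' := by rw [← mul_assoc, h.zOf_sq hvw, one_mul]
    have e3 : C0 ⊓ centralizer ({y'} : Set G) ≤ C ⊓ centralizer ({y'} : Set G) ⊓ centralizer ({y} : Set G) := by
      rw [hC0d]
      exact fun c hc => ⟨⟨hc.1.1, hc.2⟩, hc.1.2⟩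
    haveI : Finite ↥(C ⊓ centralizer ({y'} : Set G) ⊓ centralizer ({y} : Set G)) :=
      Finite.of_injective _ (inclusion_injective (inf_le_left.trans inf_le_left : _ ≤ C))
    have e4 := Subgroup.card_le_of_le e3
    omega
  obtain ⟨f, hf, hfn⟩ := SetLike.not_le_iff_exists.1 hle
  obtain ⟨f1, f2⟩ := hmC hf
  have hfy : f * y ≠ y * f := fun e => hfn (hC0d ▸ ⟨hf, mem_centralizer_singleton_iff.2 e⟩)
  have e2 : Nat.card C ≤ 2 * Nat.card ↥(C ⊓ centralizer ({y} : Set G)) := by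
    refine card_le_two_mul fun a ha c hc han hcn => ?_
    obtain ⟨a1, a2⟩ := hmC ha
    obtain ⟨c1, c2⟩ := hmC hc
    have val : ∀ {d}, d ∈ dOf G Adj δ → o * d = d * o → d ∉ centralizer ({y} : Set G) →
        d * y * d⁻¹ = rOf G Adj δ * y := fun {d} d1 d2 dn => by
      rw [← h.rOf_eq (h.kOne_odd hd) hC.tyB (h.conf_com_c hd hj hC d1 d2)
        fun e => dn (mem_centralizer_singleton_iff.2 (mul_inv_eq_iff_eq_mul.1 (mul_inv_eq_one.1 e)))]
      group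
    refine mem_centralizer_singleton_iff.2 (mul_inv_eq_iff_eq_mul.1 ?_)
    calc a * c * y * (a * c)⁻¹ = a * (c * y * c⁻¹) * a⁻¹ := by group
      _ = (a * rOf G Adj δ * a⁻¹) * (a * y * a⁻¹) := by rw [val c1 c2 hcn]; group
      _ = rOf G Adj δ * (rOf G Adj δ * y) := by
        rw [h.wOf_central hC.tyB (h.rOf_spec δ).1 (mem_dOf.1 a1).1.1, mul_inv_cancel_right, val a1 a2 han]
      _ = y := by rw [← mul_assoc, h.zOf_sq (h.rOf_spec δ).1, one_mul]
  have e3 : C ⊓ centralizer ({y} : Set G) ≤ C ⊓ centralizer ({y'} : Set G) ⊓ centralizer ({y} : Set G) :=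
    fun c hc => by
      obtain ⟨c1, c2⟩ := hmC hc.1
      have := h.conf_psi_one hd hj hC f1 f2 hfy c1 c2 (mem_centralizer_singleton_iff.1 hc.2)
      exact ⟨⟨hc.1, mem_centralizer_singleton_iff.2 (mul_inv_eq_iff_eq_mul.1 (mul_inv_eq_one.1 this))⟩, hc.2⟩
  haveI : Finite ↥(C ⊓ centralizer ({y'} : Set G) ⊓ centralizer ({y} : Set G)) :=
    Finite.of_injective _ (inclusion_injective (inf_le_left.trans inf_le_left : _ ≤ C))
  have e4 := Subgroup.card_le_of_le e3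
  omega

theorem conf_card_dOf : Nat.card (dOf G Adj δ) ≤ 16 := by
  haveI : ∀ v, Finite (kern (G := G) Adj v) := h.finite_kern
  haveI : Finite (dOf G Adj δ) :=
    Finite.of_injective _ (inclusion_injective (inf_le_left : dOf G Adj δ ≤ kern Adj δ))
  obtain ⟨hwA, hpB, hqB⟩ := h.conf_ty hC
  obtain ⟨n1, n2, h1, h2, hall⟩ := h.conf_arms hC
  obtain ⟨ea, hea⟩ := h.exists_out hC.tyB hC.hw
  obtain ⟨eb, heb⟩ := h.exists_out hC.tyB h1
  obtain ⟨ec, hec⟩ := h.exists_out hC.tyB h2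
  obtain ⟨C, hCd⟩ : ∃ C, C = dOf G Adj δ ⊓ centralizer ({o} : Set G) := ⟨_, rfl⟩
  haveI : Finite C := Finite.of_injective _ (inclusion_injective (hCd.le.trans inf_le_left))
  have hWC : ∀ a ∈ zOf G Adj δ, a ∈ C := fun a ha => hCd ▸
    ⟨(mem_kOf.1 (h.wOf_le_kOf hd hC.tyB ha)).1,
      mem_centralizer_singleton_iff.2 (h.wOf_central hC.tyB ha hC.ofix).symm⟩
  have hD : ∀ u (e : G), Adj δ u → Out G Adj δ u e → e ∈ dOf G Adj δ := fun u e hu he =>
    h.vOf_le_dOf hd hC.tyB (zOf_le_vOf hu he.mem)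
  let rep : Fin 4 → G := ![1, ea, eb, ec]
  have hrep : ∀ i, rep i ∈ dOf G Adj δ := by
    intro i
    fin_cases i
    · exact one_mem _
    · exact hD _ _ hC.hw hea
    · exact hD _ _ h1 heb
    · exact hD _ _ h2 hec
  have hCle : C ≤ dOf G Adj δ := hCd.le.trans inf_le_left
  have hsurj : Function.Surjective
      (fun a : C × Fin 4 => (⟨(a.1 : G) * rep a.2, mul_mem (hCle a.1.2) (hrep a.2)⟩ : dOf G Adj δ)) := by
    rintro ⟨d, hdd⟩
    obtain ⟨c, x, hc, hco, hx, rfl⟩ := h.conf_split hd hj hC hdd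
    have hcC : c ∈ C := hCd ▸ ⟨hc, mem_centralizer_singleton_iff.2 hco.symm⟩
    obtain ⟨u, hu, hxu⟩ := h.vOf_cases hd hj hC.tyB hx
    by_cases hxW : x ∈ zOf G Adj δ
    · exact ⟨(⟨c * x, mul_mem hcC (hWC x hxW)⟩, 0), Subtype.ext (by simp [rep])⟩
    have key : ∀ (i : Fin 4) (e : G), rep i = e → Out G Adj δ u e →
        ∃ a, (fun a : C × Fin 4 => (⟨(a.1 : G) * rep a.2, mul_mem (hCle a.1.2) (hrep a.2)⟩ : dOf G Adj δ)) a =
          ⟨c * x, hdd⟩ := fun i e hi he =>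
      ⟨(⟨c * (x * e), mul_mem hcC (hWC _ (h.out_mul hd hC.tyB hu ⟨hxu, hxW⟩ he))⟩, i), Subtype.ext (by
        show c * (x * e) * rep i = c * x
        rw [hi, mul_assoc, mul_assoc x, h.zOf_sq he.mem, mul_one])⟩
    rcases hall u hu with rfl | rfl | rfl
    · exact key 1 ea rfl hea
    · exact key 2 eb rfl heb
    · exact key 3 ec rfl hec
  have := Nat.card_le_card_of_surjective _ hsurj
  rw [Nat.card_prod, Nat.card_fin] at this
  have h4 : Nat.card C ≤ 4 := hCd ▸ h.conf_card_c hd hj hC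
  omega

end conf

/-- the bound for critical distance three -/
theorem card_le_three {x y : V} (hxy : Adj x y) : Nat.card (edgeT G x y) ≤ 128 := by
  haveI : ∀ v, Finite (kern (G := G) Adj v) := h.finite_kern
  haveI : Nonempty V := ⟨x⟩
  obtain ⟨δ, w, hw, hδ⟩ := h.exists_ty false
  obtain ⟨p, q, hp, hq, np, nq, npq, -⟩ := h.exists_two w (h.symm hw)
  obtain ⟨a, a', o, hC⟩ := h.exists_conf hd hδ hw hp hq np nq npq
  obtain ⟨u, u', hu, hu', nu, nu', nuu, hall⟩ := h.exists_two δ hw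
  obtain ⟨S, hS⟩ : ∃ S, S = kern (G := G) Adj δ ⊓ kern Adj w := ⟨_, rfl⟩
  haveI : Finite S := Finite.of_injective _ (inclusion_injective (hS.le.trans inf_le_left))
  have e1 : Nat.card (kern (G := G) Adj δ) ≤ 2 * Nat.card S := hS ▸ h.card_kern_inf hw
  have e2 : Nat.card S ≤ 2 * Nat.card ↥(S ⊓ kern Adj u) :=
    h.card_le_kern (h.symm hu) (edgeT_comm (G := G) δ u ▸ (hS.le.trans inf_le_left).trans (kern_le hu))
  haveI : Finite (dOf G Adj δ) :=
    Finite.of_injective _ (inclusion_injective (inf_le_left : dOf G Adj δ ≤ kern Adj δ))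
  have e3 : Nat.card ↥(S ⊓ kern Adj u) ≤ Nat.card (dOf G Adj δ) := by
    refine Subgroup.card_le_of_le fun g hg => ?_
    obtain ⟨k1, k2⟩ := hS ▸ hg.1
    refine h.dOf_of_comm hd hδ k1.1 fun r hr e he => ?_
    have hle : zOf G Adj w ⊔ zOf G Adj u ≤ centralizer ({g} : Set G) :=
      sup_le (fun z hz => mem_centralizer_singleton_iff.2 (zOf_comm_kern hz k2).symm)
        fun z hz => mem_centralizer_singleton_iff.2 (zOf_comm_kern hz hg.2).symm
    exact (mem_centralizer_singleton_iff.1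
      (hle (h.vOf_le_sup hd hj hδ hw hu (Ne.symm nu) (zOf_le_vOf hr he)))).symm
  have e4 := h.conf_card_dOf hd hj hC
  rw [h.card_edgeT_eq hxy hw, h.card_edgeT hw]
  omega

end Cub

end CfsgLib.LS.CubicBound
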