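import Cfsg.Agent.Lib.LocalStructure.CubicBound.DistOne
import Cfsg.Agent.Lib.LocalStructure.CubicBound.FiveDist
import Cfsg.Agent.Lib.LocalStructure.CubicBound.ThreeDist
import Cfsg.Agent.Lib.LocalStructure.ActiveCenter.Coset
import Cfsg.Agent.Lib.JComp.Prelim

/-!
# The order bound for amalgams of index `(3, 3)`
-/

set_option autoImplicit false
set_option linter.style.haveILetI false
set_option linter.unusedSectionVars false

open Subgroup MulAction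

namespace CfsgLib.LS.CubicBound

open CfsgLib.LS.ActiveCenter
open CfsgLib.JComp (mem_omegaCenterOf)

universe u v

variable {G : Type u} [Group G]

theorem Cub.card_edgeT_le {V : Type v} [MulAction G V] {Adj : V → V → Prop} {ty : V → Bool}
    (h : Cub G Adj ty) {x y : V} (hxy : Adj x y) : Nat.card (edgeT G x y) ≤ 128 := by
  haveI : Nonempty V := ⟨x⟩
  obtain ⟨b, hb⟩ := h.exists_isDist
  have h0 := h.dist_pos hb
  rcases Nat.even_or_odd b with he | ho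
  · obtain ⟨m, hm⟩ := id he
    by_cases h2 : b = 2
    · exact h.card_le_two hb h2 hxy
    by_cases h4 : b = 4
    · exact (h.no_four hb h4).elim
    · exact (h.no_even_large hb he (by omega)).elim
  · by_cases h1 : b = 1
    · exact h.card_le_one hb h1 hxy
    obtain ⟨m, hm⟩ := id ho
    have hd : OddDist G Adj ty b := { hb with odd := ho, three_le := by omega }
    by_cases h3 : b = 3
    · subst h3
      exact h.card_le_three hd (h.jZero_all hd) hxy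
    by_cases h5 : b = 5
    · subst h5
      exact (h.no_five hd (h.jZero_all hd)).elim
    · exact (h.no_far hd (h.jZero_all hd) (by omega)).elim

/-- exactly the first centre is active -/
theorem card_le_of_one_active {P₁ P₂ T : Subgroup G} (hgen : P₁ ⊔ P₂ = ⊤) (hT : T = P₁ ⊓ P₂)
    (s₁ : Side0 G P₁ T) (s₂ : Side0 G P₂ T) (h₃ : ∀ N : Subgroup G, N.Normal → N ≤ T → N = ⊥)
    (ha : ¬ P₁ ≤ centralizer (Cfsg.omegaCenterOf T : Set G))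
    (hi : P₂ ≤ centralizer (Cfsg.omegaCenterOf T : Set G)) : Nat.card T ≤ 128 := by
  obtain ⟨v₁, v₂, hp, h12, t1, t2, hst1, hst2⟩ := exists_pre P₁ P₂ hgen hT s₁ s₂ h₃
  have hA : edgeT G v₁ v₂ = T := by rw [edgeT, hst1, hst2, hT]
  have hA' : edgeT G v₂ v₁ = T := by rw [edgeT_comm, hA]
  have hcub : Cub G (Cfsg.cosetGraph P₁ P₂).Adj Sum.isLeft := { hp with
    active := fun {a b} hab hta hle => ha (by
      have := hp.active_transfer h12 hab (t1.trans hta.symm) hle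
      rwa [hst1, edgeA, hA] at this)
    central := fun {a b} hab hta => hp.active_transfer hab (hp.symm h12) (hta.trans t2.symm)
      (by rwa [hst2, edgeA, hA']) }
  rw [← hA]
  exact hcub.card_edgeT_le h12

/-- both centres inactive is impossible -/
theorem exists_active {P₁ P₂ T : Subgroup G} (hgen : P₁ ⊔ P₂ = ⊤) (hT : T = P₁ ⊓ P₂)
    (s₁ : Side0 G P₁ T) (s₂ : Side0 G P₂ T) (h₃ : ∀ N : Subgroup G, N.Normal → N ≤ T → N = ⊥)
    (h1 : P₁ ≤ centralizer (Cfsg.omegaCenterOf T : Set G))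
    (h2 : P₂ ≤ centralizer (Cfsg.omegaCenterOf T : Set G)) : False := by
  obtain ⟨v₁, v₂, hp, h12, -, -, hst1, hst2⟩ := exists_pre P₁ P₂ hgen hT s₁ s₂ h₃
  obtain ⟨a, ha, ha1⟩ := hp.exists_edgeA_ne_one h12
  have hA : edgeT G v₁ v₂ = T := by rw [edgeT, hst1, hst2, hT]
  rw [edgeA, hA] at ha
  have hcen : ∀ g : G, ∀ z ∈ Cfsg.omegaCenterOf T, g * z = z * g := fun g z hz =>
    (mem_centralizer_iff.1 ((hgen ▸ sup_le h1 h2 : ⊤ ≤ centralizer (Cfsg.omegaCenterOf T : Set G)) (mem_top g)) z hz).symm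
  have hn : (Cfsg.omegaCenterOf T).Normal := ⟨fun z hz g => by rw [hcen g z hz, mul_inv_cancel_right]; exact hz⟩
  have := h₃ _ hn (fun z hz => (mem_omegaCenterOf.1 hz).1)
  exact ha1 (mem_bot.1 (this ▸ ha))

theorem card_le_of_perm {P₁ P₂ T : Subgroup G} [Finite P₁] (hgen : P₁ ⊔ P₂ = ⊤) (hT : T = P₁ ⊓ P₂)
    (s₁ : Side G P₁ T) (s₂ : Side G P₂ T) (h₃ : ∀ N : Subgroup G, N.Normal → N ≤ T → N = ⊥) :
    Nat.card T ≤ 128 := by
  have hle : Nat.card T ≤ Nat.card P₁ := Subgroup.card_le_of_le (hT ▸ inf_le_left)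
  rcases shape_pair P₁ P₂ hgen hT s₁ s₂ h₃ with ⟨⟨e⟩, -⟩ | ⟨⟨e⟩, -⟩
  · rw [Nat.card_congr e.toEquiv, Nat.card_perm, Nat.card_fin] at hle
    exact hle.trans (by decide)
  · rw [Nat.card_congr e.toEquiv, Nat.card_prod, Nat.card_perm, Nat.card_fin,
      Nat.card_congr Multiplicative.toAdd, Nat.card_zmod] at hle
    exact hle.trans (by decide)

/-- the bound when the group is generated -/
theorem card_le_of_side {P₁ P₂ T : Subgroup G} (hgen : P₁ ⊔ P₂ = ⊤) (hT : T = P₁ ⊓ P₂)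
    (s₁ : Side0 G P₁ T) (s₂ : Side0 G P₂ T) (h₃ : ∀ N : Subgroup G, N.Normal → N ≤ T → N = ⊥) :
    Nat.card T ≤ 128 := by
  haveI := s₁.fin
  by_cases h1 : P₁ ≤ centralizer (Cfsg.omegaCenterOf T : Set G)
  · by_cases h2 : P₂ ≤ centralizer (Cfsg.omegaCenterOf T : Set G)
    · exact (exists_active hgen hT s₁ s₂ h₃ h1 h2).elim
    · exact card_le_of_one_active (sup_comm P₁ P₂ ▸ hgen) (hT.trans (inf_comm _ _)) s₂ s₁ h₃ h2 h1
  · by_cases h2 : P₂ ≤ centralizer (Cfsg.omegaCenterOf T : Set G)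
    · exact card_le_of_one_active hgen hT s₁ s₂ h₃ h1 h2
    · exact card_le_of_perm hgen hT ⟨s₁.fin, s₁.le, s₁.charP, s₁.sylow, s₁.quot, h1⟩
        ⟨s₂.fin, s₂.le, s₂.charP, s₂.sylow, s₂.quot, h2⟩ h₃

theorem side_subgroupOf {P T X : Subgroup G} [Finite P] (hPX : P ≤ X) (hTP : T ≤ P)
    (hc : P ⊓ centralizer (Cfsg.pCoreOf 2 P : Set G) ≤ Cfsg.pCoreOf 2 P)
    (hs : ∃ S : Sylow 2 ↥P, (S : Subgroup ↥P) = T.subgroupOf P)
    (hq : Nonempty (↥P ⧸ Cfsg.pCore 2 ↥P ≃* Equiv.Perm (Fin 3))) :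
    Side0 ↥X (P.subgroupOf X) (T.subgroupOf X) := by
  haveI : Fact (Nat.Prime 2) := ⟨Nat.prime_two⟩
  obtain ⟨e, he⟩ : ∃ e : ↥(P.subgroupOf X) ≃* ↥P, e = subgroupOfEquivOfLe hPX := ⟨_, rfl⟩
  haveI := CfsgLib.Coprime.pCore_normal' (G := ↥P) 2
  haveI := CfsgLib.Coprime.pCore_normal' (G := ↥(P.subgroupOf X)) 2
  haveI hfin : Finite ↥(P.subgroupOf X) := Finite.of_equiv _ e.toEquiv.symm
  have hmem : ∀ x : X, x ∈ Cfsg.pCoreOf 2 (P.subgroupOf X) ↔ (x : G) ∈ Cfsg.pCoreOf 2 P := by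
    intro x
    constructor
    · rintro ⟨y, hy, rfl⟩
      exact ⟨e y, (CfsgLib.Coprime.map_pCore_equiv e 2).le ⟨y, hy, rfl⟩, by rw [he]; rfl⟩
    · rintro ⟨y, hy, hyx⟩
      obtain ⟨z, hz, rfl⟩ := (CfsgLib.Coprime.map_pCore_equiv e 2).ge hy
      exact ⟨z, hz, Subtype.ext (by rw [← hyx, he]; rfl)⟩
  refine ⟨hfin, fun t ht => hTP ht, fun x hx => ?_, ?_, ?_⟩
  · rw [hmem]
    refine hc ⟨hx.1, mem_centralizer_iff.2 fun y hy => ?_⟩
    exact congrArg Subtype.val (mem_centralizer_iff.1 hx.2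
      ⟨y, hPX (CfsgLib.JComp.pCoreOf_le 2 P hy)⟩ ((hmem _).2 hy))
  · obtain ⟨S, hS⟩ := hs
    have h2 : IsPGroup 2 ↥((T.subgroupOf X).subgroupOf (P.subgroupOf X)) := by
      refine (S.isPGroup'.map P.subtype).comap_of_injective X.subtype X.subtype_injective
        |>.comap_of_injective (P.subgroupOf X).subtype (P.subgroupOf X).subtype_injective |>.to_le ?_
      intro x hx
      exact ⟨⟨((x : X) : G), x.2⟩, hS ▸ hx, rfl⟩
    have hni : ¬ 2 ∣ ((T.subgroupOf X).subgroupOf (P.subgroupOf X)).index := by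
      have h1 : (T.subgroupOf X).relIndex (P.subgroupOf X) = T.relIndex P := relIndex_subgroupOf hPX
      rw [Subgroup.relIndex] at h1
      rw [h1, Subgroup.relIndex, ← hS]
      exact S.not_dvd_index
    exact ⟨h2.toSylow hni, rfl⟩
  · obtain ⟨q⟩ := hq
    exact ⟨(QuotientGroup.congr _ _ e (CfsgLib.Coprime.map_pCore_equiv e 2)).trans q⟩

theorem core_facts {M T : Subgroup G} [Finite M] (hTM : T ≤ M)
    (hs : ∃ S : Sylow 2 ↥M, (S : Subgroup ↥M) = T.subgroupOf M)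
    (hq : Nonempty (↥M ⧸ Cfsg.pCore 2 ↥M ≃* Equiv.Perm (Fin 3))) :
    IsPGroup 2 T ∧ Cfsg.pCore 2 ↥M ≤ T.subgroupOf M ∧ (T.subgroupOf M).index = 3 ∧
      ∀ a ∈ T.subgroupOf M, ∀ c ∈ T.subgroupOf M, a ∉ Cfsg.pCore 2 ↥M → c ∉ Cfsg.pCore 2 ↥M →
        a * c ∈ Cfsg.pCore 2 ↥M := by
  haveI : Fact (Nat.Prime 2) := ⟨Nat.prime_two⟩
  haveI := CfsgLib.Coprime.pCore_normal' (G := ↥M) 2
  obtain ⟨S, hS⟩ := hs
  obtain ⟨e⟩ := hq
  have h6 : (Cfsg.pCore 2 ↥M).index = 6 := by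
    rw [index_eq_card, Nat.card_congr e.toEquiv, Nat.card_perm, Nat.card_fin]
    rfl
  have hle : Cfsg.pCore 2 ↥M ≤ T.subgroupOf M :=
    hS ▸ (CfsgLib.Coprime.pCore_isPGroup (G := ↥M) 2).le_sylow_of_normal S
  have hT2 : IsPGroup 2 T := (hS ▸ S.isPGroup').of_equiv (subgroupOfEquivOfLe hTM)
  have hmul := relIndex_mul_index hle
  rw [h6] at hmul
  have h2i : ¬ 2 ∣ (T.subgroupOf M).index := hS ▸ S.not_dvd_index
  have hne : (T.subgroupOf M).index ≠ 1 := by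
    intro e1
    have h3 : 3 ∣ Nat.card ↥M :=
      (show 3 ∣ (Cfsg.pCore 2 ↥M).index by rw [h6]; norm_num).trans (index_dvd_card _)
    obtain ⟨k, hk⟩ := S.isPGroup'.exists_card_eq
    rw [← card_mul_index (T.subgroupOf M), e1, mul_one, ← hS, hk] at h3
    have := Nat.prime_three.dvd_of_dvd_pow h3
    norm_num at this
  have hd : (T.subgroupOf M).index ∣ 6 := ⟨_, by rw [mul_comm]; exact hmul.symm⟩
  have h3 : (T.subgroupOf M).index = 3 := by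
    have := Nat.le_of_dvd (by norm_num) hd
    interval_cases (T.subgroupOf M).index <;> omega
  refine ⟨hT2, hle, h3, fun a ha c hc han hcn => ?_⟩
  have hr : ((Cfsg.pCore 2 ↥M).subgroupOf (T.subgroupOf M)).index = 2 := by
    rw [h3] at hmul
    show (Cfsg.pCore 2 ↥M).relIndex (T.subgroupOf M) = 2
    omega
  have := (mul_mem_iff_of_index_two hr (a := (⟨a, ha⟩ : T.subgroupOf M)) (b := ⟨c, hc⟩)).2
    (iff_of_false (fun e' => han (mem_subgroupOf.1 e')) fun e' => hcn (mem_subgroupOf.1 e'))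
  exact mem_subgroupOf.1 this

theorem card_le_of_not_constrained {M₁ M₂ : Subgroup G} [Finite M₁] [Finite M₂]
    (hs₁ : ∃ S : Sylow 2 ↥M₁, (S : Subgroup ↥M₁) = (M₁ ⊓ M₂).subgroupOf M₁)
    (hs₂ : ∃ S : Sylow 2 ↥M₂, (S : Subgroup ↥M₂) = (M₁ ⊓ M₂).subgroupOf M₂)
    (hq₁ : Nonempty (↥M₁ ⧸ Cfsg.pCore 2 ↥M₁ ≃* Equiv.Perm (Fin 3)))
    (hq₂ : Nonempty (↥M₂ ⧸ Cfsg.pCore 2 ↥M₂ ≃* Equiv.Perm (Fin 3)))
    (hc : ∀ N : Subgroup G, N ≤ M₁ ⊓ M₂ → M₁ ≤ normalizer (N : Set G) → M₂ ≤ normalizer (N : Set G) → N = ⊥)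
    (hn : ¬ M₁ ⊓ centralizer (Cfsg.pCoreOf 2 M₁ : Set G) ≤ Cfsg.pCoreOf 2 M₁) :
    Nat.card ↥(M₁ ⊓ M₂) ≤ 16 := by
  haveI : Fact (Nat.Prime 2) := ⟨Nat.prime_two⟩
  obtain ⟨T, hT⟩ : ∃ T, T = M₁ ⊓ M₂ := ⟨_, rfl⟩
  rw [← hT] at hs₁ hs₂ hc ⊢
  obtain ⟨hT1, hle1, hi1, hm1⟩ := core_facts (hT ▸ inf_le_left) hs₁ hq₁
  obtain ⟨-, hle2, hi2, hm2⟩ := core_facts (hT ▸ inf_le_right) hs₂ hq₂
  haveI := CfsgLib.Coprime.pCore_normal' (G := ↥M₁) 2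
  haveI := CfsgLib.Coprime.pCore_normal' (G := ↥M₂) 2
  -- an element outside `T` centralizing the core
  obtain ⟨c, hcC, hcT⟩ : ∃ c, c ∈ M₁ ⊓ centralizer (Cfsg.pCoreOf 2 M₁ : Set G) ∧ c ∉ T := by
    by_contra hno
    push Not at hno
    refine hn (CfsgLib.JComp.le_pCoreOf inf_le_left (hT1.to_le hno) ?_)
    refine CfsgLib.JComp.le_normalizer_of_conj fun g hg x hx => mem_inf.2 ⟨mul_mem (mul_mem hg hx.1) (inv_mem hg), ?_⟩
    refine mem_centralizer_iff.2 fun q hq => ?_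
    have hq' := CfsgLib.JComp.conj_mem (CfsgLib.JComp.le_normalizer_pCoreOf 2 M₁) (inv_mem hg) hq
    rw [inv_inv] at hq'
    have := mem_centralizer_iff.1 hx.2 _ hq'
    calc q * (g * x * g⁻¹) = g * (g⁻¹ * q * g * x) * g⁻¹ := by group
      _ = g * (x * (g⁻¹ * q * g)) * g⁻¹ := by rw [this]
      _ = _ := by group
  have hinv : ∀ N : Subgroup G, N ≤ Cfsg.pCoreOf 2 M₁ → T ≤ normalizer (N : Set G) →
      M₁ ≤ normalizer (N : Set G) := by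
    intro N hN hTN g hg
    obtain ⟨K, hK⟩ : ∃ K, K = (normalizer (N : Set G)).subgroupOf M₁ := ⟨_, rfl⟩
    have hTK : T.subgroupOf M₁ ≤ K := hK ▸ fun x hx => hTN hx
    have hcK : (⟨c, hcC.1⟩ : M₁) ∈ K := by
      rw [hK]
      refine centralizer_le_normalizer _ (mem_centralizer_iff.2 fun x hx => ?_)
      exact mem_centralizer_iff.1 hcC.2 x (hN hx)
    have hd := index_dvd_of_le hTK
    rw [hi1] at hd
    rcases (Nat.dvd_prime Nat.prime_three).1 hd with e | e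
    · exact mem_subgroupOf.1 (hK ▸ (index_eq_one.1 e ▸ mem_top (⟨g, hg⟩ : M₁) : (⟨g, hg⟩ : M₁) ∈ K))
    · exfalso
      have hr := relIndex_mul_index hTK
      rw [hi1, e] at hr
      have : K ≤ T.subgroupOf M₁ := relIndex_eq_one.1 (by omega)
      exact hcT (this hcK)
  obtain ⟨R, hR⟩ : ∃ R, R = ((Cfsg.pCoreOf 2 M₁).subgroupOf M₂) ⊓ Cfsg.pCore 2 ↥M₂ := ⟨_, rfl⟩
  have hRn : R.normalCore = ⊥ := by
    have hN : (R.normalCore).map M₂.subtype = ⊥ := by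
      have hle : (R.normalCore).map M₂.subtype ≤ Cfsg.pCoreOf 2 M₁ := by
        rintro x ⟨y, hy, rfl⟩
        have := R.normalCore_le hy
        rw [hR] at this
        exact this.1
      have h2 : M₂ ≤ normalizer ((R.normalCore.map M₂.subtype : Subgroup G) : Set G) :=
        CfsgLib.JComp.le_normalizer_of_conj fun g hg x hx => by
          obtain ⟨y, hy, rfl⟩ := hx
          exact ⟨⟨g, hg⟩ * y * ⟨g, hg⟩⁻¹, R.normalCore_normal.conj_mem y hy _, rfl⟩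
      refine hc _ (fun x hx => ?_) (hinv _ hle fun t ht => h2 (hT.le ht).2) h2
      obtain ⟨y, hy, rfl⟩ := hle hx
      exact mem_subgroupOf.1 (hle1 hy)
    exact (map_eq_bot_iff_of_injective _ M₂.subtype_injective).1 hN
  -- three conjugates
  have hT2 : ∀ t ∈ T.subgroupOf M₂, ∀ x ∈ R, t * x * t⁻¹ ∈ R := fun t ht x hx => by
    rw [hR] at hx ⊢
    refine ⟨?_, Subgroup.Normal.conj_mem inferInstance x hx.2 t⟩
    exact CfsgLib.JComp.conj_mem (CfsgLib.JComp.le_normalizer_pCoreOf 2 M₁) (hT.le ht).1 hx.1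
  haveI : Finite (↥M₂ ⧸ T.subgroupOf M₂) := inferInstance
  obtain ⟨r, hr⟩ : ∃ r : Fin 3 → M₂, ∀ g : M₂, ∃ i, (r i)⁻¹ * g ∈ T.subgroupOf M₂ := by
    have hcard : Nat.card (↥M₂ ⧸ T.subgroupOf M₂) = 3 := (index_eq_card _).symm.trans hi2
    obtain e := Finite.equivFinOfCardEq hcard
    refine ⟨fun i => (e.symm i).out, fun g => ⟨e (g : ↥M₂ ⧸ T.subgroupOf M₂), ?_⟩⟩
    rw [← QuotientGroup.eq]
    simp
  obtain ⟨S, hS⟩ : ∃ S : M₂ → Subgroup M₂, S = fun g => R.map (MulAut.conj g).toMonoidHom := ⟨_, rfl⟩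
  have hRle : R ≤ Cfsg.pCore 2 ↥M₂ := hR ▸ inf_le_right
  have hmS : ∀ g x, x ∈ S g ↔ g⁻¹ * x * g ∈ R := fun g x => by
    rw [hS]
    exact ⟨fun ⟨y, hy, e⟩ => by rw [← e]; simpa [mul_assoc] using hy,
      fun hx => ⟨_, hx, by simp [mul_assoc]⟩⟩
  have hstep : ∀ (H : Subgroup M₂), H ≤ Cfsg.pCore 2 ↥M₂ → ∀ g : M₂,
      Nat.card H ≤ 2 * Nat.card ↥(H ⊓ S g) := by
    intro H hH g
    refine card_le_two_mul fun a ha c hc' han hcn => ?_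
    rw [hmS] at han hcn ⊢
    rw [hR] at han hcn ⊢
    have hconj : ∀ x ∈ H, g⁻¹ * x * g ∈ Cfsg.pCore 2 ↥M₂ := fun x hx => by
      have := Subgroup.Normal.conj_mem (inferInstance : (Cfsg.pCore 2 ↥M₂).Normal) x (hH hx) g⁻¹
      rwa [inv_inv] at this
    have hT' : ∀ x ∈ H, ((g⁻¹ * x * g : M₂) : G) ∈ T := fun x hx => hle2 (hconj x hx)
    have hM1 : ∀ x ∈ H, ((g⁻¹ * x * g : M₂) : G) ∈ M₁ := fun x hx => (hT.le (hT' x hx)).1
    have hna : ∀ (x : M₂) (hx : x ∈ H), ¬ (g⁻¹ * x * g ∈ (Cfsg.pCoreOf 2 M₁).subgroupOf M₂ ⊓ Cfsg.pCore 2 ↥M₂) →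
        (⟨_, hM1 x hx⟩ : M₁) ∈ T.subgroupOf M₁ ∧ (⟨_, hM1 x hx⟩ : M₁) ∉ Cfsg.pCore 2 ↥M₁ :=
      fun x hx hnx => ⟨hT' x hx, fun e => hnx ⟨⟨_, e, rfl⟩, hconj x hx⟩⟩
    obtain ⟨a1, a2⟩ := hna a ha han
    obtain ⟨c1, c2⟩ := hna c hc' hcn
    refine ⟨⟨_, hm1 _ a1 _ c1 a2 c2, ?_⟩, hconj _ (mul_mem ha hc')⟩
    simp [mul_assoc]
  have hQ : Nat.card (Cfsg.pCore 2 ↥M₂) ≤ 8 := by
    have e1 := hstep _ le_rfl (r 0)
    have e2 := hstep (Cfsg.pCore 2 ↥M₂ ⊓ S (r 0)) inf_le_left (r 1)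
    have e3 := hstep (Cfsg.pCore 2 ↥M₂ ⊓ S (r 0) ⊓ S (r 1)) (inf_le_left.trans inf_le_left) (r 2)
    have hle : Cfsg.pCore 2 ↥M₂ ⊓ S (r 0) ⊓ S (r 1) ⊓ S (r 2) ≤ R.normalCore := by
      intro x hx g
      obtain ⟨i, hi⟩ := hr g⁻¹
      have hxi : x ∈ S (r i) := by
        fin_cases i
        · exact hx.1.1.2
        · exact hx.1.2
        · exact hx.2
      rw [hmS] at hxi
      have := hT2 _ (inv_mem hi) _ hxi
      rwa [show ((r i)⁻¹ * g⁻¹)⁻¹ * ((r i)⁻¹ * x * r i) * ((r i)⁻¹ * g⁻¹)⁻¹⁻¹ = g * x * g⁻¹ by group] at this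
    rw [hRn, le_bot_iff] at hle
    rw [hle, card_bot] at e3
    omega
  have h2 : Nat.card (T.subgroupOf M₂) ≤ 2 * Nat.card ↥(T.subgroupOf M₂ ⊓ Cfsg.pCore 2 ↥M₂) :=
    card_le_two_mul hm2
  rw [inf_eq_right.2 hle2, Nat.card_congr (subgroupOfEquivOfLe (hT ▸ inf_le_right : T ≤ M₂)).toEquiv] at h2
  omega

/-- Goldschmidt's bound -/
theorem card_le_pair {M₁ M₂ : Subgroup G} [Finite M₁] [Finite M₂]
    (hs₁ : ∃ S : Sylow 2 ↥M₁, (S : Subgroup ↥M₁) = (M₁ ⊓ M₂).subgroupOf M₁)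
    (hs₂ : ∃ S : Sylow 2 ↥M₂, (S : Subgroup ↥M₂) = (M₁ ⊓ M₂).subgroupOf M₂)
    (hq₁ : Nonempty (↥M₁ ⧸ Cfsg.pCore 2 ↥M₁ ≃* Equiv.Perm (Fin 3)))
    (hq₂ : Nonempty (↥M₂ ⧸ Cfsg.pCore 2 ↥M₂ ≃* Equiv.Perm (Fin 3)))
    (hc : ∀ N : Subgroup G, N ≤ M₁ ⊓ M₂ → M₁ ≤ normalizer (N : Set G) → M₂ ≤ normalizer (N : Set G) → N = ⊥) :
    Nat.card ↥(M₁ ⊓ M₂) ≤ 128 := by
  by_cases c1 : M₁ ⊓ centralizer (Cfsg.pCoreOf 2 M₁ : Set G) ≤ Cfsg.pCoreOf 2 M₁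
  swap
  · exact (card_le_of_not_constrained hs₁ hs₂ hq₁ hq₂ hc c1).trans (by norm_num)
  by_cases c2 : M₂ ⊓ centralizer (Cfsg.pCoreOf 2 M₂ : Set G) ≤ Cfsg.pCoreOf 2 M₂
  swap
  · rw [inf_comm]
    exact (card_le_of_not_constrained (inf_comm M₁ M₂ ▸ hs₂) (inf_comm M₁ M₂ ▸ hs₁) hq₂ hq₁
      (fun N hN h2 h1 => hc N (hN.trans (inf_comm M₂ M₁).le) h1 h2) c2).trans (by norm_num)
  obtain ⟨X, hX⟩ : ∃ X, X = M₁ ⊔ M₂ := ⟨_, rfl⟩
  have hle1 : M₁ ≤ X := hX ▸ le_sup_left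
  have hle2 : M₂ ≤ X := hX ▸ le_sup_right
  have s₁ := side_subgroupOf hle1 inf_le_left c1 hs₁ hq₁
  have s₂ := side_subgroupOf hle2 inf_le_right c2 hs₂ hq₂
  have hgen : M₁.subgroupOf X ⊔ M₂.subgroupOf X = ⊤ := by
    rw [← subgroupOf_sup hle1 hle2, ← hX, subgroupOf_self]
  have h := card_le_of_side hgen (T := (M₁ ⊓ M₂).subgroupOf X) rfl s₁ s₂ fun N hN hNT => by
    refine (map_eq_bot_iff_of_injective _ X.subtype_injective).1 (hc _ (fun x hx => ?_) ?_ ?_)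
    · obtain ⟨y, hy, rfl⟩ := hx
      exact hNT hy
    all_goals
      refine CfsgLib.JComp.le_normalizer_of_conj fun g hg x hx => ?_
      obtain ⟨y, hy, rfl⟩ := hx
      first
        | exact ⟨⟨g, hle1 hg⟩ * y * ⟨g, hle1 hg⟩⁻¹, hN.conj_mem y hy _, rfl⟩
        | exact ⟨⟨g, hle2 hg⟩ * y * ⟨g, hle2 hg⟩⁻¹, hN.conj_mem y hy _, rfl⟩
  rwa [Nat.card_congr (subgroupOfEquivOfLe (inf_le_left.trans hle1 : M₁ ⊓ M₂ ≤ X)).toEquiv] at h

end CfsgLib.LS.CubicBound
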