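import Cfsg.Agent.Lib.LocalStructure.CubicBound.EvenDist

/-!
# Critical distance one
-/

set_option autoImplicit false
set_option linter.style.haveILetI false
set_option linter.unusedSectionVars false

open Subgroup MulAction

namespace CfsgLib.LS.CubicBound

open CfsgLib.LS.ActiveCenter
open CfsgLib.LS.ActiveCenter.Geo (zOf kern_le edgeA_le_zOf zOf_comm_kern)

universe u v

variable {G : Type u} {V : Type v} [Group G] [MulAction G V] {Adj : V → V → Prop} {ty : V → Bool}

namespace Cub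

variable (h : Cub G Adj ty) {b : ℕ} (hb : IsDist G Adj ty b)
include h hb

/-- the bound for critical distance one -/
theorem card_le_one (hb1 : b = 1) {x y : V} (hxy : Adj x y) : Nat.card (edgeT G x y) ≤ 128 := by
  subst hb1
  obtain ⟨f, hc⟩ := hb.attained
  haveI : Nonempty V := ⟨x⟩
  have hall : ∀ {p δ : V}, ty p = true → Adj p δ → ¬ zOf G Adj p ≤ kern Adj δ := by
    intro p δ hp hpδ
    obtain ⟨g, h0, h1⟩ := h.edge_trans (hc.walk.adj 0 (by omega)) hpδ (hc.start.trans hp.symm)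
    intro hle
    rw [← h0, ← h1, h.crit_smul_iff] at hle
    exact hc.not_le hle
  obtain ⟨α, δ, hαδ, hα⟩ := h.exists_ty true
  have hδB := h.tyB hαδ hα
  have hvs : ∀ γ, ty γ = false → vOf G Adj γ ≤ stabilizer G γ := fun γ _ =>
    vOf_le fun u hu a ha => h.kern_le_stab hu (h.zOf_le_kern u ha)
  have hsq : ∀ q ∈ kern (G := G) Adj α, q * q = 1 := by
    intro q hq
    refine h.eq_one_of_centralized (vOf G Adj) (fun g γ _ m hm => h.vOf_conj g hm) hvs ?_ hα (mul_mem hq hq) ?_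
    · intro γ hγ w w' hw hw'
      refine h.trans_of_moves (fun u hu => ?_) hw hw'
      obtain ⟨m, hm, hmq⟩ := SetLike.not_le_iff_exists.1 (hall (h.tyA hu hγ) (h.symm hu))
      exact ⟨m, zOf_le_vOf hu hm, edgeT_comm (G := G) u γ ▸ kern_le (h.symm hu) (h.zOf_le_kern u hm), hmq⟩
    · intro γ hγ m hm
      have hle : vOf G Adj γ ≤ centralizer ({q * q} : Set G) := by
        refine vOf_le fun u hu => ?_
        have hγB := h.tyB hγ hα
        intro z hz
        refine mem_centralizer_singleton_iff.2 ?_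
        obtain ⟨z0, hz0, hz0q⟩ := SetLike.not_le_iff_exists.1 (hall hα hγ)
        obtain ⟨q', hq', hqq⟩ : ∃ q', (q' ∈ kern Adj α ∧ q' ∈ kern Adj γ) ∧ q * q = q' * q' := by
          by_cases hqγ : q ∈ kern Adj γ
          · exact ⟨q, ⟨hq, hqγ⟩, rfl⟩
          · have hT : ∀ g ∈ kern (G := G) Adj α, g ∈ edgeT G γ α := fun g hg =>
              edgeT_comm (G := G) α γ ▸ kern_le hγ hg
            have hz0k := h.zOf_le_kern α hz0
            refine ⟨q * z0, ⟨mul_mem hq hz0k,
              h.mul_mem_kern (h.symm hγ) (hT q hq) (hT z0 hz0k) hqγ hz0q⟩, ?_⟩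
            rw [show q * z0 * (q * z0) = q * (z0 * q) * z0 by group, ← zOf_comm_kern hz0 hq,
              show q * (q * z0) * z0 = q * q * (z0 * z0) by group, h.zOf_sq hz0, mul_one]
        have hq'T : q' ∈ edgeT G u γ := edgeT_comm (G := G) γ u ▸ kern_le hu hq'.2
        rw [hqq]
        exact (zOf_comm_kern hz (h.sq_mem_kern (h.symm hu) hq'T)).symm
      exact (mem_centralizer_singleton_iff.1 (hle hm))
  have hQZ : kern (G := G) Adj α ≤ zOf G Adj α := fun a ha => by
    refine h.mem_zOf_of_central hα ha (fun q hq => ?_) (hsq a ha)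
    have h1 : ∀ p ∈ kern (G := G) Adj α, p⁻¹ = p := fun p hp => inv_eq_of_mul_eq_one_right (hsq p hp)
    calc q * a = (q * a)⁻¹ := (h1 _ (mul_mem hq ha)).symm
      _ = a * q := by rw [mul_inv_rev, h1 q hq, h1 a ha]
  obtain ⟨w, hw, hwne⟩ := h.exists_nbr_ne (x := δ) α
  obtain ⟨δ', hδ', hne⟩ := h.exists_nbr_ne (x := α) δ
  haveI : ∀ v, Finite (kern (G := G) Adj v) := h.finite_kern
  obtain ⟨Y, hY⟩ : ∃ Y, Y = kern (G := G) Adj δ ⊓ kern Adj α := ⟨_, rfl⟩
  haveI : Finite Y := Finite.of_injective _ (inclusion_injective (hY.le.trans inf_le_left))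
  have e1 : Nat.card (kern (G := G) Adj δ) ≤ 2 * Nat.card Y := hY ▸ h.card_kern_inf (h.symm hαδ)
  have e2 : Nat.card Y ≤ 2 * Nat.card ↥(Y ⊓ kern Adj w) :=
    h.card_le_kern (h.symm hw) (edgeT_comm (G := G) δ w ▸ (hY.le.trans inf_le_left).trans (kern_le hw))
  haveI : Finite (zOf G Adj δ) := Finite.of_injective _ (inclusion_injective (h.zOf_le_kern δ))
  have e3 : Nat.card ↥(Y ⊓ kern Adj w) ≤ Nat.card (zOf G Adj δ) := by
    refine Subgroup.card_le_of_le fun g hg => ?_
    have hg1 := (hY.le hg.1).2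
    refine h.zOf_inter hδB hw (h.symm hαδ) hwne ?_ (hQZ hg1)
    obtain ⟨g', hg'α, hg'w⟩ := h.exists_move (h.symm hαδ) hw
    have := hg.2
    rw [← hg'w] at this ⊢
    have h2 := h.conj_kern g'⁻¹ this
    rw [inv_smul_smul] at h2
    have h3 := h.conj_zOf g' (hQZ h2)
    rwa [inv_inv, show g' * (g'⁻¹ * g * g') * g'⁻¹ = g by group] at h3
  have e4 : Nat.card (zOf G Adj δ) * Nat.card (zOf G Adj δ') ≤ Nat.card (kern (G := G) Adj α) := by
    rw [← Nat.card_prod]
    refine Nat.card_le_card_of_injective (fun p : zOf G Adj δ × zOf G Adj δ' =>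
      (⟨(p.1 : G) * p.2, mul_mem (h.zOf_le_kern α (h.wOf_le hα hαδ p.1.2))
        (h.zOf_le_kern α (h.wOf_le hα hδ' p.2.2))⟩ : kern (G := G) Adj α)) fun p q e => ?_
    have e' : (p.1 : G) * p.2 = q.1 * q.2 := congrArg Subtype.val e
    have hm : (q.1 : G)⁻¹ * p.1 = q.2 * (p.2 : G)⁻¹ := by
      rw [eq_mul_inv_iff_mul_eq, mul_assoc, e', inv_mul_cancel_left]
    have h1 := h.wOf_inter hα hαδ hδ' (Ne.symm hne) (mul_mem (inv_mem q.1.2) p.1.2)
      (hm ▸ mul_mem q.2.2 (inv_mem p.2.2))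
    rw [inv_mul_eq_one] at h1
    have h2 : (p.2 : G) = q.2 := mul_left_cancel (h1 ▸ e' : (p.1 : G) * p.2 = p.1 * q.2)
    exact Prod.ext (Subtype.ext h1.symm) (Subtype.ext h2)
  have e5 : Nat.card (zOf G Adj δ') = Nat.card (zOf G Adj δ) := by
    obtain ⟨g, hgα, rfl⟩ := h.exists_move hαδ hδ'
    refine Nat.card_congr
      { toFun := fun t => ⟨g⁻¹ * t * g, by simpa using h.conj_zOf g⁻¹ t.2⟩
        invFun := fun t => ⟨g * t * g⁻¹, h.conj_zOf g t.2⟩
        left_inv := fun t => Subtype.ext (by simp [mul_assoc])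
        right_inv := fun t => Subtype.ext (by simp [mul_assoc]) }
  rw [h.card_edgeT_eq hxy hαδ, h.card_edgeT hαδ]
  have e6 := h.card_kern_eq hαδ
  have hpos : 0 < Nat.card (zOf G Adj δ) := Nat.card_pos
  generalize Nat.card (zOf G Adj δ) = k at *
  rw [e5] at e4
  have : k ≤ 4 := by nlinarith
  omega

end Cub

end CfsgLib.LS.CubicBound
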