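import Cfsg.Agent.Lib.LocalStructure.CubicBound.Walk

/-!
# Even critical distance
-/

set_option autoImplicit false
set_option linter.style.haveILetI false
set_option linter.unusedSectionVars false

open Subgroup MulAction

namespace CfsgLib.LS.CubicBound

open CfsgLib.LS.ActiveCenter
open CfsgLib.LS.ActiveCenter.Geo (zOf kern_le edgeA_le_zOf zOf_comm_kern)
open CfsgLib.JComp (mem_omegaCenterOf)

universe u v

variable {G : Type u} {V : Type v} [Group G] [MulAction G V] {Adj : V → V → Prop} {ty : V → Bool}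

/-- the central parts have order two -/
def KOne (G : Type u) [Group G] [MulAction G V] (Adj : V → V → Prop) (ty : V → Bool) : Prop :=
  ∀ δ : V, ty δ = false → ∀ a ∈ zOf G Adj δ, ∀ a' ∈ zOf G Adj δ, a ≠ 1 → a' ≠ 1 → a = a'

/-- the nontrivial element of a central part -/
noncomputable def rOf (G : Type u) [Group G] [MulAction G V] (Adj : V → V → Prop) (δ : V) : G :=
  open Classical in if hex : ∃ a ∈ zOf G Adj δ, a ≠ 1 then hex.choose else 1

/-- the part of `Q_δ` in all the kernels of the neighbours -/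
def dOf (G : Type u) [Group G] [MulAction G V] (Adj : V → V → Prop) (δ : V) : Subgroup G :=
  kern Adj δ ⊓ ⨅ (w : V) (_ : Adj δ w), kern Adj w

theorem mem_dOf {δ : V} {g : G} :
    g ∈ dOf G Adj δ ↔ g ∈ kern Adj δ ∧ ∀ w, Adj δ w → g ∈ kern Adj w := by
  simp only [dOf, mem_inf, mem_iInf]

namespace Cub

variable (h : Cub G Adj ty)
include h

theorem rOf_spec (δ : V) : rOf G Adj δ ∈ zOf G Adj δ ∧ rOf G Adj δ ≠ 1 := by
  have hex : ∃ a ∈ zOf G Adj δ, a ≠ 1 := h.exists_wOf_ne_one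
  rw [rOf, dif_pos hex]
  exact hex.choose_spec

theorem rOf_eq (hk : KOne G Adj ty) {δ : V} (hδ : ty δ = false) {a : G} (ha : a ∈ zOf G Adj δ) (ha1 : a ≠ 1) :
    a = rOf G Adj δ := hk δ hδ a ha _ (h.rOf_spec δ).1 ha1 (h.rOf_spec δ).2

theorem wOf_cases (hk : KOne G Adj ty) {δ : V} (hδ : ty δ = false) {a : G} (ha : a ∈ zOf G Adj δ) :
    a = 1 ∨ a = rOf G Adj δ := (em (a = 1)).imp_right (h.rOf_eq hk hδ ha)

theorem rOf_smul (hk : KOne G Adj ty) (g : G) {δ : V} (hδ : ty δ = false) :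
    rOf G Adj (g • δ) = g * rOf G Adj δ * g⁻¹ :=
  (h.rOf_eq hk ((h.ty_smul' g δ).trans hδ) (h.conj_zOf g (h.rOf_spec δ).1)
    fun e => (h.rOf_spec δ).2 (by rwa [conj_eq_one_iff] at e)).symm

theorem rOf_inj (hk : KOne G Adj ty) {w δ δ' : V} (hw : ty w = true) (hδ : Adj w δ) (hδ' : Adj w δ')
    (hne : δ ≠ δ') : rOf G Adj δ ≠ rOf G Adj δ' := fun e =>
  (h.rOf_spec δ).2 (h.wOf_inter hw hδ hδ' hne (h.rOf_spec δ).1 (e ▸ (h.rOf_spec δ').1))

theorem kOne_of_one {δ : V} (hδ : ty δ = false)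
    (hone : ∀ a ∈ zOf G Adj δ, ∀ a' ∈ zOf G Adj δ, a ≠ 1 → a' ≠ 1 → a = a') : KOne G Adj ty := by
  intro δ' hδ' a ha a' ha' ha1 ha1'
  obtain ⟨y, hy⟩ := h.exists_adj δ
  obtain ⟨g, rfl⟩ := h.ty_smul (1 : G) y hy (hδ'.trans hδ.symm)
  have h1 := h.conj_zOf g⁻¹ ha
  have h2 := h.conj_zOf g⁻¹ ha'
  rw [inv_smul_smul] at h1 h2
  exact conj_injective (hone _ h1 _ h2 (fun e => ha1 (conj_eq_one_iff.1 e)) fun e => ha1' (conj_eq_one_iff.1 e))

theorem vOf_conj (g : G) {δ : V} {x : G} (hx : x ∈ vOf G Adj δ) : g * x * g⁻¹ ∈ vOf G Adj (g • δ) := by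
  have hle : vOf G Adj δ ≤ (vOf G Adj (g • δ)).comap (MulAut.conj g).toMonoidHom :=
    vOf_le fun w hw a ha => zOf_le_vOf (h.smul g hw) (h.conj_zOf g ha)
  exact hle hx

theorem stab_le_normalizer_vOf (δ : V) : stabilizer G δ ≤ normalizer (vOf G Adj δ : Set G) :=
  CfsgLib.JComp.le_normalizer_of_conj fun g hg x hx => by
    have := h.vOf_conj g hx
    rwa [show g • δ = δ from hg] at this

theorem exists_wOf_mem {w δ : V} (hw : ty w = true) (hδ : Adj w δ) {K : Subgroup G} (hK : K ≤ edgeT G w δ)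
    (hn : edgeT G w δ ≤ normalizer (K : Set G)) (h1 : K ≠ ⊥) : ∃ a ∈ K, a ∈ zOf G Adj δ ∧ a ≠ 1 := by
  haveI : Fact (Nat.Prime 2) := ⟨Nat.prime_two⟩
  haveI := h.finite_edgeT w δ
  haveI : Finite K := Finite.of_injective _ (inclusion_injective hK)
  let act : MulAction (edgeT G w δ) K :=
    { smul := fun t k => ⟨(t : G) * k * (t : G)⁻¹, CfsgLib.JComp.conj_mem hn t.2 k.2⟩
      one_smul := fun k => Subtype.ext (by show ((1 : edgeT G w δ) : G) * k * _ = _; simp)
      mul_smul := fun s t k => Subtype.ext (by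
        show ((s * t : edgeT G w δ) : G) * k * ((s * t : edgeT G w δ) : G)⁻¹ = (s : G) * ((t : G) * k * (t : G)⁻¹) * (s : G)⁻¹
        simp only [Subgroup.coe_mul]; group) }
  have hd : 2 ∣ Nat.card K := by
    obtain ⟨a, ha⟩ := IsPGroup.iff_card.1 ((h.two hδ).to_le hK)
    rw [ha]
    refine dvd_pow_self 2 fun h0 => h1 (Subgroup.card_eq_one.1 ?_)
    rw [ha, h0, pow_zero]
  obtain ⟨a, ha, hne⟩ := (h.two hδ).exists_fixed_point_of_prime_dvd_card_of_fixed_point K hd (a := (1 : K))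
    (fun t => Subtype.ext (by show (t : G) * ((1 : K) : G) * (t : G)⁻¹ = ((1 : K) : G); simp))
  have hac : ∀ t ∈ edgeT G w δ, t * (a : G) = a * t := fun t ht =>
    mul_inv_eq_iff_eq_mul.1 (congrArg Subtype.val (ha ⟨t, ht⟩))
  obtain ⟨k, hk⟩ := ((h.two hδ).to_le hK) a
  obtain ⟨j, hj1, hj2⟩ : ∃ j, (a : G) ^ 2 ^ j ≠ 1 ∧ (a : G) ^ 2 ^ (j + 1) = 1 := by
    have hk' : (a : G) ^ 2 ^ k = 1 := by simpa using congrArg Subtype.val hk
    clear hk
    induction k with
    | zero => rw [pow_zero, pow_one] at hk'; exact absurd (Subtype.ext hk' : a = 1) (Ne.symm hne)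
    | succ k ih =>
      by_cases e : (a : G) ^ 2 ^ k = 1
      · exact ih e
      · exact ⟨k, e, hk'⟩
  refine ⟨(a : G) ^ 2 ^ j, pow_mem a.2 _, ?_, hj1⟩
  rw [h.wOf_eq hw hδ]
  refine mem_omegaCenterOf.2 ⟨pow_mem (hK a.2) _, fun t ht => ((show Commute t a from hac t ht).pow_right _).eq, ?_⟩
  rw [← pow_mul, ← pow_succ, hj2]

variable {b : ℕ} (hb : IsDist G Adj ty b)
include hb

theorem crit_fix_left {f : ℕ → V} (hc : Crit G Adj ty b f) {i : ℕ} (hi : i < b) {a : G}
    (ha : a ∈ zOf G Adj (f 0)) : a ∈ kern Adj (f i) :=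
  h.le_kern hb hi hc.start (by simpa using hc.walk.near (Nat.zero_le i) hi.le) ha

theorem crit_rev {f : ℕ → V} (hc : Crit G Adj ty b f) (hev : Even b) : Crit G Adj ty b (fun i => f (b - i)) := by
  have hb0 := h.dist_pos hb
  have hbA : ty (f b) = true := (h.ty_idx hc.walk hc.start le_rfl).2 hev
  refine ⟨h.walk_rev hc.walk, by simpa using hbA, fun hle => hc.not_le fun a ha => ?_⟩
  simp only [Nat.sub_zero, Nat.sub_self] at hle
  have hadj := hc.walk.adj (b - 1) (by omega)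
  rw [show b - 1 + 1 = b by omega] at hadj
  exact h.mem_kern_of_centralizes hbA ((h.crit_fix_left hb hc (i := b - 1) (by omega) ha).2 _ hadj)
    fun z hz => (zOf_comm_kern ha (hle hz)).symm

/-- the data of a critical pair with both ends of type `true` -/
theorem even_data {f : ℕ → V} (hc : Crit G Adj ty b f) (hev : Even b) :
    KOne G Adj ty ∧ rOf G Adj (f 1) = rOf G Adj (f (b - 1)) := by
  have hb0 := h.dist_pos hb
  have hb2 : 2 ≤ b := by obtain ⟨m, hm⟩ := hev; omega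
  obtain ⟨a, ha, haq⟩ := SetLike.not_le_iff_exists.1 hc.not_le
  obtain ⟨y, hy, hyq⟩ := SetLike.not_le_iff_exists.1 (h.crit_rev hb hc hev).not_le
  simp only [Nat.sub_zero, Nat.sub_self] at hy hyq
  have hbA : ty (f b) = true := (h.ty_idx hc.walk hc.start le_rfl).2 hev
  have h01 := hc.walk.adj 0 (by omega)
  have h1b := hc.walk.adj (b - 1) (by omega)
  rw [show b - 1 + 1 = b by omega] at h1b
  have hB1 : ty (f 1) = false := h.tyB h01 hc.start
  have hBb : ty (f (b - 1)) = false := h.tyB (h.symm h1b) hbA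
  have hyT : y ∈ edgeT G (f 0) (f 1) := edgeT_comm (G := G) (f 1) (f 0) ▸
    h.mem_edgeT_of_near hb (n := b - 1) (by omega) hbA (h.near_symm (hc.walk.near (i := 1) (by omega) le_rfl))
      (h.symm h01) hy
  have haT : ∀ z ∈ zOf G Adj (f 0), z ∈ edgeT G (f b) (f (b - 1)) := fun z hz =>
    edgeT_comm (G := G) (f (b - 1)) (f b) ▸
      h.mem_edgeT_of_near hb (n := b - 1) (by omega) hc.start (by simpa using hc.walk.near (Nat.zero_le (b - 1)) (by omega)) h1b hz
  have hcom : ∀ z ∈ zOf G Adj (f 0), z ∈ kern Adj (f b) → z * (y * z * y⁻¹) = 1 := fun z hz hzq => by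
    rw [← zOf_comm_kern hy hzq, mul_inv_cancel_right, h.zOf_sq hz]
  have hk : KOne G Adj ty := by
    refine h.kOne_of_one hB1 fun c hcc c' hcc' hc1 hc1' => ?_
    obtain ⟨δ, hδ, hne⟩ := h.exists_nbr_ne (x := f 0) (f 1)
    obtain ⟨d, hd, hde⟩ := h.fold_onto hc.start h01 hδ hne hcc hyT hyq
    obtain ⟨d', hd', hde'⟩ := h.fold_onto hc.start h01 hδ hne hcc' hyT hyq
    have hdw := h.wOf_le hc.start hδ hd
    have hdw' := h.wOf_le hc.start hδ hd'
    have hdq : d ∉ kern Adj (f b) := fun e => hc1 (hde ▸ hcom d hdw e)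
    have hdq' : d' ∉ kern Adj (f b) := fun e => hc1' (hde' ▸ hcom d' hdw' e)
    have := hcom _ (mul_mem hdw hdw') (h.mul_mem_kern (h.symm h1b) (haT d hdw) (haT d' hdw') hdq hdq')
    rw [h.fold_mul h01 hdw hdw' hyT, hde, hde'] at this
    rw [eq_inv_of_mul_eq_one_left this, h.zOf_inv hcc']
  refine ⟨hk, ?_⟩
  have haA : a ∉ zOf G Adj (f 1) := fun e => haq
    (h.w_le_kern hb (n := b - 1) (by omega) hB1 (hc.walk.near (i := 1) (by omega) le_rfl) e)
  obtain ⟨c, hcd⟩ : ∃ c, c = a * (y * a * y⁻¹) := ⟨_, rfl⟩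
  obtain ⟨c', hcd'⟩ : ∃ c', c' = y * (a * y * a⁻¹) := ⟨_, rfl⟩
  have hcm : c ∈ zOf G Adj (f 1) := hcd ▸ h.fold_mem hc.start h01 ha hyT hyq
  have hcm' : c' ∈ zOf G Adj (f (b - 1)) := hcd' ▸ h.fold_mem hbA (h.symm h1b) hy (haT a ha) haq
  have hc1 : c ≠ 1 := fun e => haA (h.mem_wOf_of_fold hc.start h01 ha hyT hyq (hcd ▸ e))
  have hcc : c' = c := by
    have he : c * c' = 1 := by
      rw [hcd, hcd', h.zOf_inv ha, h.zOf_inv hy,
        show a * (y * a * y) * (y * (a * y * a)) = a * (y * (a * (y * y) * a) * y) * a by group,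
        h.zOf_sq hy, mul_one, h.zOf_sq ha, mul_one, h.zOf_sq hy, mul_one, h.zOf_sq ha]
    rw [eq_inv_of_mul_eq_one_right he, h.zOf_inv hcm]
  rw [← h.rOf_eq hk hB1 hcm hc1, ← h.rOf_eq hk hBb hcm' (hcc ▸ hc1), hcc]

theorem no_four (hb4 : b = 4) : False := by
  subst hb4
  obtain ⟨f, hc⟩ := hb.attained
  obtain ⟨hk, he⟩ := h.even_data hb hc ⟨2, rfl⟩
  exact h.rOf_inj hk ((h.ty_idx hc.walk hc.start (i := 2) (by omega)).2 ⟨1, rfl⟩)
    (h.symm (hc.walk.adj 1 (by omega))) (hc.walk.adj 2 (by omega)) (Ne.symm (hc.walk.ne 1 (by omega))) he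

theorem no_even_large (hev : Even b) (h6 : 6 ≤ b) : False := by
  obtain ⟨f, hc⟩ := hb.attained
  obtain ⟨hk, he⟩ := h.even_data hb hc hev
  have hf := hc.walk
  have hbA : ty (f b) = true := (h.ty_idx hf hc.start le_rfl).2 hev
  have h01 := hf.adj 0 (by omega)
  have h1b := hf.adj (b - 1) (by omega)
  rw [show b - 1 + 1 = b by omega] at h1b
  have hBb : ty (f (b - 1)) = false := h.tyB (h.symm h1b) hbA
  obtain ⟨γ, hγ, hγ1⟩ := h.exists_nbr_ne (x := f 0) (f 1)
  have hγB := h.tyB hγ hc.start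
  have hg : IsWalk Adj (b + 1) (pre γ f) := hf.cons (h.symm hγ) fun _ => Ne.symm hγ1
  obtain ⟨a, ha, haq⟩ := SetLike.not_le_iff_exists.1 hc.not_le
  obtain ⟨y, hy, hyq⟩ := SetLike.not_le_iff_exists.1 (h.crit_rev hb hc hev).not_le
  simp only [Nat.sub_zero, Nat.sub_self] at hy hyq
  have hyk : ∀ i, 0 < i → i ≤ b → y ∈ kern Adj (f i) := fun i hi hib =>
    h.le_kern hb (n := b - i) (by omega) hbA (h.near_symm (hf.near hib le_rfl)) hy
  have hy0 : y • f 0 = f 0 := (hyk 1 (by omega) (by omega)).2 _ (h.symm h01)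
  have hyT : y ∈ edgeT G (f 0) (f 1) := mem_edgeT.2 ⟨hy0, (hyk 1 (by omega) (by omega)).1⟩
  have hyγ : y • γ ≠ γ := h.moves h01 hγ (Ne.symm hγ1) hyT hyq
  have main : rOf G Adj γ = rOf G Adj (f (b - 3)) → False := by
    intro hr
    have h3B : ty (f (b - 3)) = false := h.ty_odd hf hc.start (by omega) (by obtain ⟨m, hm⟩ := hev; exact ⟨m - 2, by omega⟩)
    refine h.rOf_inj hk hc.start (h.smul_adj hy0 hγ) hγ hyγ ?_
    rw [h.rOf_smul hk y hγB, hr, h.wOf_central h3B (h.rOf_spec _).1 (hyk (b - 3) (by omega) (by omega)).1,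
      mul_inv_cancel_right]
  by_cases h2 : ∀ u, Adj γ u → zOf G Adj u ≤ kern Adj (f (b - 2))
  swap
  · push Not at h2
    obtain ⟨u, hu, hule⟩ := h2
    have huA := h.tyA hu hγB
    have hu0 : u ≠ f 0 := fun e => hule fun p hp => h.crit_fix_left hb hc (i := b - 2) (by omega) (e ▸ hp)
    have hg' : IsWalk Adj (b + 2) (pre u (pre γ f)) := hg.cons (h.symm hu) fun _ => Ne.symm hu0
    have hc' : Crit G Adj ty b (pre u (pre γ f)) := ⟨hg'.mono (by omega), huA, by
      obtain ⟨m, rfl⟩ : ∃ m, b = m + 2 := ⟨b - 2, by omega⟩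
      simpa [pre] using hule⟩
    have := (h.even_data hb hc' hev).2
    obtain ⟨m, rfl⟩ : ∃ m, b = m + 3 := ⟨b - 3, by omega⟩
    exact main (by simpa [pre] using this)
  by_cases h3 : ∀ u, Adj γ u → zOf G Adj u ≤ kern Adj (f (b - 1))
  · obtain ⟨U, hU⟩ : ∃ U, U = vOf G Adj γ := ⟨_, rfl⟩
    have hUk : U ≤ kern Adj (f (b - 1)) := hU ▸ vOf_le h3
    have hZ0 : zOf G Adj (f 0) ≤ U := hU ▸ zOf_le_vOf (h.symm hγ)
    have hyU : ∀ p ∈ U, y * p * y⁻¹ ∈ U := by
      intro p hp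
      have hpT : p ∈ edgeT G (f b) (f (b - 1)) := edgeT_comm (G := G) (f (b - 1)) (f b) ▸ kern_le h1b (hUk hp)
      have hq : y * (p * y * p⁻¹) ∈ U := by
        by_cases hpq : p ∈ kern Adj (f b)
        · rw [zOf_comm_kern hy hpq, mul_inv_cancel_right, h.zOf_sq hy]; exact one_mem _
        · rcases h.wOf_cases hk hBb (h.fold_mem hbA (h.symm h1b) hy hpT hpq) with e | e
          · rw [e]; exact one_mem _
          · rw [e, ← he]; exact hZ0 (h.wOf_le hc.start h01 (h.rOf_spec _).1)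
      have := mul_mem hq hp
      rw [show y * (p * y * p⁻¹) * p = y * p * y by group] at this
      rwa [h.zOf_inv hy]
    have hNγ : stabilizer G γ ≤ normalizer (U : Set G) := hU ▸ h.stab_le_normalizer_vOf γ
    have hyN : y ∈ normalizer (U : Set G) := by
      refine mem_normalizer_iff.2 fun p => ⟨hyU p, fun hp => ?_⟩
      have := hyU _ hp
      rwa [show y * (y * p * y⁻¹) * y⁻¹ = (y * y) * p * (y * y)⁻¹ by group, h.zOf_sq hy, one_mul, inv_one,
        mul_one] at this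
    have hN0 : stabilizer G (f 0) ≤ normalizer (U : Set G) :=
      h.le_normalizer_of_invariant hγ (fun g hg => hNγ hg.2) hyN hy0 hyγ
    have hUT : U ≤ edgeT G (f 0) γ := hU.le.trans (vOf_le fun u hu p hp => kern_le hγ
      (h.le_kern hb (n := 2) (by omega) (h.tyA hu hγB) (near_cons (h.symm hu) (near_one (h.symm hγ))) hp))
    have hbot := h.faithful hγ U hUT hN0 hNγ
    refine (h.rOf_spec (f 1)).2 ?_
    rw [← mem_bot, ← hbot]
    exact hZ0 (h.wOf_le hc.start h01 (h.rOf_spec _).1)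
  push Not at h3
  obtain ⟨u, hu, hule⟩ := h3
  obtain ⟨e, hee, heq⟩ := SetLike.not_le_iff_exists.1 hule
  have huA := h.tyA hu hγB
  have hek : ∀ i, i + 2 ≤ b → e ∈ kern Adj (f i) := by
    intro i hi
    by_cases e' : i + 2 = b
    · rw [show i = b - 2 by omega]; exact h2 u hu hee
    · exact h.le_kern hb (n := i + 2) (by omega) huA
        (near_cons (h.symm hu) (near_cons (h.symm hγ) (by simpa using hf.near (Nat.zero_le i) (by omega)))) hee
  have hmv : Mvs G Adj ty (b - 1) := by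
    intro s
    cases s
    · refine ⟨f, e, hf.mono (by omega), hBb, fun i hi => ?_, heq⟩
      by_cases e' : i + 2 ≤ b
      · exact (hek i e').1
      · obtain rfl : i = b - 1 := by omega
        have hadj := hf.adj (b - 2) (by omega)
        rw [show b - 2 + 1 = b - 1 by omega] at hadj
        exact (hek (b - 2) (by omega)).2 _ hadj
    · refine ⟨fun i => f (i + 1), a, hf.shift (by omega), ?_, fun i hi => ?_, ?_⟩
      · show ty (f (b - 1 + 1)) = true
        rwa [show b - 1 + 1 = b by omega]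
      · show a • f (i + 1) = f (i + 1)
        by_cases e' : i + 1 < b
        · exact (h.crit_fix_left hb hc e' ha).1
        · rw [show i + 1 = b by omega]
          exact (h.crit_fix_left hb hc (i := b - 1) (by omega) ha).2 _ h1b
      · show a ∉ kern Adj (f (b - 1 + 1))
        rwa [show b - 1 + 1 = b by omega]
  have hB1 : ty (f 1) = false := h.tyB h01 hc.start
  obtain ⟨g, hgw⟩ := h.conj_walk hmv (n := b - 2) (by omega) (hf.shift (m := b - 2) (k := 1) (by omega))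
    (hg.mono (by omega)) (show ty (f 1) = ty γ from hB1.trans hγB.symm)
  refine main ?_
  have e1 : g • f 1 = γ := hgw 0 (Nat.zero_le _)
  have e2 := hgw (b - 2) le_rfl
  obtain ⟨m, rfl⟩ : ∃ m, b = m + 3 := ⟨b - 3, by omega⟩
  have e2' : g • f (m + 2) = f m := by simpa [pre] using e2
  show rOf G Adj γ = rOf G Adj (f m)
  rw [← e1, ← e2', h.rOf_smul hk g hB1, h.rOf_smul hk g (by simpa using hBb), he]
  rfl

/-- the bound for critical distance two -/
theorem card_le_two (hb2 : b = 2) {x y : V} (hxy : Adj x y) : Nat.card (edgeT G x y) ≤ 128 := by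
  subst hb2
  obtain ⟨f, hc⟩ := hb.attained
  haveI : Nonempty V := ⟨x⟩
  have hall : ∀ {p δ q : V}, ty p = true → Adj p δ → Adj δ q → p ≠ q → ¬ zOf G Adj p ≤ kern Adj q := by
    intro p δ q hp hpδ hδq hne
    have hw : IsWalk Adj 2 (pre p (pre δ fun _ => q)) :=
      ((show IsWalk Adj 0 (fun _ => q) from ⟨fun i hi => absurd hi (by omega), fun i hi => absurd hi (by omega)⟩).cons
        hδq (by omega)).cons hpδ fun _ => Ne.symm hne
    obtain ⟨g, hg⟩ := h.conj_walk (fun s => h.mv_one s) (le_refl 2) hc.walk hw (hc.start.trans hp.symm)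
    have h0 : g • f 0 = p := hg 0 (by omega)
    have h2 : g • f 2 = q := hg 2 le_rfl
    intro hle
    rw [← h0, ← h2, h.crit_smul_iff] at hle
    exact hc.not_le hle
  obtain ⟨α, δ, hαδ, hα⟩ := h.exists_ty true
  obtain ⟨δ', δ'', hδ', hδ'', n1, n2, n3, hall3⟩ := h.exists_two α hαδ
  have step : ∀ {p q r : V}, Adj α p → Adj α q → Adj α r → p ≠ q → p ≠ r → q ≠ r →
      ∀ g ∈ dOf G Adj p ⊓ dOf G Adj q, g ∈ dOf G Adj r ∧
        ∃ t ∈ edgeT G α p, t ∉ kern Adj α ∧ t * g = g * t := by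
    intro p q r hp hq hr npq npr nqr g hg
    have hpB := h.tyB hp hα
    obtain ⟨w, hw, hwne⟩ := h.exists_nbr_ne (x := p) α
    have hwA := h.tyA hw hpB
    obtain ⟨t, ht, htq⟩ := SetLike.not_le_iff_exists.1 (hall hwA (h.symm hw) (h.symm hp) hwne)
    have htp : t ∈ kern Adj p := h.le_kern hb (n := 1) (by omega) hwA (near_one (h.symm hw)) ht
    have htT : t ∈ edgeT G α p := edgeT_comm (G := G) p α ▸ kern_le (h.symm hp) htp
    have htg : t * g = g * t := (zOf_comm_kern ht ((mem_dOf.1 hg.1).2 w hw)).symm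
    refine ⟨?_, t, htT, htq, htg⟩
    have htqr : t • q = r := h.swap_eq hp hq hr npq npr nqr htT htq
    obtain ⟨hk1, hk2⟩ := mem_dOf.1 hg.2
    refine mem_dOf.2 ⟨?_, fun v hv => ?_⟩
    · have := h.conj_kern t hk1
      rwa [htg, mul_inv_cancel_right, htqr] at this
    · have hv' : Adj q (t⁻¹ • v) := by
        have := h.smul t⁻¹ hv
        rwa [inv_smul_eq_iff.2 htqr.symm] at this
      have := h.conj_kern t (hk2 _ hv')
      rwa [htg, mul_inv_cancel_right, smul_inv_smul] at this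
  obtain ⟨K, hK⟩ : ∃ K, K = dOf G Adj δ ⊓ dOf G Adj δ' := ⟨_, rfl⟩
  have hKbot : K = ⊥ := by
    by_contra hne
    have hKT : K ≤ edgeT G α δ := fun g hg => by
      rw [hK] at hg
      exact kern_le hαδ ((mem_dOf.1 hg.1).2 α (h.symm hαδ))
    have hKn : edgeT G α δ ≤ normalizer (K : Set G) := CfsgLib.JComp.le_normalizer_of_conj fun t ht g hg => by
      rw [hK] at hg ⊢
      obtain ⟨htα, htδ⟩ := mem_edgeT.1 ht
      have hconj : ∀ p, g ∈ dOf G Adj p → t * g * t⁻¹ ∈ dOf G Adj (t • p) := fun p hp => by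
        obtain ⟨k1, k2⟩ := mem_dOf.1 hp
        refine mem_dOf.2 ⟨h.conj_kern t k1, fun v hv => ?_⟩
        have hv' : Adj p (t⁻¹ • v) := by simpa using h.smul t⁻¹ hv
        have := h.conj_kern t (k2 _ hv')
        rwa [smul_inv_smul] at this
      have h1 := hconj δ hg.1
      rw [htδ] at h1
      rcases hall3 _ (h.smul_adj htα hδ') with e | e | e
      · exact absurd (smul_left_cancel t (e.trans htδ.symm)) n1
      · exact ⟨h1, e ▸ hconj δ' hg.2⟩
      · exact ⟨h1, (step hαδ hδ'' hδ' (Ne.symm n2) (Ne.symm n1) (Ne.symm n3) _ ⟨h1, e ▸ hconj δ' hg.2⟩).1⟩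
    obtain ⟨g, hg, hgδ, hg1⟩ := h.exists_wOf_mem hα hαδ hKT hKn hne
    rw [hK] at hg
    obtain ⟨-, t, ht, htq, htg⟩ := step hδ' hαδ hδ'' n1 n3 (Ne.symm n2) g ⟨hg.2, hg.1⟩
    refine hg1 (h.wOf_inter hα (h.smul_adj (mem_edgeT.1 ht).1 hαδ) hαδ ?_ ?_ hgδ)
    · exact h.moves hδ' hαδ n1 ht htq
    · have := h.conj_zOf t hgδ
      rwa [htg, mul_inv_cancel_right] at this
  haveI : ∀ v, Finite (kern (G := G) Adj v) := h.finite_kern
  have hD : ∀ p, Adj α p → Nat.card (kern (G := G) Adj α) ≤ 8 * Nat.card (dOf G Adj p) := by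
    intro p hp
    obtain ⟨a, c, ha, hc', a1, c1, ac, hc3⟩ := h.exists_two p (h.symm hp)
    have hst : ∀ (S : Subgroup G) (v : V), S ≤ kern Adj p → Adj p v →
        Nat.card S ≤ 2 * Nat.card ↥(S ⊓ kern Adj v) := fun S v hS hv => by
      haveI : Finite S := Finite.of_injective _ (inclusion_injective hS)
      exact h.card_le_kern (h.symm hv) (edgeT_comm (G := G) v p ▸ fun g hg => kern_le hv (hS hg))
    have e1 := hst (kern Adj p) α le_rfl (h.symm hp)
    have e2 := hst (kern Adj p ⊓ kern Adj α) a inf_le_left ha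
    have e3 := hst (kern Adj p ⊓ kern Adj α ⊓ kern Adj a) c (inf_le_left.trans inf_le_left) hc'
    have hle : kern (G := G) Adj p ⊓ kern Adj α ⊓ kern Adj a ⊓ kern Adj c ≤ dOf G Adj p := fun g hg => by
      refine mem_dOf.2 ⟨hg.1.1.1, fun v hv => ?_⟩
      rcases hc3 v hv with rfl | rfl | rfl
      · exact hg.1.1.2
      · exact hg.1.2
      · exact hg.2
    haveI : Finite (dOf G Adj p) :=
      Finite.of_injective _ (inclusion_injective (inf_le_left : dOf G Adj p ≤ kern Adj p))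
    have e4 := Subgroup.card_le_of_le hle
    rw [h.card_kern_eq hp]
    omega
  have hprod : Nat.card (dOf G Adj δ) * Nat.card (dOf G Adj δ') ≤ Nat.card (kern (G := G) Adj α) := by
    rw [← Nat.card_prod]
    refine Nat.card_le_card_of_injective (fun p : dOf G Adj δ × dOf G Adj δ' =>
      (⟨(p.1 : G) * p.2, mul_mem ((mem_dOf.1 p.1.2).2 α (h.symm hαδ)) ((mem_dOf.1 p.2.2).2 α (h.symm hδ'))⟩ :
        kern (G := G) Adj α)) fun p q e => ?_
    have e' : (p.1 : G) * p.2 = q.1 * q.2 := congrArg Subtype.val e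
    have hm : (q.1 : G)⁻¹ * p.1 ∈ K := by
      rw [hK]
      refine mem_inf.2 ⟨mul_mem (inv_mem q.1.2) p.1.2, ?_⟩
      rw [show (q.1 : G)⁻¹ * p.1 = q.2 * (p.2 : G)⁻¹ by rw [eq_mul_inv_iff_mul_eq, mul_assoc, e', inv_mul_cancel_left]]
      exact mul_mem q.2.2 (inv_mem p.2.2)
    rw [hKbot, mem_bot, inv_mul_eq_one] at hm
    have h2 : (p.2 : G) = q.2 := mul_left_cancel (hm ▸ e' : (p.1 : G) * p.2 = p.1 * q.2)
    exact Prod.ext (Subtype.ext hm.symm) (Subtype.ext h2)
  have hd1 := hD δ hαδ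
  have hd2 := hD δ' hδ'
  have hQ : Nat.card (kern (G := G) Adj α) ≤ 64 := by
    generalize Nat.card (kern (G := G) Adj α) = q at *
    generalize Nat.card (dOf G Adj δ) = d at *
    generalize Nat.card (dOf G Adj δ') = d' at *
    nlinarith
  rw [h.card_edgeT_eq hxy hαδ, h.card_edgeT hαδ]
  omega

end Cub

end CfsgLib.LS.CubicBound
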