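import Cfsg.Agent.Lib.LocalStructure.CubicBound.NoTriv

/-!
# Odd critical distance at least five is impossible
-/

set_option autoImplicit false
set_option linter.style.haveILetI false
set_option linter.unusedSectionVars false

open Subgroup MulAction

namespace CfsgLib.LS.CubicBound

open CfsgLib.LS.ActiveCenter
open CfsgLib.LS.ActiveCenter.Geo (zOf kern_le edgeA_le_zOf zOf_comm_kern)

universe u v

variable {G : Type u} {V : Type v} [Group G] [MulAction G V] {Adj : V → V → Prop} {ty : V → Bool}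

namespace Cub

variable (h : Cub G Adj ty) {b : ℕ} (hd : OddDist G Adj ty b)
include h hd

/-- the commutator of the outer elements of a critical walk -/
theorem com_mem (hj : JZero G Adj ty) {f : ℕ → V} (hc : Crit G Adj ty b f) {w : V} (hw : Adj (f b) w)
    (hne : w ≠ f (b - 1)) {z y : G} (hz : Out G Adj (f 1) (f 0) z) (hy : Out G Adj (f b) w y) :
    Out G Adj (f 1) (f 2) (z * (y * z * y⁻¹)) ∧ Out G Adj (f b) (f (b - 1)) (z * (y * z * y⁻¹)) := by
  obtain ⟨⟨n1, n2, hy0, hzy⟩, ⟨m1, m2, hzw, hzy'⟩, he⟩ := h.com_data hd hc hw hne hz hy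
  have h3 := hd.three_le
  have hlast := hc.walk.adj (b - 1) (by omega)
  rw [show b - 1 + 1 = b by omega] at hlast
  have h01 := hc.walk.adj 0 (by omega)
  refine ⟨h.jZero_out hd hj (h.tyB h01 hc.start) (h.symm h01) hy0 (hc.walk.adj 1 (by omega)) (Ne.symm n1)
    (Ne.symm (hc.walk.ne 0 (by omega))) n2 hz hzy, ?_⟩
  rw [he]
  exact h.jZero_out hd hj (h.end_ty hd hc) hzw hw (h.symm hlast) m1 m2 hne hzy' hy

theorem rOf_mem_far (hj : JZero G Adj ty) (h5 : 5 ≤ b) {f : ℕ → V} (hc : Crit G Adj ty b f) :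
    rOf G Adj (f 1) ∈ zOf G Adj (f (b - 3)) := by
  have hf := hc.walk
  have h01 := hf.adj 0 (by omega)
  have hB1 := h.tyB h01 hc.start
  obtain ⟨γ, hγ, hγ1, hp⟩ := h.exists_pred hd hc h5
  have hγB := h.tyB hγ hc.start
  obtain ⟨u, hu, hu0⟩ := h.exists_nbr_ne (x := γ) (f 0)
  have hcu := hp u hu hu0
  obtain ⟨v, hv, hvne, -⟩ := h.sym hd hcu
  obtain ⟨z, hz⟩ := h.exists_out hγB hu
  obtain ⟨y, hy⟩ := h.exists_out (h.end_ty hd hcu) hv
  obtain ⟨e1, e2⟩ := h.com_mem hd hj hcu hv hvne (z := z) (y := y) hz hy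
  obtain ⟨R, hR⟩ : ∃ R, R = z * (y * z * y⁻¹) := ⟨_, rfl⟩
  rw [← hR] at e1 e2
  have hR0 : Out G Adj γ (f 0) R := e1
  have hR3 : R ∈ zOf G Adj (f (b - 3)) := by
    have := e2.mem
    obtain ⟨m, rfl⟩ : ∃ m, b = m + 3 := ⟨b - 3, by omega⟩
    simpa [pre] using this
  have hRb : R ∈ kern Adj (f b) := h.le_kern hd.toIsDist (n := 3) (by omega)
    ((h.ty_idx hf hc.start (i := b - 3) (by omega)).2 (by obtain ⟨m, hm⟩ := hd.odd; exact ⟨m - 1, by omega⟩))
    (by
      have := hf.near (i := b - 3) (j := b) (by omega) le_rfl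
      rwa [show b - (b - 3) = 3 by omega] at this) hR3
  have hRW : R ∈ zOf G Adj (f 1) := by
    by_contra hne
    exact h.out_crit hd hc ⟨hR0.mem, hne⟩ hRb
  rwa [← h.rOf_eq (h.kOne_odd hd) hB1 hRW fun e => hR0.not_mem (e ▸ one_mem _)]

theorem no_far (hj : JZero G Adj ty) (h7 : 7 ≤ b) : False := by
  obtain ⟨f, hc⟩ := hd.attained
  have hf := hc.walk
  obtain ⟨γ, hγ, hγ1, hp⟩ := h.exists_pred hd hc (by omega)
  obtain ⟨u, hu, hu0⟩ := h.exists_nbr_ne (x := γ) (f 0)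
  have := h.rOf_mem_far hd hj (by omega) (hp u hu hu0)
  refine h.out_crit hd hc (h.out_rOf hc.start (hf.adj 0 (by omega)) hγ hγ1) ?_
  obtain ⟨m, rfl⟩ : ∃ m, b = m + 5 := ⟨b - 5, by omega⟩
  refine h.le_kern hd.toIsDist (n := 5) (by omega) ((h.ty_idx hf hc.start (i := m) (by omega)).2 ?_)
    (hf.near_k (i := m) (k := 5) le_rfl) (by simpa [pre] using this)
  obtain ⟨k, hk⟩ := hd.odd
  exact ⟨k - 2, by omega⟩

end Cub

end CfsgLib.LS.CubicBound
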