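import Cfsg.Agent.Lib.LocalStructure.CubicBound.Outer

/-!
# Odd critical distance: predecessors, and the triple products are central
-/

set_option autoImplicit false
set_option linter.style.haveILetI false
set_option linter.unusedSectionVars false

open Subgroup MulAction

namespace CfsgLib.LS.CubicBound

open CfsgLib.LS.ActiveCenter
open CfsgLib.LS.ActiveCenter.Geo (zOf kern_le edgeA_le_zOf zOf_comm_kern)

universe u v

variable {G : Type u} {V : Type v} [Group G] [MulAction G V] {Adj : V → V → Prop} {ty : V → Bool}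

namespace Cub

variable (h : Cub G Adj ty) {b : ℕ} (hd : OddDist G Adj ty b)
include h hd

/-- a critical walk continues two steps backwards -/
theorem exists_pred {f : ℕ → V} (hc : Crit G Adj ty b f) (h5 : 5 ≤ b) :
    ∃ γ, Adj (f 0) γ ∧ γ ≠ f 1 ∧ ∀ u, Adj γ u → u ≠ f 0 → Crit G Adj ty b (pre u (pre γ f)) := by
  have hf := hc.walk
  have hbB := h.end_ty hd hc
  have h01 := hf.adj 0 (by omega)
  have hB1 : ty (f 1) = false := h.tyB h01 hc.start
  have hlast := hf.adj (b - 1) (by omega)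
  rw [show b - 1 + 1 = b by omega] at hlast
  by_cases hex : ∃ γ, Adj (f 0) γ ∧ γ ≠ f 1 ∧ ∃ u, Adj γ u ∧ ¬ zOf G Adj u ≤ kern Adj (f (b - 2))
  · obtain ⟨γ, hγ, hγ1, u, hu, hule⟩ := hex
    have hγB := h.tyB hγ hc.start
    have hg : IsWalk Adj (b + 1) (pre γ f) := hf.cons (h.symm hγ) fun _ => Ne.symm hγ1
    have hu0 : u ≠ f 0 := fun e => hule fun p hp => h.crit_fix_left hd.toIsDist hc (i := b - 2) (by omega) (e ▸ hp)
    have hcu : Crit G Adj ty b (pre u (pre γ f)) := by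
      refine ⟨(hg.cons (h.symm hu) fun _ => Ne.symm hu0).mono (by omega), h.tyA hu hγB, ?_⟩
      obtain ⟨m, rfl⟩ : ∃ m, b = m + 2 := ⟨b - 2, by omega⟩
      simpa [pre] using hule
    refine ⟨γ, hγ, hγ1, fun v hv hv0 => ?_⟩
    have h1 : pre u (pre γ f) 1 = γ := rfl
    have h2 : pre u (pre γ f) 2 = f 0 := rfl
    have := h.both_outer hd hcu (x := v) (by rw [h1]; exact hv) (by rw [h2]; exact hv0)
    have he : pre v (fun i => pre u (pre γ f) (i + 1)) = pre v (pre γ f) := by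
      funext i
      cases i <;> rfl
    rwa [he] at this
  push Not at hex
  exfalso
  have hlow : ∀ γ, Adj (f 0) γ → ∀ u, Adj γ u → ∀ i, i + 2 ≤ b → zOf G Adj u ≤ kern Adj (f i) := by
    intro γ hγ u hu i hi
    by_cases e : i + 2 = b ∧ γ ≠ f 1
    · rw [show i = b - 2 by omega]; exact hex γ hγ e.2 u hu
    intro p hp
    by_cases e1 : γ = f 1
    · subst e1
      cases i with
      | zero =>
        exact h.le_kern hd.toIsDist (n := 2) (by omega) (h.tyA hu hB1)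
          (near_cons (h.symm hu) (near_one (h.symm h01))) hp
      | succ j =>
        exact h.le_kern hd.toIsDist (n := j + 1) (by omega) (h.tyA hu hB1)
          (near_cons (h.symm hu) (by simpa using hf.near (i := 1) (j := j + 1) (by omega) (by omega))) hp
    · exact h.le_kern hd.toIsDist (n := i + 2) (by have : i + 2 ≠ b := fun e' => e ⟨e', e1⟩; omega)
        (h.tyA hu (h.tyB hγ hc.start))
        (near_cons (h.symm hu) (near_cons (h.symm hγ) (by simpa using hf.near (Nat.zero_le i) (by omega)))) hp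
  have contra : Mv G Adj ty true (b - 1) → False := by
    intro hmv
    obtain ⟨γ, hγ, hγ1⟩ := h.exists_nbr_ne (x := f 0) (f 1)
    have hγB := h.tyB hγ hc.start
    have hg : IsWalk Adj (b + 1) (pre γ f) := hf.cons (h.symm hγ) fun _ => Ne.symm hγ1
    obtain ⟨g, hgw⟩ := h.conj_walk (m := b - 1)
      (fun s => by cases s; exacts [(h.mv_end hd hc).mono (by omega), hmv]) (n := b - 1) (by omega)
      (hf.shift (m := b - 1) (k := 1) (by omega)) (hg.mono (by omega))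
      (show ty (f 1) = ty γ from hB1.trans hγB.symm)
    have g1 : g • f 1 = γ := hgw 0 (by omega)
    have gb : g • f b = f (b - 2) := by
      have := hgw (b - 1) le_rfl
      obtain ⟨m, rfl⟩ : ∃ m, b = m + 2 := ⟨b - 2, by omega⟩
      simpa [pre] using this
    have := hex γ hγ hγ1 (g • f 0) (g1 ▸ h.smul g (h.symm h01))
    rw [← gb, h.crit_smul_iff] at this
    exact hc.not_le this
  have hnear : ∀ γ, Adj (f 0) γ → ∀ u, Adj γ u → zOf G Adj u ≤ kern Adj (f (b - 1)) := by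
    intro γ hγ u hu
    by_contra hule
    obtain ⟨e, hee, heq⟩ := SetLike.not_le_iff_exists.1 hule
    refine contra ⟨f, e, hf.mono (by omega), h.tyA (h.symm hlast) hbB, fun i hi => ?_, heq⟩
    by_cases e' : i + 2 ≤ b
    · exact (hlow γ hγ u hu i e' hee).1
    · obtain rfl : i = b - 1 := by omega
      have hadj := hf.adj (b - 2) (by omega)
      rw [show b - 2 + 1 = b - 1 by omega] at hadj
      exact (hlow γ hγ u hu (b - 2) (by omega) hee).2 _ hadj
  obtain ⟨M, hM⟩ : ∃ M, M = ⨆ (γ : V) (_ : Adj (f 0) γ), vOf G Adj γ := ⟨_, rfl⟩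
  have hVM : ∀ γ, Adj (f 0) γ → vOf G Adj γ ≤ M := fun γ hγ => hM ▸
    le_iSup₂_of_le (f := fun γ (_ : Adj (f 0) γ) => vOf G Adj γ) γ hγ le_rfl
  have hMk : ∀ i ≤ b - 1, M ≤ kern Adj (f i) := by
    intro i hi
    refine hM.le.trans (iSup₂_le fun γ hγ => vOf_le fun u hu => ?_)
    by_cases e' : i + 2 ≤ b
    · exact hlow γ hγ u hu i e'
    · rw [show i = b - 1 by omega]; exact hnear γ hγ u hu
  have hMb : ∀ x ∈ M, x • f b = f b := fun x hx => (hMk (b - 1) le_rfl hx).2 _ hlast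
  have hMT : ∀ x ∈ M, x ∈ edgeT G (f b) (f (b - 1)) := fun x hx =>
    mem_edgeT.2 ⟨hMb x hx, (hMk (b - 1) le_rfl hx).1⟩
  obtain ⟨w, hw, hwne, hwle⟩ := h.sym hd hc
  obtain ⟨y, hy, hyq⟩ := SetLike.not_le_iff_exists.1 hwle
  have hcomm : ∀ x ∈ M, x ∈ kern Adj (f b) → x * y = y * x := by
    intro x hx hxb
    by_contra hne
    have hxw : x ∉ kern Adj w := fun e => hne (zOf_comm_kern hy e)
    have hwalk : IsWalk Adj b (fun i => app b f w (i + 1)) :=
      (hf.snoc hw fun _ => hwne).shift (m := b) (k := 1) (by omega)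
    refine contra (Mv.mono (n := b) (by omega) ⟨fun i => app b f w (i + 1), x, hwalk, ?_, fun i hi => ?_, ?_⟩)
    · show ty (app b f w (b + 1)) = true
      rw [app_last]
      exact h.tyA hw hbB
    · show x • app b f w (i + 1) = app b f w (i + 1)
      by_cases e' : i + 1 ≤ b
      · rw [app_le f w e']
        by_cases e'' : i + 1 = b
        · rw [e'', hxb.1]
        · exact (hMk (i + 1) (by omega) hx).1
      · rw [show i = b by omega, app_last]
        exact hxb.2 w hw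
    · show x ∉ kern Adj (app b f w (b + 1))
      rwa [app_last]
  obtain ⟨z, hz⟩ := h.exists_out hB1 (h.symm h01)
  obtain ⟨⟨-, -, hy0, hzy⟩, -, -⟩ := h.com_data hd hc hw hwne hz
    (y := y) ⟨hy, fun e => hyq (h.w_le_kern hd.toIsDist (n := b - 1) (by omega) hbB
      (h.near_symm (hf.near (i := 1) (by omega) le_rfl)) e)⟩
  have hzM : z ∈ M := hVM _ h01 (zOf_le_vOf (h.symm h01) hz.mem)
  have hzM' : y * z * y⁻¹ ∈ M := hVM _ h01 (zOf_le_vOf hy0 hzy.mem)
  have hzb := h.out_crit hd hc hz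
  have hyM : ∀ x ∈ M, y * x * y⁻¹ ∈ M := by
    intro x hx
    by_cases hxb : x ∈ kern Adj (f b)
    · rw [← hcomm x hx hxb, mul_inv_cancel_right]; exact hx
    · have hxz := h.mul_mem_kern (h.symm hlast) (hMT x hx) (hMT z hzM) hxb hzb
      have hfix : y * (x * z) * y⁻¹ = x * z := by
        rw [← hcomm _ (mul_mem hx hzM) hxz, mul_inv_cancel_right]
      rw [show y * x * y⁻¹ = y * (x * z) * y⁻¹ * (y * z * y⁻¹)⁻¹ by group, hfix]
      exact mul_mem (mul_mem hx hzM) (inv_mem hzM')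
  have hyN : y ∈ normalizer (M : Set G) := by
    refine mem_normalizer_iff.2 fun p => ⟨hyM p, fun hp => ?_⟩
    have := hyM _ hp
    rwa [show y * (y * p * y⁻¹) * y⁻¹ = (y * y) * p * (y * y)⁻¹ by group, h.zOf_sq hy, one_mul, inv_one,
      mul_one] at this
  have hN0 : stabilizer G (f 0) ≤ normalizer (M : Set G) :=
    CfsgLib.JComp.le_normalizer_of_conj fun g hg x hx => by
      have hle : M ≤ M.comap (MulAut.conj g).toMonoidHom := by
        refine hM.le.trans (iSup₂_le fun γ hγ p hp => ?_)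
        exact hVM _ (h.smul_adj hg hγ) (h.vOf_conj g hp)
      exact hle hx
  have hyT := h.edgeT_of_outer hd hc hw hy
  have hN1 : stabilizer G (f 1) ≤ normalizer (M : Set G) :=
    h.le_normalizer_of_invariant (h.symm h01) (fun g hg => hN0 hg.2) hyN (mem_edgeT.1 hyT).1
      (h.moves (hf.adj 1 (by omega)) (h.symm h01) (hf.ne 0 (by omega)) hyT hyq)
  have hbot := h.faithful h01 M ((hMk 0 (by omega)).trans (kern_le h01)) hN0 hN1
  exact hz.not_mem (mem_bot.1 (hbot ▸ hzM) ▸ one_mem _)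

theorem jZero_three (hb : b = 3) : JZero G Adj ty := by
  subst hb
  obtain ⟨f, hc⟩ := hd.attained
  have hf := hc.walk
  have h12 := hf.adj 1 (by omega)
  have h23 := hf.adj 2 (by omega)
  have hB1 : ty (f 1) = false := h.tyB (hf.adj 0 (by omega)) hc.start
  have hbB := h.end_ty hd hc
  obtain ⟨w, hw, hwne, -⟩ := h.sym hd hc
  obtain ⟨z, hz⟩ := h.exists_out hB1 (h.symm (hf.adj 0 (by omega)))
  obtain ⟨y, hy⟩ := h.exists_out hbB hw
  obtain ⟨⟨n1, n2, hy0, hzy⟩, ⟨m1, m2, hzw, hzy'⟩, he⟩ := h.com_data hd hc hw hwne hz hy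
  obtain ⟨c, hc1⟩ := h.exists_out hB1 h12
  obtain ⟨c', hc3⟩ := h.exists_out hbB (h.symm h23)
  have e1 : IsE G Adj (f 1) (z * (y * z * y⁻¹) * c) :=
    ⟨f 0, y • f 0, f 2, h.symm (hf.adj 0 (by omega)), hy0, h12, Ne.symm n1, Ne.symm (hf.ne 0 (by omega)), n2,
      _, _, _, hz, hzy, hc1, rfl⟩
  have e3 : IsE G Adj (f 3) (z * y * z⁻¹ * y * c') :=
    ⟨z • w, w, f 2, hzw, hw, h.symm h23, m1, m2, hwne, _, _, _, hzy', hy, hc3, rfl⟩
  refine h.jZero_of_siblings hd (h.tyA h12 hB1) (h.symm h12) h23 (Ne.symm (hf.ne 1 (by omega))) e1 e3 ?_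
  obtain ⟨R, hR⟩ : ∃ R, R = z * y * z⁻¹ * y := ⟨_, rfl⟩
  rw [he, ← hR]
  have hcR : Commute c R := by
    have hmem : R ∈ vOf G Adj (f 3) := hR ▸ mul_mem (zOf_le_vOf hzw hzy'.mem) (zOf_le_vOf hw hy.mem)
    exact (h.vOf_comm hd hbB hmem (h.symm h23) hc1.mem).symm
  have hR2 : R * R = 1 := by
    rw [hR, show z * y * z⁻¹ * y * (z * y * z⁻¹ * y) = z * y * z⁻¹ * (y * (z * y * z⁻¹)) * y by group,
      h.comm_at hd hbB hw hzw hy.mem hzy'.mem,
      show z * y * z⁻¹ * (z * y * z⁻¹ * y) * y = z * (y * y) * z⁻¹ * (y * y) by group, h.zOf_sq hy.mem]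
    simp
  rw [show R * c * (R * c') = R * (c * R) * c' by group, hcR.eq, ← mul_assoc, hR2, one_mul]
  exact mul_mem hc1.mem hc3.mem

theorem jZero_far (h5 : 5 ≤ b) : JZero G Adj ty := by
  obtain ⟨f, hc⟩ := hd.attained
  have hf := hc.walk
  have hbB := h.end_ty hd hc
  have h01 := hf.adj 0 (by omega)
  have h12 := hf.adj 1 (by omega)
  have hB1 : ty (f 1) = false := h.tyB h01 hc.start
  by_cases hfull : ∀ δ w w', ty δ = false → Adj δ w → Adj δ w' → ∀ g ∈ kern (G := G) Adj δ, g ∈ kern Adj w →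
      g ∈ kern Adj w'
  · -- all three intersections are equal
    obtain ⟨p, q, r, hq, hr, hp, n1, n2, n3⟩ : ∃ p q r : V, Adj (f 1) q ∧ Adj (f 1) r ∧ Adj (f 1) p ∧
        q ≠ p ∧ r ≠ p ∧ q ≠ r := by
      obtain ⟨q, r, hq, hr, n1, n2, n3, -⟩ := h.exists_two (f 1) h12
      exact ⟨f 2, q, r, hq, hr, h12, n1, n2, n3⟩
    obtain ⟨t, ht, htq⟩ := SetLike.not_le_iff_exists.1 (h.kern_not_le (G := G) (h.symm hp))
    have htT : t ∈ edgeT G (f 1) p := edgeT_comm (G := G) p (f 1) ▸ kern_le (h.symm hp) ht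
    have ht1 := (mem_edgeT.1 htT).1
    have htr : t • q = r := h.swap_eq hp hq hr (Ne.symm n1) (Ne.symm n2) n3 htT htq
    obtain ⟨a, ha⟩ := h.exists_out hB1 hp
    obtain ⟨c, hc'⟩ := h.exists_out hB1 hq
    have hc'' : Out G Adj (f 1) r (t * c * t⁻¹) := ht1 ▸ htr ▸ h.out_conj t hc'
    obtain ⟨x, hxd⟩ : ∃ x, x = a * c * (t * c * t⁻¹) := ⟨_, rfl⟩
    have hx : IsE G Adj (f 1) x :=
      hxd ▸ ⟨p, q, r, hp, hq, hr, Ne.symm n1, Ne.symm n2, n3, a, c, _, ha, hc', hc'', rfl⟩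
    have hfix0 : ∀ g ∈ kern (G := G) Adj (f 1), g ∈ kern Adj p → g * x = x * g := by
      intro g hg hgp
      have k1 : Commute g a := zOf_comm_kern ha.mem hgp
      have k2 : Commute g c := zOf_comm_kern hc'.mem (hfull _ p q hB1 hp hq g hg hgp)
      have k3 : Commute g (t * c * t⁻¹) := zOf_comm_kern hc''.mem (hfull _ p r hB1 hp hr g hg hgp)
      rw [hxd]
      exact ((k1.mul_right k2).mul_right k3).eq
    have htx : t * x = x * t := by
      have h2 : t * t ∈ kern Adj (f 1) := h.sq_mem_kern hp htT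
      have h3 : t * t * c = c * (t * t) :=
        zOf_comm_kern hc'.mem (hfull _ p q hB1 hp hq _ h2 (mul_mem ht ht))
      have k1 : Commute c (t * c * t⁻¹) := h.comm_at hd hB1 hq hr hc'.mem hc''.mem
      rw [hxd, show t * (a * c * (t * c * t⁻¹)) = (t * a * t⁻¹) * ((t * c * t⁻¹) * (t * t * c)) * t⁻¹ by group,
        zOf_comm_kern ha.mem ht, mul_inv_cancel_right, h3,
        show a * (t * c * t⁻¹ * (c * (t * t))) * t⁻¹ = a * (t * c * t⁻¹ * c) * t by group, ← k1.eq, ← mul_assoc a]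
    have hcen : ∀ g ∈ kern Adj p, g * x = x * g := by
      intro g hg
      have hgT : g ∈ edgeT G (f 1) p := edgeT_comm (G := G) p (f 1) ▸ kern_le (h.symm hp) hg
      by_cases hgq : g ∈ kern Adj (f 1)
      · exact hfix0 g hgq hg
      · have := hfix0 _ (h.mul_mem_kern hp (inv_mem htT) hgT (fun e => htq (by simpa using inv_mem e)) hgq)
          (mul_mem (inv_mem ht) hg)
        have h4 := (show Commute t x from htx).mul_left (show Commute (t⁻¹ * g) x from this)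
        rwa [mul_inv_cancel_left] at h4
    have hxp : x ∈ zOf G Adj p := h.mem_zOf_of_central (h.tyA hp hB1)
      (h.vOf_le_kern_nbr hd hB1 hp (h.isE_mem hx)) hcen (h.isE_sq hd hB1 hx)
    obtain ⟨g, hg, hgq⟩ := h.exists_move hp hq
    have g1 := h.isE_conj g hx
    rw [hg] at g1
    have hxq : x ∈ zOf G Adj q := by
      have h1 := h.conj_zOf g hxp
      rw [hgq] at h1
      exact (mul_mem_cancel_right h1).1 (h.wOf_le (h.tyA hq hB1) (h.symm hq) (h.isE_mul hd hB1 hx g1))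
    exact h.jZero_of_one hd hB1 hx (h.zOf_inter hB1 hp hq (Ne.symm n1) hxp hxq)
  push Not at hfull
  obtain ⟨δ₀, p₀, q₀, hδ₀, hp₀, hq₀, g₀, hg₀, hg₀p, hg₀q⟩ := hfull
  by_contra hnj
  obtain ⟨γ, hγ, hγ1, hpred⟩ := h.exists_pred hd hc h5
  have hγB := h.tyB hγ hc.start
  obtain ⟨u, hu, hu0⟩ := h.exists_nbr_ne (x := γ) (f 0)
  have hcu := hpred u hu hu0
  obtain ⟨v, hv, hvne, -⟩ := h.sym hd hcu
  have e1u : pre u (pre γ f) 1 = γ := rfl
  have e2u : pre u (pre γ f) 2 = f 0 := rfl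
  have ebu : pre u (pre γ f) b = f (b - 2) := by
    obtain ⟨m, rfl⟩ : ∃ m, b = m + 2 := ⟨b - 2, by omega⟩
    simp [pre]
  obtain ⟨z', hz'⟩ := h.exists_out hγB hu
  obtain ⟨y', hy'⟩ := h.exists_out (h.end_ty hd hcu) hv
  obtain ⟨⟨n1, n2, hy0', hzy'⟩, ⟨-, -, hzv, hzyv⟩, he'⟩ :=
    h.com_data hd hcu hv hvne (z := z') (y := y') hz' hy'
  rw [e1u] at hy0' hzy'
  rw [e2u] at n2
  change y' • u ≠ u at n1
  change y' • u ≠ f 0 at n2
  obtain ⟨hh, hhd⟩ : ∃ hh, hh = z' * (y' * z' * y'⁻¹) * rOf G Adj (f 1) := ⟨_, rfl⟩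
  have hEγ : IsE G Adj γ hh := hhd ▸ ⟨u, y' • u, f 0, hu, hy0', h.symm hγ, Ne.symm n1, hu0, n2, _, _, _,
    hz', hzy', h.out_rOf hc.start hγ h01 (Ne.symm hγ1), rfl⟩
  obtain ⟨w, hw, hwne, hwle⟩ := h.sym hd hc
  obtain ⟨y, hy, hyq⟩ := SetLike.not_le_iff_exists.1 hwle
  have hwA := h.tyA hw hbB
  have hyc : y * hh = hh * y := by
    have k1 : Commute y (rOf G Adj (f 1)) :=
      h.wOf_central hB1 (h.rOf_spec _).1 (h.fix_of_outer hd hc hw hy)
    have k2 : Commute y (z' * (y' * z' * y'⁻¹)) := by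
      rw [he']
      have hk : ∀ x, Adj (f (b - 2)) x → y ∈ kern Adj x := fun x hx =>
        h.le_kern hd.toIsDist (n := 4) (by omega) hwA
          (near_cons (h.symm hw) (near_add (h.near_symm (by
            have := hf.near (i := b - 2) (j := b) (by omega) le_rfl
            rwa [show b - (b - 2) = 2 by omega] at this)) (near_one hx))) hy
      rw [ebu] at hzv hv
      exact (show Commute y _ from zOf_comm_kern hzyv.mem (hk _ hzv)).mul_right (zOf_comm_kern hy'.mem (hk _ hv))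
    rw [hhd]
    exact (k2.mul_right k1).eq
  have hyT := h.edgeT_of_outer hd hc hw hy
  have hy1 := (mem_edgeT.1 hyT).1
  obtain ⟨x0, hx0⟩ : ∃ x0, x0 = y • f 0 := ⟨_, rfl⟩
  obtain ⟨g, hgd⟩ : ∃ g, g = y • γ := ⟨_, rfl⟩
  have hx0A : Adj (f 1) x0 := hx0 ▸ h.smul_adj hy1 (h.symm h01)
  have hx00 : x0 ≠ f 0 := hx0 ▸ h.moves h12 (h.symm h01) (hf.ne 0 (by omega)) hyT hyq
  have hgA : Adj x0 g := hgd ▸ hx0 ▸ h.smul y hγ
  have hg1 : g ≠ f 1 := fun e => hγ1 (smul_left_cancel y ((hgd ▸ e).trans hy1.symm))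
  have hEg : IsE G Adj g hh := by
    have := h.isE_conj y hEγ
    rwa [hyc, mul_inv_cancel_right, ← hgd] at this
  -- an element fixing the arm of `g` and moving `γ`
  obtain ⟨m, hm1, hmx, hm0⟩ : ∃ m, m ∈ kern Adj (f 1) ∧ m ∈ kern Adj x0 ∧ m ∉ kern Adj (f 0) := by
    by_contra hno
    push Not at hno
    have key : ∀ p q, Adj (f 1) p → Adj (f 1) q → p ≠ q → ∃ k : G, k • f 1 = f 1 ∧ k • p = x0 ∧ k • q = f 0 := by
      intro p q hp hq hpq
      obtain ⟨g1, a1, a2⟩ := h.exists_move hp hx0A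
      by_cases e : g1 • q = f 0
      · exact ⟨g1, a1, a2, e⟩
      obtain ⟨t, ht, htq⟩ := h.swap hx0A
      obtain ⟨t1, t2⟩ := mem_edgeT.1 ht
      refine ⟨t * g1, by rw [mul_smul, a1, t1], by rw [mul_smul, a2, t2], ?_⟩
      rw [mul_smul]
      exact h.swap_eq hx0A (h.smul_adj a1 hq) (h.symm h01)
        (fun e' => hpq (smul_left_cancel g1 (a2.trans e'))) hx00 e ht htq
    obtain ⟨y0, hy00⟩ := h.exists_adj δ₀
    obtain ⟨k0, hk0⟩ := h.ty_smul (1 : G) y0 hy00 (hB1.trans hδ₀.symm)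
    have hne0 : p₀ ≠ q₀ := fun e => hg₀q (e ▸ hg₀p)
    obtain ⟨k, k1, k2, k3⟩ := key _ _ (hk0 ▸ h.smul k0 hp₀) (hk0 ▸ h.smul k0 hq₀)
      fun e => hne0 (smul_left_cancel k0 e)
    have c1 := h.conj_kern (k * k0) hg₀
    have c2 := h.conj_kern (k * k0) hg₀p
    rw [mul_smul, hk0, k1] at c1
    rw [mul_smul, k2] at c2
    have c3 := h.conj_kern (k * k0)⁻¹ (hno _ c1 c2)
    rw [← k3, ← mul_smul k k0, inv_smul_smul] at c3
    exact hg₀q (by simpa [mul_assoc] using c3)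
  have hmg : m • g = g := hmx.2 g hgA
  have hm0x : m • f 0 = f 0 := hm1.2 _ (h.symm h01)
  have hmT : m ∈ edgeT G (f 0) (f 1) := mem_edgeT.2 ⟨hm0x, hm1.1⟩
  have hmγ : m • γ ≠ γ := h.moves h01 hγ (Ne.symm hγ1) hmT hm0
  obtain ⟨γ', hγ'd⟩ : ∃ γ', γ' = m • γ := ⟨_, rfl⟩
  have hγ'A : Adj (f 0) γ' := hγ'd ▸ h.smul_adj hm0x hγ
  have hγ'1 : γ' ≠ f 1 := fun e => hγ1 (smul_left_cancel m ((hγ'd ▸ e).trans hm1.1.symm))
  have hEg' : IsE G Adj g (m * hh * m⁻¹) := hmg ▸ h.isE_conj m hEg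
  have hEγ' : IsE G Adj γ' (m * hh * m⁻¹) := hγ'd ▸ h.isE_conj m hEγ
  have hgB : ty g = false := h.tyB hgA (h.tyA hx0A hB1)
  have hne1 : hh * (m * hh * m⁻¹) ≠ 1 := fun e => hnj (h.jZero_of_siblings hd hc.start hγ hγ'A
    (fun e' => hmγ (hγ'd ▸ e'.symm)) hEγ hEγ' (e ▸ one_mem _))
  have hrg : hh * (m * hh * m⁻¹) = rOf G Adj g :=
    ((h.wOf_cases (h.kOne_odd hd) hgB (h.isE_mul hd hgB hEg hEg')).resolve_left hne1)
  -- transport to the walk `γ, f 0, f 1, f 2`
  have hmvs : Mvs G Adj ty 2 := by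
    intro s
    cases s
    · exact (h.mv_end hd hc).mono (by omega)
    · have hw2 : IsWalk Adj 2 (pre x0 (pre (f 1) fun _ => f 0)) :=
        ((show IsWalk Adj 0 (fun _ => f 0) from
          ⟨fun i hi => absurd hi (by omega), fun i hi => absurd hi (by omega)⟩).cons (h.symm h01) (by omega)).cons
          (h.symm hx0A) fun _ => Ne.symm hx00
      refine ⟨_, m, hw2, hc.start, fun i hi => ?_, hm0⟩
      match i, hi with
      | 0, _ => exact hmx.1
      | 1, _ => exact hm1.1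
      | 2, _ => exact hm0x
  have hw3 : IsWalk Adj 3 (pre g (pre x0 (pre (f 1) fun _ => f 0))) :=
    (((show IsWalk Adj 0 (fun _ => f 0) from
      ⟨fun i hi => absurd hi (by omega), fun i hi => absurd hi (by omega)⟩).cons (h.symm h01) (by omega)).cons
      (h.symm hx0A) fun _ => Ne.symm hx00).cons (h.symm hgA) fun _ => Ne.symm hg1
  have hw3' : IsWalk Adj 3 (pre γ f) := (hf.cons (h.symm hγ) fun _ => Ne.symm hγ1).mono (by omega)
  obtain ⟨k, hk⟩ := h.conj_walk hmvs (n := 3) le_rfl hw3 hw3' (hgB.trans hγB.symm)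
  have k0 : k • g = γ := hk 0 (by omega)
  have k2 : k • f 1 = f 1 := hk 2 (by omega)
  have k3 : k • f 0 = f 2 := hk 3 le_rfl
  have hrot : ∀ {δ : V} {x : G}, Adj (f 0) δ → δ ≠ f 1 → IsE G Adj δ x → k * x * k⁻¹ ∈ kern Adj (f b) := by
    intro δ x hδ hne hx
    obtain ⟨δ', hδ'd⟩ : ∃ δ', δ' = k • δ := ⟨_, rfl⟩
    have hE := h.isE_conj k hx
    rw [← hδ'd] at hE
    have hA2 : Adj (f 2) δ' := hδ'd ▸ k3 ▸ h.smul k hδ
    have hne' : δ' ≠ f 1 := fun e => hne (smul_left_cancel k ((hδ'd ▸ e).trans k2.symm))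
    have h2A : ty (f 2) = true := h.tyA h12 hB1
    have hδ'B := h.tyB hA2 h2A
    have n2b : Near Adj (b - 2) (f 2) (f b) := hf.near (by omega) le_rfl
    by_cases e3 : δ' = f 3
    · refine h.v_le_kern hd.toIsDist (n := b - 3) (by omega) hδ'B ?_ (h.isE_mem hE)
      exact e3 ▸ hf.near (by omega) le_rfl
    obtain ⟨p, q, hp, hq, n1, n2, n3, -⟩ := h.exists_two δ' (h.symm hA2)
    obtain ⟨a, c, e, ha, hcc, hee, hxe⟩ :=
      h.isE_rep hd hδ'B hp hq (h.symm hA2) n3 n1 n2 hE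
    rw [hxe]
    refine mul_mem ?_ (h.le_kern hd.toIsDist (n := b - 2) (by omega) h2A n2b hee.mem)
    have hwalk : ∀ v, Adj δ' v → v ≠ f 2 → IsWalk Adj b (pre v (pre δ' fun i => f (i + 2))) := fun v hv hv2 => by
      have := ((hf.shift (m := b - 2) (k := 2) (by omega)).cons (x := δ') (h.symm hA2)
        fun _ => Ne.symm e3).cons (x := v) (h.symm hv) fun _ => Ne.symm hv2
      rwa [show b - 2 + 1 + 1 = b by omega] at this
    have hlast : ∀ v, pre v (pre δ' fun i => f (i + 2)) b = f b := fun v => by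
      obtain ⟨n, rfl⟩ : ∃ n, b = n + 2 := ⟨b - 2, by omega⟩
      rfl
    have hfixb : ∀ v, Adj δ' v → ∀ p ∈ zOf G Adj v, p ∈ edgeT G (f b) (f (b - 1)) := fun v hv p hp => by
      have hl := hf.adj (b - 1) (by omega)
      rw [show b - 1 + 1 = b by omega] at hl
      exact edgeT_comm (G := G) (f (b - 1)) (f b) ▸ h.mem_edgeT_of_near hd.toIsDist (n := b - 1) (by omega)
        (h.tyA hv hδ'B) (by
          have := near_cons (h.symm hv) (near_cons (h.symm hA2) (hf.near (i := 2) (j := b - 1) (by omega) (by omega)))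
          rwa [show b - 1 - 2 + 1 + 1 = b - 1 by omega] at this) hl hp
    by_cases hP : zOf G Adj p ≤ kern Adj (f b)
    · refine mul_mem (hP ha.mem) (?_ : c ∈ kern Adj (f b))
      by_contra hcq
      have hcrit : Crit G Adj ty b (pre q (pre δ' fun i => f (i + 2))) :=
        ⟨hwalk q hq n2, h.tyA hq hδ'B, by rw [pre_zero, hlast]; exact fun e => hcq (e hcc.mem)⟩
      have h1' : pre q (pre δ' fun i => f (i + 2)) 1 = δ' := rfl
      have h2' : pre q (pre δ' fun i => f (i + 2)) 2 = f 2 := rfl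
      have := (h.both_outer hd hcrit (x := p) (by rw [h1']; exact hp) (by rw [h2']; exact n1)).not_le
      refine this ?_
      obtain ⟨n, rfl⟩ : ∃ n, b = n + 2 := ⟨b - 2, by omega⟩
      exact hP
    · have hcrit : Crit G Adj ty b (pre p (pre δ' fun i => f (i + 2))) :=
        ⟨hwalk p hp n1, h.tyA hp hδ'B, by rw [pre_zero, hlast]; exact hP⟩
      have hl := hf.adj (b - 1) (by omega)
      rw [show b - 1 + 1 = b by omega] at hl
      have haq : a ∉ kern Adj (f b) := by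
        have := h.out_crit hd hcrit (a := a) ha
        rwa [hlast] at this
      have h1' : pre p (pre δ' fun i => f (i + 2)) 1 = δ' := rfl
      have h2' : pre p (pre δ' fun i => f (i + 2)) 2 = f 2 := rfl
      have hcrit' := h.both_outer hd hcrit (x := q) (by rw [h1']; exact hq) (by rw [h2']; exact n2)
      have hcq : c ∉ kern Adj (f b) := by
        have := h.out_crit hd hcrit' (a := c) hcc
        obtain ⟨n, rfl⟩ : ∃ n, b = n + 2 := ⟨b - 2, by omega⟩
        exact this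
      exact h.mul_mem_kern (h.symm hl) (hfixb p hp a ha.mem) (hfixb q hq c hcc.mem) haq hcq
  have hgoal : rOf G Adj γ ∈ kern Adj (f b) := by
    rw [← k0, h.rOf_smul (h.kOne_odd hd) k hgB, ← hrg,
      show k * (hh * (m * hh * m⁻¹)) * k⁻¹ = k * hh * k⁻¹ * (k * (m * hh * m⁻¹) * k⁻¹) by group]
    exact mul_mem (hrot hγ hγ1 hEγ) (hrot hγ'A hγ'1 hEγ')
  exact h.out_crit hd hc (h.out_rOf hc.start h01 hγ hγ1) hgoal

theorem jZero_all : JZero G Adj ty := by
  obtain ⟨m, hm⟩ := hd.odd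
  by_cases h3 : b = 3
  · exact h.jZero_three hd h3
  · exact h.jZero_far hd (by have := hd.three_le; omega)

end Cub

end CfsgLib.LS.CubicBound
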