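import Cfsg.Agent.Lib.LocalStructure.CubicBound.EvenDist

/-!
# Odd critical distance: critical walks and the order of the central parts
-/

set_option autoImplicit false
set_option linter.style.haveILetI false
set_option linter.unusedSectionVars false

open Subgroup MulAction

namespace CfsgLib.LS.CubicBound

open CfsgLib.LS.ActiveCenter
open CfsgLib.LS.ActiveCenter.Geo (zOf kern_le edgeA_le_zOf zOf_comm_kern)

universe u v

variable {G : Type u} {V : Type v} [Group G] [MulAction G V] {Adj : V → V → Prop} {ty : V → Bool}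

/-- the critical walk read backwards, from a neighbour of the last vertex -/
def back (b : ℕ) (f : ℕ → V) (w : V) : ℕ → V := pre w (fun i => f (b - i))

theorem back_zero (b : ℕ) (f : ℕ → V) (w : V) : back b f w 0 = w := rfl

theorem back_succ (b : ℕ) (f : ℕ → V) (w : V) (i : ℕ) : back b f w (i + 1) = f (b - i) := rfl

/-- the critical distance is odd and at least three -/
structure OddDist (G : Type u) [Group G] [MulAction G V] (Adj : V → V → Prop) (ty : V → Bool) (b : ℕ) : Prop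
    extends IsDist G Adj ty b where
  odd : Odd b
  three_le : 3 ≤ b

namespace Cub

variable (h : Cub G Adj ty)
include h

theorem exists_zOf_not_wOf {w δ : V} (hw : ty w = true) (hδ : Adj w δ) :
    ∃ a ∈ zOf G Adj w, a ∉ zOf G Adj δ := by
  obtain ⟨δ', hδ', hne⟩ := h.exists_nbr_ne (x := w) δ
  obtain ⟨a, ha, ha1⟩ := h.exists_wOf_ne_one (δ := δ')
  exact ⟨a, h.wOf_le hw hδ' ha, fun e => ha1 (h.wOf_inter hw hδ' hδ hne ha e)⟩

variable {b : ℕ} (hd : OddDist G Adj ty b)
include hd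

theorem end_ty {f : ℕ → V} (hc : Crit G Adj ty b f) : ty (f b) = false :=
  h.ty_odd hc.walk hc.start le_rfl hd.odd

theorem crit_fix {f : ℕ → V} (hc : Crit G Adj ty b f) {i : ℕ} (hi : i ≤ b) {a : G}
    (ha : a ∈ zOf G Adj (f 0)) : a • f i = f i := by
  by_cases e : i < b
  · exact (h.crit_fix_left hd.toIsDist hc e ha).1
  · have hadj := hc.walk.adj (b - 1) (by have := hd.three_le; omega)
    rw [show b - 1 + 1 = i by have := hd.three_le; omega] at hadj
    exact (h.crit_fix_left hd.toIsDist hc (i := b - 1) (by have := hd.three_le; omega) ha).2 _ hadj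

theorem mv_end {f : ℕ → V} (hc : Crit G Adj ty b f) : Mv G Adj ty false b := by
  obtain ⟨a, ha, haq⟩ := SetLike.not_le_iff_exists.1 hc.not_le
  exact ⟨f, a, hc.walk, h.end_ty hd hc, fun i hi => h.crit_fix hd hc hi ha, haq⟩

theorem kern_of_outer {f : ℕ → V} (hc : Crit G Adj ty b f) {w : V} (hw : Adj (f b) w) {i : ℕ} (hi : 2 ≤ i)
    (hib : i ≤ b) {a : G} (ha : a ∈ zOf G Adj w) : a ∈ kern Adj (f i) :=
  h.le_kern hd.toIsDist (n := b - i + 1) (by omega) (h.tyA hw (h.end_ty hd hc))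
    (near_cons (h.symm hw) (h.near_symm (hc.walk.near hib le_rfl))) ha

theorem fix_of_outer {f : ℕ → V} (hc : Crit G Adj ty b f) {w : V} (hw : Adj (f b) w) {a : G}
    (ha : a ∈ zOf G Adj w) : a • f 1 = f 1 :=
  (h.kern_of_outer hd hc hw (i := 2) le_rfl (by have := hd.three_le; omega) ha).2 _
    (h.symm (hc.walk.adj 1 (by have := hd.three_le; omega)))

theorem edgeT_of_outer {f : ℕ → V} (hc : Crit G Adj ty b f) {w : V} (hw : Adj (f b) w) {a : G}
    (ha : a ∈ zOf G Adj w) : a ∈ edgeT G (f 1) (f 2) :=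
  mem_edgeT.2 ⟨h.fix_of_outer hd hc hw ha, (h.kern_of_outer hd hc hw le_rfl (by have := hd.three_le; omega) ha).1⟩

theorem sym {f : ℕ → V} (hc : Crit G Adj ty b f) :
    ∃ w, Adj (f b) w ∧ w ≠ f (b - 1) ∧ ¬ zOf G Adj w ≤ kern Adj (f 1) := by
  have h3 := hd.three_le
  have hf := hc.walk
  have hbB := h.end_ty hd hc
  have hlast := hf.adj (b - 1) (by omega)
  rw [show b - 1 + 1 = b by omega] at hlast
  have hbA : ty (f (b - 1)) = true := h.tyA (h.symm hlast) hbB
  by_contra hno
  push Not at hno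
  have hk1 : ∀ w, Adj (f b) w → zOf G Adj w ≤ kern Adj (f 1) := by
    intro w hw
    by_cases e : w = f (b - 1)
    · exact fun a ha => h.le_kern hd.toIsDist (n := b - 1 - 1) (by omega) hbA
        (h.near_symm (hf.near (i := 1) (by omega) (by omega))) (e ▸ ha)
    · exact hno w hw e
  obtain ⟨a, ha, haq⟩ := SetLike.not_le_iff_exists.1 hc.not_le
  have hab : a • f b = f b := h.crit_fix hd hc le_rfl ha
  obtain ⟨w, hw, hw0⟩ : ∃ w, Adj (f b) w ∧ ¬ zOf G Adj w ≤ kern Adj (f 0) := by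
    by_contra hall
    push Not at hall
    obtain ⟨w, hw, haw⟩ : ∃ w, Adj (f b) w ∧ a • w ≠ w := by
      by_contra hfix
      push Not at hfix
      exact haq ⟨hab, hfix⟩
    have hwA := h.tyA hw hbB
    obtain ⟨p, hp, hpW⟩ := h.exists_zOf_not_wOf hwA (h.symm hw)
    have := h.conj_zOf a hp
    rw [← zOf_comm_kern ha (hall w hw hp), mul_inv_cancel_right] at this
    exact hpW (h.zOf_inter hbB (h.smul_adj hab hw) hw haw this hp)
  obtain ⟨d, hdw, hd0⟩ := SetLike.not_le_iff_exists.1 hw0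
  have hdfix : ∀ i ≤ b - 1, d • f i = f i := by
    intro i hi
    by_cases e2 : 2 ≤ i
    · exact (h.kern_of_outer hd hc hw e2 (by omega) hdw).1
    · have := hk1 w hw hdw
      obtain rfl | rfl : i = 0 ∨ i = 1 := by omega
      · exact this.2 _ (h.symm (hf.adj 0 (by omega)))
      · exact this.1
  have hmvA : Mv G Adj ty true (b - 1) := by
    refine ⟨fun i => f (b - 1 - i), d, h.walk_rev (hf.mono (by omega)), ?_, fun i _ => hdfix _ (by omega), ?_⟩
    · simpa using hc.start
    · simpa using hd0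
  have hmvs : Mvs G Adj ty (b - 1) := by
    intro s
    cases s
    · exact (h.mv_end hd hc).mono (by omega)
    · exact hmvA
  have hsh : IsWalk Adj (b - 1) (fun i => f (i + 1)) := hf.shift (by omega)
  have hB1 : ty (f 1) = false := h.tyB (hf.adj 0 (by omega)) hc.start
  obtain ⟨g, hg⟩ := h.conj_walk hmvs (n := b - 1) (by omega) hsh (h.walk_rev hsh) (by
    show ty (f 1) = ty (f (b - 1 - 0 + 1))
    rw [show b - 1 - 0 + 1 = b by omega, hB1, hbB])
  have g1 : g • f 1 = f b := by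
    have := hg 0 (by omega)
    simpa [show b - 1 + 1 = b by omega] using this
  have g2 : g • f 2 = f (b - 1) := by
    have := hg 1 (by omega)
    simpa [show b - 1 - 1 + 1 = b - 1 by omega] using this
  have gb : g • f b = f 1 := by
    have := hg (b - 1) le_rfl
    simpa [show b - 1 + 1 = b by omega] using this
  have hadj0 : Adj (f b) (g • f 0) := g1 ▸ h.smul g (h.symm (hf.adj 0 (by omega)))
  have hle := hk1 _ hadj0
  rw [← gb, h.crit_smul_iff] at hle
  exact hc.not_le hle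

theorem both_outer {f : ℕ → V} (hc : Crit G Adj ty b f) {x : V} (hx : Adj (f 1) x) (hne : x ≠ f 2) :
    Crit G Adj ty b (pre x (fun i => f (i + 1))) := by
  have h3 := hd.three_le
  have hf := hc.walk
  by_cases e : x = f 0
  · subst e
    have : pre (f 0) (fun i => f (i + 1)) = f := by
      funext i
      cases i <;> rfl
    rwa [this]
  obtain ⟨w, hw, -, hwle⟩ := h.sym hd hc
  obtain ⟨y, hy, hyq⟩ := SetLike.not_le_iff_exists.1 hwle
  have hy0 : y • f 0 = x := h.swap_eq (hf.adj 1 (by omega)) (h.symm (hf.adj 0 (by omega))) hx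
    (hf.ne 0 (by omega)) (Ne.symm hne) (Ne.symm e) (h.edgeT_of_outer hd hc hw hy) hyq
  have hfix : ∀ i, 1 ≤ i → i ≤ b → y • f i = f i := fun i hi hib => by
    by_cases e2 : 2 ≤ i
    · exact (h.kern_of_outer hd hc hw e2 hib hy).1
    · rw [show i = 1 by omega]; exact h.fix_of_outer hd hc hw hy
  have hc' := h.crit_smul y hc
  refine ⟨?_, h.tyA hx (h.tyB (hf.adj 0 (by omega)) hc.start), ?_⟩
  · have := (hf.shift (m := b - 1) (k := 1) (by omega)).cons (h.symm hx) fun _ => Ne.symm hne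
    rwa [show b - 1 + 1 = b by omega] at this
  · have := hc'.not_le
    simp only [hy0, hfix b (by omega) le_rfl] at this
    obtain ⟨m, rfl⟩ : ∃ m, b = m + 1 := ⟨b - 1, by omega⟩
    simpa [pre] using this

theorem crit_back {f : ℕ → V} (hc : Crit G Adj ty b f) {w : V} (hw : Adj (f b) w) (hne : w ≠ f (b - 1)) :
    Crit G Adj ty b (back b f w) := by
  have h3 := hd.three_le
  have hwalk : ∀ u, Adj (f b) u → u ≠ f (b - 1) → IsWalk Adj b (back b f u) := by
    intro u hu hu'
    have := ((h.walk_rev hc.walk).mono (m := b - 1) (by omega)).cons (x := u) (by simpa using h.symm hu)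
      (fun _ => Ne.symm hu')
    rwa [show b - 1 + 1 = b by omega] at this
  obtain ⟨w', hw', hne', hle⟩ := h.sym hd hc
  have hlast : ∀ u, back b f u b = f 1 := fun u => by
    obtain ⟨m, rfl⟩ : ∃ m, b = m + 1 := ⟨b - 1, by omega⟩
    rw [back_succ, show m + 1 - m = 1 by omega]
  have hc' : Crit G Adj ty b (back b f w') :=
    ⟨hwalk w' hw' hne', h.tyA hw' (h.end_ty hd hc), by rw [back_zero, hlast]; exact hle⟩
  have h1 : back b f w' 1 = f b := rfl
  have h2 : back b f w' 2 = f (b - 1) := rfl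
  have := h.both_outer hd hc' (x := w) (by rw [h1]; exact hw) (by rw [h2]; exact hne)
  have he : pre w (fun i => back b f w' (i + 1)) = back b f w := by
    funext i
    cases i <;> rfl
  rwa [he] at this

theorem outer_not_le {f : ℕ → V} (hc : Crit G Adj ty b f) {w : V} (hw : Adj (f b) w) (hne : w ≠ f (b - 1)) :
    ¬ zOf G Adj w ≤ kern Adj (f 1) := by
  have := (h.crit_back hd hc hw hne).not_le
  obtain ⟨m, rfl⟩ : ∃ m, b = m + 1 := ⟨b - 1, by have := hd.three_le; omega⟩
  rwa [back_zero, back_succ, show m + 1 - m = 1 by omega] at this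

theorem kOne_odd : KOne G Adj ty := by
  obtain ⟨f, hc⟩ := hd.attained
  have h3 := hd.three_le
  have hf := hc.walk
  have hbB := h.end_ty hd hc
  have h01 := hf.adj 0 (by omega)
  have hlast := hf.adj (b - 1) (by omega)
  rw [show b - 1 + 1 = b by omega] at hlast
  have hB1 : ty (f 1) = false := h.tyB h01 hc.start
  obtain ⟨a, ha, haq⟩ := SetLike.not_le_iff_exists.1 hc.not_le
  obtain ⟨w, hw, hwne, hwle⟩ := h.sym hd hc
  have hwA := h.tyA hw hbB
  have hwb : ∀ p ∈ zOf G Adj (f b), p ∈ kern Adj (f 1) := fun p hp =>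
    h.w_le_kern hd.toIsDist (n := b - 1) (by omega) hbB (h.near_symm (hf.near (i := 1) (by omega) le_rfl)) hp
  have hZT : ∀ z ∈ zOf G Adj (f 0), z ∈ edgeT G (f b) (f (b - 1)) := fun z hz =>
    mem_edgeT.2 ⟨h.crit_fix hd hc le_rfl hz, h.crit_fix hd hc (Nat.sub_le _ _) hz⟩
  by_cases hE : ∃ e ∈ zOf G Adj w, e ∈ kern Adj (f 1) ∧ e ∉ kern Adj (f 0)
  swap
  · push Not at hE
    have hin : ∀ e ∈ zOf G Adj w, e ∈ kern Adj (f 1) → e ∈ zOf G Adj (f b) := by
      intro e he hek
      have hab := h.crit_fix hd hc le_rfl ha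
      have hmove : a • w ≠ w := h.moves (h.symm hlast) hw (Ne.symm hwne) (hZT a ha) haq
      have := h.conj_zOf a he
      rw [← zOf_comm_kern ha (hE e he hek), mul_inv_cancel_right] at this
      exact h.zOf_inter hbB (h.smul_adj hab hw) hw hmove this he
    obtain ⟨δ, hδ, hne⟩ := h.exists_nbr_ne (x := w) (f b)
    refine h.kOne_of_one (h.tyB hδ hwA) fun c hc' c' hc'' h1 h1' => ?_
    have hcw := h.wOf_le hwA hδ hc'
    have hcw' := h.wOf_le hwA hδ hc''
    have hnot : ∀ p ∈ zOf G Adj δ, p ≠ 1 → p ∉ kern Adj (f 1) := fun p hp hp1 hpk =>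
      hp1 (h.wOf_inter hwA hδ (h.symm hw) hne hp (hin p (h.wOf_le hwA hδ hp) hpk))
    have hcc := hin _ (mul_mem hcw hcw') (h.mul_mem_kern (hf.adj 1 (by omega)) (h.edgeT_of_outer hd hc hw hcw)
      (h.edgeT_of_outer hd hc hw hcw') (hnot c hc' h1) (hnot c' hc'' h1'))
    rw [eq_inv_of_mul_eq_one_left (h.wOf_inter hwA hδ (h.symm hw) hne (mul_mem hc' hc'') hcc), h.zOf_inv hc'']
  obtain ⟨e, hew, he1, he0⟩ := hE
  have heT : e ∈ edgeT G (f 0) (f 1) := edgeT_comm (G := G) (f 1) (f 0) ▸ kern_le (h.symm h01) he1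
  have hefix : ∀ i ≤ b - 1, e • f i = f i := by
    intro i hi
    by_cases e2 : 2 ≤ i
    · exact (h.kern_of_outer hd hc hw e2 (by omega) hew).1
    · obtain rfl | rfl : i = 0 ∨ i = 1 := by omega
      · exact (mem_edgeT.1 heT).1
      · exact he1.1
  have hflip : ∀ d ∈ zOf G Adj (f 0), d * (e * d * e⁻¹) = (d * e * d⁻¹) * e := fun d hd' => by
    rw [h.zOf_inv hew, h.zOf_inv hd']; group
  by_cases hb5 : b = 3
  · subst hb5
    obtain ⟨δ, hδ, hne⟩ := h.exists_nbr_ne (x := f 0) (f 1)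
    refine h.kOne_of_one hB1 fun c hcc c' hcc' hc1 hc1' => ?_
    have h12 := hf.adj 1 (by omega)
    have h2A : ty (f 2) = true := (h.ty_idx hf hc.start (i := 2) (by omega)).2 ⟨1, rfl⟩
    have hsib : ∀ p, p ∈ zOf G Adj (f 1) → p ∈ zOf G Adj (f 3) → p = 1 := fun p hp hp' =>
      h.wOf_inter h2A (h.symm h12) (hf.adj 2 (by omega)) (Ne.symm (hf.ne 1 (by omega))) hp hp'
    have hin : ∀ d ∈ zOf G Adj (f 0), d ∈ kern Adj (f 3) → d * (e * d * e⁻¹) ∈ zOf G Adj (f 3) := by
      intro d hd' hdk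
      have hdT : d ∈ edgeT G w (f 3) := edgeT_comm (G := G) (f 3) w ▸ kern_le hw hdk
      by_cases hdw : d ∈ kern Adj w
      · rw [← zOf_comm_kern hew hdw, mul_inv_cancel_right, h.zOf_sq hd']; exact one_mem _
      · have h1 := h.fold_mem hwA (h.symm hw) hew hdT hdw
        have h2 := inv_mem h1
        rwa [show (e * (d * e * d⁻¹))⁻¹ = d * e⁻¹ * d⁻¹ * e⁻¹ by group, h.zOf_inv hew, ← hflip d hd'] at h2
    obtain ⟨d, hd', hde⟩ := h.fold_onto hc.start h01 hδ hne hcc heT he0
    obtain ⟨d', hd'', hde'⟩ := h.fold_onto hc.start h01 hδ hne hcc' heT he0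
    have hdw := h.wOf_le hc.start hδ hd'
    have hdw' := h.wOf_le hc.start hδ hd''
    have hdq : d ∉ kern Adj (f 3) := fun e' => hc1 (hsib c hcc (hde ▸ hin d hdw e'))
    have hdq' : d' ∉ kern Adj (f 3) := fun e' => hc1' (hsib c' hcc' (hde' ▸ hin d' hdw' e'))
    have h1 := hin _ (mul_mem hdw hdw') (h.mul_mem_kern (h.symm hlast) (hZT d hdw) (hZT d' hdw') hdq hdq')
    rw [h.fold_mul h01 hdw hdw' heT, hde, hde'] at h1
    rw [eq_inv_of_mul_eq_one_left (hsib _ (mul_mem hcc hcc') h1), h.zOf_inv hcc']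
  exfalso
  have hmvs : Mvs G Adj ty (b - 1) := by
    intro s
    cases s
    · exact (h.mv_end hd hc).mono (by omega)
    · exact ⟨fun i => f (b - 1 - i), e, h.walk_rev (hf.mono (by omega)), by simpa using hc.start,
        fun i _ => hefix _ (by omega), by simpa using he0⟩
  obtain ⟨δ, hδ, hne⟩ := h.exists_nbr_ne (x := f 0) (f 1)
  have hW1V : ∀ c ∈ zOf G Adj (f 1), c ∈ vOf G Adj (f b) := by
    intro c hcc
    obtain ⟨d, hd', hde⟩ := h.fold_onto hc.start h01 hδ hne hcc heT he0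
    have hdw := h.wOf_le hc.start hδ hd'
    rw [← hde, hflip d hdw]
    refine mul_mem ?_ (zOf_le_vOf hw hew)
    have h1 : Adj (f b) (d • w) := h.smul_adj (h.crit_fix hd hc le_rfl hdw) hw
    exact zOf_le_vOf h1 (h.conj_zOf d hew)
  have hbw : ∀ c ∈ zOf G Adj (f 1), c ∈ kern Adj (f b) := fun c hcc =>
    h.w_le_kern hd.toIsDist (n := b - 1) (by omega) hB1 (hf.near (i := 1) (by omega) le_rfl) hcc
  have hδb : ∀ c ∈ zOf G Adj δ, c ∈ kern Adj (f b) := by
    intro c hcd
    have hg : IsWalk Adj (b + 1) (pre δ f) := hf.cons (h.symm hδ) fun _ => Ne.symm hne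
    have hδB := h.tyB hδ hc.start
    obtain ⟨g, hgw⟩ := h.conj_walk hmvs (n := b - 1) (by omega) (hf.shift (m := b - 1) (k := 1) (by omega))
      (hg.mono (by omega)) (show ty (f 1) = ty δ from hB1.trans hδB.symm)
    have g1 : g • f 1 = δ := hgw 0 (by omega)
    have gb : g • f b = f (b - 2) := by
      have := hgw (b - 1) le_rfl
      obtain ⟨m, rfl⟩ : ∃ m, b = m + 2 := ⟨b - 2, by omega⟩
      simpa [pre] using this
    have h2 := h.conj_zOf g⁻¹ hcd
    rw [show g⁻¹ • δ = f 1 from inv_smul_eq_iff.2 g1.symm] at h2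
    have h4 := h.vOf_conj g (hW1V _ h2)
    rw [gb, inv_inv, show g * (g⁻¹ * c * g) * g⁻¹ = c by group] at h4
    exact h.v_le_kern hd.toIsDist (n := 2) (by obtain ⟨m, hm⟩ := hd.odd; omega)
      (h.ty_odd hf hc.start (by omega) (by obtain ⟨m, hm⟩ := hd.odd; exact ⟨m - 1, by omega⟩))
      (by
        have := hf.near (i := b - 2) (j := b) (by omega) le_rfl
        rwa [show b - (b - 2) = 2 by omega] at this) h4
  obtain ⟨p, hp, q, hq, rfl⟩ := h.zOf_split hc.start h01 hδ (Ne.symm hne) ha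
  exact haq (mul_mem (hbw p hp) (hδb q hq))

end Cub

end CfsgLib.LS.CubicBound
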