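import Cfsg.Agent.Lib.LocalStructure.CubicBound.OddBasics

/-!
# Odd critical distance: outer elements and their triple products
-/

set_option autoImplicit false
set_option linter.style.haveILetI false
set_option linter.unusedSectionVars false

open Subgroup MulAction

namespace CfsgLib.LS.CubicBound

open CfsgLib.LS.ActiveCenter
open CfsgLib.LS.ActiveCenter.Geo (zOf kern_le edgeA_le_zOf zOf_comm_kern)

universe u v

variable {G : Type u} {V : Type v} [Group G] [MulAction G V] {Adj : V → V → Prop} {ty : V → Bool}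

/-- `a` is an element of `Z_w` outside the central part of `δ` -/
structure Out (G : Type u) [Group G] [MulAction G V] (Adj : V → V → Prop) (δ w : V) (a : G) : Prop where
  mem : a ∈ zOf G Adj w
  not_mem : a ∉ zOf G Adj δ

/-- `x` is a product of outer elements at the three given neighbours -/
def RepE (G : Type u) [Group G] [MulAction G V] (Adj : V → V → Prop) (δ p q r : V) (x : G) : Prop :=
  ∃ a b c : G, Out G Adj δ p a ∧ Out G Adj δ q b ∧ Out G Adj δ r c ∧ x = a * b * c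

/-- `x` is a product of one outer element from each arm at `δ` -/
def IsE (G : Type u) [Group G] [MulAction G V] (Adj : V → V → Prop) (δ : V) (x : G) : Prop :=
  ∃ p q r : V, Adj δ p ∧ Adj δ q ∧ Adj δ r ∧ p ≠ q ∧ p ≠ r ∧ q ≠ r ∧ RepE G Adj δ p q r x

/-- the triple products are central -/
def JZero (G : Type u) [Group G] [MulAction G V] (Adj : V → V → Prop) (ty : V → Bool) : Prop :=
  ∀ δ : V, ty δ = false → ∀ x : G, IsE G Adj δ x → x ∈ zOf G Adj δ

namespace Cub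

variable (h : Cub G Adj ty)
include h

theorem out_conj (g : G) {δ w : V} {a : G} (ha : Out G Adj δ w a) :
    Out G Adj (g • δ) (g • w) (g * a * g⁻¹) := by
  refine ⟨h.conj_zOf g ha.mem, fun e => ha.not_mem ?_⟩
  simpa [mul_assoc] using h.conj_zOf g⁻¹ e

theorem exists_out {δ w : V} (hδ : ty δ = false) (hw : Adj δ w) : ∃ a, Out G Adj δ w a :=
  let ⟨a, ha, hna⟩ := h.exists_zOf_not_wOf (h.tyA hw hδ) (h.symm hw)
  ⟨a, ha, hna⟩

theorem out_mul_w {δ w : V} (hδ : ty δ = false) (hw : Adj δ w) {a c : G} (ha : Out G Adj δ w a)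
    (hc : c ∈ zOf G Adj δ) : Out G Adj δ w (a * c) :=
  ⟨mul_mem ha.mem (h.wOf_le (h.tyA hw hδ) (h.symm hw) hc), fun e => ha.not_mem ((mul_mem_cancel_right hc).1 e)⟩

theorem out_rOf {w δ δ' : V} (hw : ty w = true) (hδ : Adj w δ) (hδ' : Adj w δ') (hne : δ' ≠ δ) :
    Out G Adj δ w (rOf G Adj δ') :=
  ⟨h.wOf_le hw hδ' (h.rOf_spec δ').1,
    fun e => (h.rOf_spec δ').2 (h.wOf_inter hw hδ' hδ hne (h.rOf_spec δ').1 e)⟩

variable {b : ℕ} (hd : OddDist G Adj ty b)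
include hd

theorem rOf_mul {w δ δ' δ'' : V} (hw : ty w = true) (hδ : Adj w δ) (hδ' : Adj w δ') (hδ'' : Adj w δ'')
    (h1 : δ ≠ δ') (h2 : δ ≠ δ'') (h3 : δ' ≠ δ'') :
    rOf G Adj δ * rOf G Adj δ' = rOf G Adj δ'' := by
  have hk := h.kOne_odd hd
  obtain ⟨p, hp, q, hq, he⟩ := h.zOf_split hw hδ hδ' h1 (h.wOf_le hw hδ'' (h.rOf_spec δ'').1)
  rcases h.wOf_cases hk (h.tyB hδ hw) hp with rfl | rfl <;>
    rcases h.wOf_cases hk (h.tyB hδ' hw) hq with rfl | rfl
  · exact absurd (by simpa using he) (h.rOf_spec δ'').2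
  · exact absurd (by simpa using he.symm) (h.rOf_inj hk hw hδ' hδ'' h3)
  · exact absurd (by simpa using he.symm) (h.rOf_inj hk hw hδ hδ'' h2)
  · exact he.symm

theorem zOf_cases {w δ δ' δ'' : V} (hw : ty w = true) (hδ : Adj w δ) (hδ' : Adj w δ') (hδ'' : Adj w δ'')
    (h1 : δ ≠ δ') (h2 : δ ≠ δ'') (h3 : δ' ≠ δ'') {a : G} (ha : a ∈ zOf G Adj w) :
    a = 1 ∨ a = rOf G Adj δ ∨ a = rOf G Adj δ' ∨ a = rOf G Adj δ'' := by
  have hk := h.kOne_odd hd
  obtain ⟨p, hp, q, hq, rfl⟩ := h.zOf_split hw hδ hδ' h1 ha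
  rcases h.wOf_cases hk (h.tyB hδ hw) hp with rfl | rfl <;>
    rcases h.wOf_cases hk (h.tyB hδ' hw) hq with rfl | rfl
  · simp
  · simp
  · simp
  · exact Or.inr (Or.inr (Or.inr (h.rOf_mul hd hw hδ hδ' hδ'' h1 h2 h3)))

theorem out_mul {δ w : V} (hδ : ty δ = false) (hw : Adj δ w) {a a' : G} (ha : Out G Adj δ w a)
    (ha' : Out G Adj δ w a') : a * a' ∈ zOf G Adj δ := by
  have hwA := h.tyA hw hδ
  obtain ⟨δ', hδ', hne⟩ := h.exists_nbr_ne (x := w) δ
  have hk := h.kOne_odd hd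
  have key : ∀ {x : G}, Out G Adj δ w x → ∃ p ∈ zOf G Adj δ, x = p * rOf G Adj δ' := by
    intro x hx
    obtain ⟨p, hp, q, hq, rfl⟩ := h.zOf_split hwA (h.symm hw) hδ' (Ne.symm hne) hx.mem
    rcases h.wOf_cases hk (h.tyB hδ' hwA) hq with rfl | rfl
    · exact absurd (by simpa using hp) hx.not_mem
    · exact ⟨p, hp, rfl⟩
  obtain ⟨p, hp, rfl⟩ := key ha
  obtain ⟨p', hp', rfl⟩ := key ha'
  have hr := h.wOf_le hwA hδ' (h.rOf_spec δ').1
  rw [show p * rOf G Adj δ' * (p' * rOf G Adj δ') = p * (rOf G Adj δ' * p') * rOf G Adj δ' by group,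
    h.zOf_comm hr (h.wOf_le hwA (h.symm hw) hp'), mul_assoc p, mul_assoc p', h.zOf_sq hr, mul_one]
  exact mul_mem hp hp'

theorem out_crit {f : ℕ → V} (hc : Crit G Adj ty b f) {a : G} (ha : Out G Adj (f 1) (f 0) a) :
    a ∉ kern Adj (f b) := by
  have h3 := hd.three_le
  have h01 := hc.walk.adj 0 (by omega)
  have hB1 : ty (f 1) = false := h.tyB h01 hc.start
  have hW : ∀ c ∈ zOf G Adj (f 1), c ∈ kern Adj (f b) := fun c hcc =>
    h.w_le_kern hd.toIsDist (n := b - 1) (by omega) hB1 (hc.walk.near (i := 1) (by omega) le_rfl) hcc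
  obtain ⟨x, hx, hxq⟩ := SetLike.not_le_iff_exists.1 hc.not_le
  have hxo : Out G Adj (f 1) (f 0) x := ⟨hx, fun e => hxq (hW x e)⟩
  intro hak
  exact hxq ((mul_mem_cancel_left hak).1 (hW _ (h.out_mul hd hB1 (h.symm h01) ha hxo)))

theorem comm_at {δ w w' : V} (hδ : ty δ = false) (hw : Adj δ w) (hw' : Adj δ w') {a a' : G}
    (ha : a ∈ zOf G Adj w) (ha' : a' ∈ zOf G Adj w') : a * a' = a' * a :=
  h.comm_zz hd.toIsDist (n := 2) (by have := hd.three_le; omega) (h.tyA hw hδ)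
    (near_cons (h.symm hw) (near_one hw')) ha ha'

theorem vOf_le_kern_nbr {δ u : V} (hδ : ty δ = false) (hu : Adj δ u) : vOf G Adj δ ≤ kern Adj u :=
  h.v_le_kern hd.toIsDist (n := 1) (by have := hd.three_le; omega) hδ (near_one hu)

theorem vOf_comm {δ : V} (hδ : ty δ = false) {x : G} (hx : x ∈ vOf G Adj δ) {u : V} (hu : Adj δ u) {a : G}
    (ha : a ∈ zOf G Adj u) : x * a = a * x :=
  zOf_comm_kern ha (h.vOf_le_kern_nbr hd hδ hu hx)

theorem repE_swap12 {δ p q r : V} (hδ : ty δ = false) (hp : Adj δ p) (hq : Adj δ q) {x : G}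
    (hx : RepE G Adj δ p q r x) : RepE G Adj δ q p r x := by
  obtain ⟨a, c, e, ha, hc, he, rfl⟩ := hx
  exact ⟨c, a, e, hc, ha, he, by rw [h.comm_at hd hδ hp hq ha.mem hc.mem]⟩

theorem repE_swap23 {δ p q r : V} (hδ : ty δ = false) (hq : Adj δ q) (hr : Adj δ r) {x : G}
    (hx : RepE G Adj δ p q r x) : RepE G Adj δ p r q x := by
  obtain ⟨a, c, e, ha, hc, he, rfl⟩ := hx
  exact ⟨a, e, c, ha, he, hc, by rw [mul_assoc, h.comm_at hd hδ hq hr hc.mem he.mem, ← mul_assoc]⟩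

theorem isE_rep {δ p q r : V} (hδ : ty δ = false) (hp : Adj δ p) (hq : Adj δ q) (hr : Adj δ r) (n1 : p ≠ q)
    (n2 : p ≠ r) (n3 : q ≠ r) {x : G} (hx : IsE G Adj δ x) : RepE G Adj δ p q r x := by
  obtain ⟨u, v, w, hu, hv, hw, m1, m2, m3, hx⟩ := hx
  rcases h.adj_cases hp hq hr n1 n2 n3 hu with rfl | rfl | rfl <;>
    rcases h.adj_cases hp hq hr n1 n2 n3 hv with rfl | rfl | rfl <;>
      rcases h.adj_cases hp hq hr n1 n2 n3 hw with rfl | rfl | rfl <;>
        first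
          | exact absurd rfl m1
          | exact absurd rfl m2
          | exact absurd rfl m3
          | exact hx
          | exact h.repE_swap12 hd hδ hu hv hx
          | exact h.repE_swap23 hd hδ hv hw hx
          | exact h.repE_swap23 hd hδ hu hw (h.repE_swap12 hd hδ hu hv hx)
          | exact h.repE_swap12 hd hδ hu hw (h.repE_swap23 hd hδ hv hw hx)
          | exact h.repE_swap12 hd hδ hv hw (h.repE_swap23 hd hδ hu hw (h.repE_swap12 hd hδ hu hv hx))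

theorem exists_isE {δ : V} (hδ : ty δ = false) : ∃ x, IsE G Adj δ x := by
  obtain ⟨p, hp⟩ := h.exists_adj δ
  obtain ⟨q, r, hq, hr, n1, n2, n3, -⟩ := h.exists_two δ hp
  obtain ⟨a, ha⟩ := h.exists_out hδ hp
  obtain ⟨c, hc⟩ := h.exists_out hδ hq
  obtain ⟨e, he⟩ := h.exists_out hδ hr
  exact ⟨_, p, q, r, hp, hq, hr, Ne.symm n1, Ne.symm n2, n3, a, c, e, ha, hc, he, rfl⟩

omit hd in
theorem isE_mem {δ : V} {x : G} (hx : IsE G Adj δ x) : x ∈ vOf G Adj δ := by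
  obtain ⟨p, q, r, hp, hq, hr, -, -, -, a, c, e, ha, hc, he, rfl⟩ := hx
  exact mul_mem (mul_mem (zOf_le_vOf hp ha.mem) (zOf_le_vOf hq hc.mem)) (zOf_le_vOf hr he.mem)

theorem isE_mul {δ : V} (hδ : ty δ = false) {x x' : G} (hx : IsE G Adj δ x) (hx' : IsE G Adj δ x') :
    x * x' ∈ zOf G Adj δ := by
  obtain ⟨p, q, r, hp, hq, hr, n1, n2, n3, a, c, e, ha, hc, he, rfl⟩ := hx
  obtain ⟨a', c', e', ha', hc', he', rfl⟩ := h.isE_rep hd hδ hp hq hr n1 n2 n3 hx'
  have k1 : Commute e a' := h.comm_at hd hδ hr hp he.mem ha'.mem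
  have k2 : Commute e c' := h.comm_at hd hδ hr hq he.mem hc'.mem
  have k3 : Commute c a' := h.comm_at hd hδ hq hp hc.mem ha'.mem
  rw [show a * c * e * (a' * c' * e') = a * c * (e * (a' * c')) * e' by group, (k1.mul_right k2).eq,
    show a * c * (a' * c' * e) * e' = a * (c * a') * c' * (e * e') by group, k3.eq,
    show a * (a' * c) * c' * (e * e') = a * a' * (c * c') * (e * e') by group]
  exact mul_mem (mul_mem (h.out_mul hd hδ hp ha ha') (h.out_mul hd hδ hq hc hc')) (h.out_mul hd hδ hr he he')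

theorem isE_sq {δ : V} (hδ : ty δ = false) {x : G} (hx : IsE G Adj δ x) : x * x = 1 := by
  obtain ⟨p, q, r, hp, hq, hr, -, -, -, a, c, e, ha, hc, he, rfl⟩ := hx
  have k1 : Commute e a := h.comm_at hd hδ hr hp he.mem ha.mem
  have k2 : Commute e c := h.comm_at hd hδ hr hq he.mem hc.mem
  have k3 : Commute c a := h.comm_at hd hδ hq hp hc.mem ha.mem
  rw [show a * c * e * (a * c * e) = a * c * (e * (a * c)) * e by group, (k1.mul_right k2).eq,
    show a * c * (a * c * e) * e = a * (c * a) * c * (e * e) by group, k3.eq,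
    show a * (a * c) * c * (e * e) = (a * a) * (c * c) * (e * e) by group, h.zOf_sq ha.mem, h.zOf_sq hc.mem,
    h.zOf_sq he.mem, mul_one, mul_one]

omit hd in
theorem isE_mul_w {δ : V} (hδ : ty δ = false) {x c : G} (hx : IsE G Adj δ x) (hc : c ∈ zOf G Adj δ) :
    IsE G Adj δ (x * c) := by
  obtain ⟨p, q, r, hp, hq, hr, n1, n2, n3, a, e, k, ha, he, hk, rfl⟩ := hx
  exact ⟨p, q, r, hp, hq, hr, n1, n2, n3, a, e, k * c, ha, he, h.out_mul_w hδ hr hk hc, by rw [mul_assoc _ k c]⟩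

omit hd in
theorem isE_conj (g : G) {δ : V} {x : G} (hx : IsE G Adj δ x) : IsE G Adj (g • δ) (g * x * g⁻¹) := by
  obtain ⟨p, q, r, hp, hq, hr, n1, n2, n3, a, e, k, ha, he, hk, rfl⟩ := hx
  exact ⟨g • p, g • q, g • r, h.smul g hp, h.smul g hq, h.smul g hr, fun e' => n1 (smul_left_cancel g e'),
    fun e' => n2 (smul_left_cancel g e'), fun e' => n3 (smul_left_cancel g e'), _, _, _, h.out_conj g ha,
    h.out_conj g he, h.out_conj g hk, by group⟩

theorem jZero_of_one {δ : V} (hδ : ty δ = false) {x : G} (hx : IsE G Adj δ x) (hxW : x ∈ zOf G Adj δ) :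
    JZero G Adj ty := by
  intro δ' hδ' x' hx'
  obtain ⟨y, hy⟩ := h.exists_adj δ
  obtain ⟨g, rfl⟩ := h.ty_smul (1 : G) y hy (hδ'.trans hδ.symm)
  exact (mul_mem_cancel_left (h.conj_zOf g hxW)).1 (h.isE_mul hd hδ' (h.isE_conj g hx) hx')

/-- triple products at siblings differ outside `Z_w`, unless they are central -/
theorem jZero_of_siblings {w δ δ' : V} (hw : ty w = true) (hδ : Adj w δ) (hδ' : Adj w δ') (hne : δ ≠ δ')
    {x x' : G} (hx : IsE G Adj δ x) (hx' : IsE G Adj δ' x') (hxx : x * x' ∈ zOf G Adj w) :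
    JZero G Adj ty := by
  have hB := h.tyB hδ hw
  have hB' := h.tyB hδ' hw
  have hxk := h.vOf_le_kern_nbr hd hB (h.symm hδ) (h.isE_mem hx)
  have hcen : ∀ g ∈ kern Adj w, g * x = x * g := by
    intro g hg
    have g1 := h.isE_conj g hx
    have g2 := h.isE_conj g hx'
    rw [hg.2 δ hδ] at g1
    rw [hg.2 δ' hδ'] at g2
    obtain ⟨c, hcd⟩ : ∃ c, c = x * (g * x * g⁻¹) := ⟨_, rfl⟩
    obtain ⟨c', hcd'⟩ : ∃ c', c' = x' * (g * x' * g⁻¹) := ⟨_, rfl⟩
    have hc : c ∈ zOf G Adj δ := hcd ▸ h.isE_mul hd hB hx g1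
    have hc' : c' ∈ zOf G Adj δ' := hcd' ▸ h.isE_mul hd hB' hx' g2
    have e1 : g * x * g⁻¹ = x * c := by rw [hcd, ← mul_assoc, h.isE_sq hd hB hx, one_mul]
    have e2 : g * x' * g⁻¹ = x' * c' := by rw [hcd', ← mul_assoc, h.isE_sq hd hB' hx', one_mul]
    have hfix : g * (x * x') * g⁻¹ = x * x' := by rw [zOf_comm_kern hxx hg, mul_inv_cancel_right]
    rw [show g * (x * x') * g⁻¹ = (g * x * g⁻¹) * (g * x' * g⁻¹) by group, e1, e2] at hfix
    have hcx : c * x' = x' * c :=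
      (h.vOf_comm hd hB' (h.isE_mem hx') (h.symm hδ') (h.wOf_le hw hδ hc)).symm
    rw [show x * c * (x' * c') = x * ((c * x') * c') by group, mul_left_cancel_iff, hcx, mul_assoc,
      mul_eq_left] at hfix
    have hc1 : c = 1 := h.wOf_inter hw hδ hδ' hne hc (eq_inv_of_mul_eq_one_left hfix ▸ inv_mem hc')
    rw [hc1, mul_one] at e1
    exact mul_inv_eq_iff_eq_mul.1 e1
  have hxw : x ∈ zOf G Adj w := h.mem_zOf_of_central hw hxk hcen (h.isE_sq hd hB hx)
  obtain ⟨u, hu, hune⟩ := h.exists_nbr_ne (x := δ) w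
  obtain ⟨g, hg, hgu⟩ := h.exists_move (h.symm hδ) hu
  have g1 := h.isE_conj g hx
  rw [hg] at g1
  have hxu : x ∈ zOf G Adj u := by
    have h1 := h.conj_zOf g hxw
    rw [hgu] at h1
    exact (mul_mem_cancel_right h1).1 (h.wOf_le (h.tyA hu hB) (h.symm hu) (h.isE_mul hd hB hx g1))
  exact h.jZero_of_one hd hB hx (h.zOf_inter hB (h.symm hδ) hu (Ne.symm hune) hxw hxu)

theorem jZero_out (hj : JZero G Adj ty) {δ p q r : V} (hδ : ty δ = false) (hp : Adj δ p) (hq : Adj δ q)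
    (hr : Adj δ r) (n1 : p ≠ q) (n2 : p ≠ r) (n3 : q ≠ r) {a c : G} (ha : Out G Adj δ p a)
    (hc : Out G Adj δ q c) : Out G Adj δ r (a * c) := by
  obtain ⟨e, he⟩ := h.exists_out hδ hr
  have hq' := hj δ hδ _ ⟨p, q, r, hp, hq, hr, n1, n2, n3, a, c, e, ha, hc, he, rfl⟩
  have hm : a * c ∈ zOf G Adj r :=
    (mul_mem_cancel_right he.mem).1 (h.wOf_le (h.tyA hr hδ) (h.symm hr) hq')
  exact ⟨hm, fun e' => he.not_mem ((mul_mem_cancel_left e').1 hq')⟩

/-- the two descriptions of the commutator along a critical walk -/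
theorem com_data {f : ℕ → V} (hc : Crit G Adj ty b f) {w : V} (hw : Adj (f b) w) (hne : w ≠ f (b - 1))
    {z y : G} (hz : Out G Adj (f 1) (f 0) z) (hy : Out G Adj (f b) w y) :
    (y • f 0 ≠ f 0 ∧ y • f 0 ≠ f 2 ∧ Adj (f 1) (y • f 0) ∧ Out G Adj (f 1) (y • f 0) (y * z * y⁻¹)) ∧
    (z • w ≠ w ∧ z • w ≠ f (b - 1) ∧ Adj (f b) (z • w) ∧ Out G Adj (f b) (z • w) (z * y * z⁻¹)) ∧
    z * (y * z * y⁻¹) = (z * y * z⁻¹) * y := by
  have h3 := hd.three_le
  have hf := hc.walk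
  have hlast := hf.adj (b - 1) (by omega)
  rw [show b - 1 + 1 = b by omega] at hlast
  have h10 := h.symm (hf.adj 0 (by omega))
  have hyq : y ∉ kern Adj (f 1) := by
    have := h.out_crit hd (h.crit_back hd hc hw hne) (a := y) hy
    obtain ⟨m, rfl⟩ : ∃ m, b = m + 1 := ⟨b - 1, by omega⟩
    rwa [back_succ, show m + 1 - m = 1 by omega] at this
  have hzq := h.out_crit hd hc hz
  have hyT := h.edgeT_of_outer hd hc hw hy.mem
  have hzb := h.crit_fix hd hc le_rfl hz.mem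
  have hzT : z ∈ edgeT G (f b) (f (b - 1)) :=
    mem_edgeT.2 ⟨hzb, h.crit_fix hd hc (Nat.sub_le _ _) hz.mem⟩
  have hy1 : y • f 1 = f 1 := (mem_edgeT.1 hyT).1
  refine ⟨⟨h.moves (hf.adj 1 (by omega)) h10 (hf.ne 0 (by omega)) hyT hyq,
      fun e => hf.ne 0 (by omega) (smul_left_cancel y (((mem_edgeT.1 hyT).2).trans e.symm)),
      h.smul_adj hy1 h10, hy1 ▸ h.out_conj y hz⟩,
    ⟨h.moves (h.symm hlast) hw (Ne.symm hne) hzT hzq,
      fun e => hne (smul_left_cancel z (e.trans (mem_edgeT.1 hzT).2.symm)),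
      h.smul_adj hzb hw, hzb ▸ h.out_conj z hy⟩, ?_⟩
  rw [h.zOf_inv hy.mem, h.zOf_inv hz.mem]
  group

end Cub

end CfsgLib.LS.CubicBound
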