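import Cfsg.Agent.Lib.LocalStructure.ActiveCenter.Critical
import Cfsg.Agent.Lib.RootSub.Commutator

/-!
# Trivalent amalgam geometries with one active centre: basic facts

The vertices of type `true` have an active centre, for those of type `false` the central involutions
of an edge stabilizer are central in the whole vertex stabilizer.
-/

set_option autoImplicit false
set_option linter.style.haveILetI false
set_option linter.unusedSectionVars false

open Subgroup MulAction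

namespace CfsgLib.LS.CubicBound

open CfsgLib.LS.ActiveCenter
open CfsgLib.LS.ActiveCenter.Geo (zOf kern_le edgeA_le_zOf zOf_comm_kern)
open CfsgLib.JComp (mem_omegaCenterOf)

universe u v

variable {G : Type u} {V : Type v} [Group G] [MulAction G V]

/-- The standing hypotheses with exactly one active centre. -/
structure Cub (G : Type u) [Group G] [MulAction G V] (Adj : V → V → Prop) (ty : V → Bool) : Prop
    extends Pre G Adj ty where
  active : ∀ {x y : V}, Adj x y → ty x = true → ¬ stabilizer G x ≤ centralizer (edgeA G x y : Set G)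
  central : ∀ {x y : V}, Adj x y → ty x = false → stabilizer G x ≤ centralizer (edgeA G x y : Set G)

/-- the group generated by the `Z`s of the neighbours -/
def vOf (G : Type u) [Group G] [MulAction G V] (Adj : V → V → Prop) (δ : V) : Subgroup G :=
  ⨆ (w : V) (_ : Adj δ w), zOf G Adj w

variable {Adj : V → V → Prop} {ty : V → Bool}

theorem zOf_le_vOf {δ w : V} (hw : Adj δ w) : zOf G Adj w ≤ vOf G Adj δ :=
  le_iSup₂_of_le (f := fun w (_ : Adj δ w) => zOf G Adj w) w hw le_rfl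

theorem vOf_le {δ : V} {S : Subgroup G} (hS : ∀ w, Adj δ w → zOf G Adj w ≤ S) : vOf G Adj δ ≤ S :=
  iSup₂_le hS

/-- a subgroup in which the complement of `S` multiplies into `S` -/
theorem card_le_two_mul {H S : Subgroup G} [Finite H]
    (hm : ∀ a ∈ H, ∀ b ∈ H, a ∉ S → b ∉ S → a * b ∈ S) : Nat.card H ≤ 2 * Nat.card ↥(H ⊓ S) := by
  have hc := card_mul_index ((H ⊓ S).subgroupOf H)
  rw [Nat.card_congr (subgroupOfEquivOfLe (inf_le_left : H ⊓ S ≤ H)).toEquiv] at hc
  have hi : ((H ⊓ S).subgroupOf H).index ≤ 2 := by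
    by_cases hle : H ≤ S
    · rw [show (H ⊓ S).subgroupOf H = ⊤ from subgroupOf_eq_top.2 (le_inf le_rfl hle), index_top]
      norm_num
    · obtain ⟨a, ha, haS⟩ := SetLike.not_le_iff_exists.1 hle
      refine le_of_eq (index_eq_two_iff.2 ⟨⟨a, ha⟩, fun b => ?_⟩)
      simp only [mem_subgroupOf, Subgroup.coe_mul, mem_inf, SetLike.coe_mem, true_and,
        mul_mem b.2 ha]
      by_cases hbS : (b : G) ∈ S
      · exact Or.inr ⟨hbS, fun e => haS ((mul_mem_cancel_left hbS).1 e)⟩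
      · exact Or.inl ⟨hm _ b.2 _ ha hbS haS, hbS⟩
  calc Nat.card H = Nat.card ↥(H ⊓ S) * _ := hc.symm
    _ ≤ Nat.card ↥(H ⊓ S) * 2 := Nat.mul_le_mul_left _ hi
    _ = _ := mul_comm _ _

namespace Cub

variable (h : Cub G Adj ty)
include h

theorem tyB {x y : V} (hxy : Adj x y) (hx : ty x = true) : ty y = false := by
  have := h.flip hxy
  cases hy : ty y <;> simp_all

theorem tyA {x y : V} (hxy : Adj x y) (hx : ty x = false) : ty y = true := by
  have := h.flip hxy
  cases hy : ty y <;> simp_all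

theorem ty_smul_eq (g : G) {x y : V} (hxy : Adj x y) : ty (g • x) = ty x := by
  by_contra hne
  have h1 : ty (g • x) = ty y := by
    have := h.flip hxy
    cases h2 : ty (g • x) <;> cases h3 : ty x <;> cases h4 : ty y <;> simp_all
  have h2 : ty (g • y) = ty x := by
    have := h.flip hxy; have := h.flip (h.smul g hxy)
    cases h5 : ty (g • x) <;> cases h6 : ty x <;> cases h7 : ty (g • y) <;> cases h8 : ty y <;> simp_all
  have key : ∀ {a b : V}, Adj a b → ty a = true → ty (g • a) = false → False := by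
    intro a b hab ha hga
    refine h.active hab ha ?_
    intro p hp
    refine mem_centralizer_iff.2 fun w hw => ?_
    have hp' : g * p * g⁻¹ ∈ stabilizer G (g • a) := by
      rw [mem_stabilizer_iff, mul_smul, mul_smul, inv_smul_smul, (show p • a = a from hp)]
    have := mem_centralizer_iff.1 (h.central (h.smul g hab) hga hp') _ (conj_edgeA g hw)
    calc w * p = g⁻¹ * ((g * w * g⁻¹) * (g * p * g⁻¹)) * g := by group
      _ = g⁻¹ * ((g * p * g⁻¹) * (g * w * g⁻¹)) * g := by rw [this]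
      _ = _ := by group
  cases hx : ty x
  · exact key (h.symm hxy) (h.tyA hxy hx) (h2.trans hx)
  · exact key hxy hx (h1.trans (h.tyB hxy hx))

theorem ty_smul' (g : G) (x : V) : ty (g • x) = ty x := by
  obtain ⟨y, hy⟩ := h.exists_adj x
  exact h.ty_smul_eq g hy

/-! ### The central parts at the vertices of type `false` -/

theorem zOf_eq {δ y : V} (hB : ty δ = false) (hy : Adj δ y) : zOf G Adj δ = edgeA G δ y := by
  refine le_antisymm (iSup₂_le fun z hz a ha => ?_) (edgeA_le_zOf hy)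
  exact (h.edgeC_indep hz hy ⟨ha, mem_centralizer_iff.2 fun k hk =>
    (mem_centralizer_iff.1 (h.central hz hB hk) a ha).symm⟩).1

theorem wOf_central {δ : V} (hB : ty δ = false) {a : G} (ha : a ∈ zOf G Adj δ) {g : G} (hg : g • δ = δ) :
    g * a = a * g := by
  obtain ⟨y, hy⟩ := h.exists_adj δ
  rw [h.zOf_eq hB hy] at ha
  exact (mem_centralizer_iff.1 (h.central hy hB (show g ∈ stabilizer G δ from hg)) a ha).symm

theorem wOf_eq {w δ : V} (hw : ty w = true) (hδ : Adj w δ) : zOf G Adj δ = edgeA G w δ := by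
  rw [h.zOf_eq (h.tyB hδ hw) (h.symm hδ), edgeA_comm]

theorem wOf_le {w δ : V} (hw : ty w = true) (hδ : Adj w δ) : zOf G Adj δ ≤ zOf G Adj w :=
  h.wOf_eq hw hδ ▸ edgeA_le_zOf hδ

theorem wOf_inter {w δ δ' : V} (hw : ty w = true) (hδ : Adj w δ) (hδ' : Adj w δ') (hne : δ ≠ δ') {a : G}
    (ha : a ∈ zOf G Adj δ) (ha' : a ∈ zOf G Adj δ') : a = 1 := by
  have hB := h.tyB hδ hw
  rw [h.wOf_eq hw hδ'] at ha'
  have h1 := ha
  rw [h.wOf_eq hw hδ] at h1
  refine h.edgeC_inf hδ (h.mem_edgeC_of_two hδ hδ' hne h1 ha') ⟨edgeA_comm (G := G) w δ ▸ h1, ?_⟩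
  exact mem_centralizer_iff.2 fun k hk => h.wOf_central hB ha hk

theorem exists_wOf_ne_one {δ : V} : ∃ a ∈ zOf G Adj δ, a ≠ 1 := by
  obtain ⟨y, hy⟩ := h.exists_adj δ
  obtain ⟨a, ha, ha1⟩ := h.exists_edgeA_ne_one hy
  exact ⟨a, edgeA_le_zOf hy ha, ha1⟩

theorem mem_wOf_of_comm {w δ : V} (hw : ty w = true) (hδ : Adj w δ) {z : G} (hz : z ∈ zOf G Adj w) {t : G}
    (ht : t ∈ edgeT G w δ) (htq : t ∉ kern Adj w) (hc : t * z = z * t) : z ∈ zOf G Adj δ :=
  h.wOf_eq hw hδ ▸ h.mem_edgeA_of_comm hδ hz ht htq hc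

theorem fold_mem {w δ : V} (hw : ty w = true) (hδ : Adj w δ) {z t : G} (hz : z ∈ zOf G Adj w)
    (ht : t ∈ edgeT G w δ) (htq : t ∉ kern Adj w) : z * (t * z * t⁻¹) ∈ zOf G Adj δ := by
  have hz' : t * z * t⁻¹ ∈ zOf G Adj w := h.conj_zOf_self (mem_edgeT.1 ht).1 hz
  refine h.mem_wOf_of_comm hw hδ (mul_mem hz hz') ht htq ?_
  have h2 : t * t * z = z * (t * t) := zOf_comm_kern hz (h.sq_mem_kern hδ ht)
  calc t * (z * (t * z * t⁻¹)) = (t * z * t⁻¹) * (t * t * z) * t⁻¹ := by group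
    _ = (t * z * t⁻¹) * (z * (t * t)) * t⁻¹ := by rw [h2]
    _ = ((t * z * t⁻¹) * z) * t := by group
    _ = _ := by rw [h.zOf_comm hz' hz]

theorem mem_wOf_of_fold {w δ : V} (hw : ty w = true) (hδ : Adj w δ) {z t : G} (hz : z ∈ zOf G Adj w)
    (ht : t ∈ edgeT G w δ) (htq : t ∉ kern Adj w) (he : z * (t * z * t⁻¹) = 1) : z ∈ zOf G Adj δ := by
  refine h.mem_wOf_of_comm hw hδ hz ht htq ?_
  have : t * z * t⁻¹ = z := by
    rw [show t * z * t⁻¹ = z⁻¹ from eq_inv_of_mul_eq_one_right he, h.zOf_inv hz]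
  exact mul_inv_eq_iff_eq_mul.1 this

theorem fold_mul {w δ : V} (hδ : Adj w δ) {z z' t : G} (hz : z ∈ zOf G Adj w) (hz' : z' ∈ zOf G Adj w)
    (ht : t ∈ edgeT G w δ) :
    z * z' * (t * (z * z') * t⁻¹) = z * (t * z * t⁻¹) * (z' * (t * z' * t⁻¹)) := by
  have h1 : Commute z' (t * z * t⁻¹) := h.zOf_comm hz' (h.conj_zOf_self (mem_edgeT.1 ht).1 hz)
  calc z * z' * (t * (z * z') * t⁻¹) = z * (z' * (t * z * t⁻¹)) * (t * z' * t⁻¹) := by group
    _ = z * ((t * z * t⁻¹) * z') * (t * z' * t⁻¹) := by rw [h1.eq]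
    _ = _ := by group

/-- a third part is contained in the product of the other two -/
theorem wOf_le_sup {w δ δ' δ'' : V} (hw : ty w = true) (hδ : Adj w δ) (hδ' : Adj w δ') (hδ'' : Adj w δ'')
    (h1 : δ ≠ δ') (h2 : δ ≠ δ'') (h3 : δ' ≠ δ'') :
    zOf G Adj δ' ≤ zOf G Adj δ ⊔ zOf G Adj δ'' := by
  obtain ⟨t, ht, htq⟩ := h.swap hδ''
  have hsw : t • δ = δ' := h.swap_eq hδ'' hδ hδ' (Ne.symm h2) (Ne.symm h3) h1 ht htq
  intro c hc
  obtain ⟨d, hd⟩ : ∃ d, d = t⁻¹ * c * t := ⟨_, rfl⟩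
  have hdδ : d ∈ zOf G Adj δ := by
    have := h.conj_zOf t⁻¹ hc
    rwa [inv_inv, ← hd, inv_smul_eq_iff.2 hsw.symm] at this
  have hdw := h.wOf_le hw hδ hdδ
  have hf := h.fold_mem hw hδ'' hdw ht htq
  rw [show t * d * t⁻¹ = c by rw [hd]; group] at hf
  have := mul_mem (mem_sup_left (T := zOf G Adj δ'') hdδ) (mem_sup_right (S := zOf G Adj δ) hf)
  rwa [← mul_assoc, h.zOf_sq hdw, one_mul] at this

theorem zOf_split {w δ δ' : V} (hw : ty w = true) (hδ : Adj w δ) (hδ' : Adj w δ') (hne : δ ≠ δ') {z : G}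
    (hz : z ∈ zOf G Adj w) : ∃ a ∈ zOf G Adj δ, ∃ b ∈ zOf G Adj δ', z = a * b := by
  have hle : zOf G Adj w ≤ zOf G Adj δ ⊔ zOf G Adj δ' := by
    refine iSup₂_le fun u hu => ?_
    rw [← h.wOf_eq hw hu]
    by_cases e1 : u = δ
    · rw [e1]; exact le_sup_left
    by_cases e2 : u = δ'
    · rw [e2]; exact le_sup_right
    exact h.wOf_le_sup hw hδ hu hδ' (Ne.symm e1) hne e2
  obtain ⟨a, ha, b, hb, rfl⟩ := CfsgLib.RootSub.mem_sup_of_commute (H := zOf G Adj δ) (K := zOf G Adj δ')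
    (fun p hp r hr => h.zOf_comm (h.wOf_le hw hδ hp) (h.wOf_le hw hδ' hr)) (hle hz)
  exact ⟨a, ha, b, hb, rfl⟩

theorem fold_onto {w δ δ' : V} (hw : ty w = true) (hδ : Adj w δ) (hδ' : Adj w δ') (hne : δ' ≠ δ) {c t : G}
    (hc : c ∈ zOf G Adj δ) (ht : t ∈ edgeT G w δ) (htq : t ∉ kern Adj w) :
    ∃ d ∈ zOf G Adj δ', d * (t * d * t⁻¹) = c := by
  obtain ⟨a, b, hza, hzb, ha1, hb1, hab, -⟩ := h.exists_two w hδ
  obtain ⟨δ'', hδ'', n1, n2⟩ : ∃ δ'', Adj w δ'' ∧ δ'' ≠ δ ∧ δ'' ≠ δ' := by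
    by_cases e : a = δ'
    · exact ⟨b, hzb, hb1, fun e' => hab (e.trans e'.symm)⟩
    · exact ⟨a, hza, ha1, e⟩
  obtain ⟨d, hd, e, he, hce⟩ := h.zOf_split hw hδ' hδ'' (Ne.symm n2) (h.wOf_le hw hδ hc)
  refine ⟨d, hd, ?_⟩
  have hdw := h.wOf_le hw hδ' hd
  have hew := h.wOf_le hw hδ'' he
  have h1 : t * d * t⁻¹ ∈ zOf G Adj δ'' := by
    have := h.conj_zOf t hd
    rwa [h.swap_eq hδ hδ' hδ'' (Ne.symm hne) (Ne.symm n1) (Ne.symm n2) ht htq] at this
  have h2 : e * (t * d * t⁻¹) ∈ zOf G Adj δ := by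
    have := mul_mem hc (h.fold_mem hw hδ hdw ht htq)
    rwa [hce, show d * e * (d * (t * d * t⁻¹)) = d * (e * d) * (t * d * t⁻¹) by group,
      h.zOf_comm hew hdw, ← mul_assoc d, h.zOf_sq hdw, one_mul] at this
  have h3 := h.wOf_inter hw hδ'' hδ n1 (mul_mem he h1) h2
  rw [hce, ← eq_inv_of_mul_eq_one_right h3 |>.trans (h.zOf_inv hew)]

/-- only the kernel centralizes `Z_w` -/
theorem mem_kern_of_centralizes {w : V} (hw : ty w = true) {g : G} (hg : g • w = w)
    (hc : ∀ z ∈ zOf G Adj w, g * z = z * g) : g ∈ kern Adj w := by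
  refine ⟨hg, fun δ hδ => ?_⟩
  by_contra hne
  obtain ⟨a, ha, ha1⟩ := h.exists_wOf_ne_one (δ := δ)
  have := h.conj_zOf g ha
  rw [hc a (h.wOf_le hw hδ ha), mul_inv_cancel_right] at this
  exact ha1 (h.wOf_inter hw (h.smul_adj hg hδ) hδ hne this ha)

/-! ### Faithfulness -/

theorem eq_one_of_fix {g : G} (hg : ∀ v : V, g • v = v) {x y : V} (hy : Adj x y) : g = 1 := by
  obtain ⟨K, hK⟩ : ∃ K : Subgroup G, K = ⨅ v : V, stabilizer G v := ⟨_, rfl⟩
  have hKn : ∀ p : G, ∀ k ∈ K, p * k * p⁻¹ ∈ K := fun p k hk => by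
    rw [hK, mem_iInf] at hk ⊢
    intro v
    have := hk (p⁻¹ • v)
    rw [mem_stabilizer_iff] at this ⊢
    simp [mul_smul, this]
  have hbot := h.faithful hy K (hK ▸ le_inf (iInf_le _ x) (iInf_le _ y))
    (CfsgLib.JComp.le_normalizer_of_conj fun g _ k hk => hKn g k hk)
    (CfsgLib.JComp.le_normalizer_of_conj fun g _ k hk => hKn g k hk)
  rw [← mem_bot, ← hbot, hK, mem_iInf]
  exact fun v => hg v

/-- transitivity on neighbours from movers -/
theorem trans_of_moves {γ : V} {S : Subgroup G}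
    (hmv : ∀ w, Adj γ w → ∃ m ∈ S, m ∈ edgeT G γ w ∧ m ∉ kern Adj γ) {w w' : V} (hw : Adj γ w)
    (hw' : Adj γ w') : ∃ m ∈ S, m • w = w' := by
  by_cases e : w = w'
  · exact ⟨1, one_mem _, by rw [one_smul, e]⟩
  obtain ⟨a, b, ha, hb, ha1, hb1, hab, -⟩ := h.exists_two γ hw
  obtain ⟨u, hu, n1, n2⟩ : ∃ u, Adj γ u ∧ u ≠ w ∧ u ≠ w' := by
    by_cases e' : a = w'
    · exact ⟨b, hb, hb1, fun e'' => hab (e'.trans e''.symm)⟩
    · exact ⟨a, ha, ha1, e'⟩
  obtain ⟨m, hm, hmT, hmq⟩ := hmv u hu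
  exact ⟨m, hm, h.swap_eq hu hw hw' n1 n2 e hmT hmq⟩

/-- An element of `Q_w` centralized by transitive subgroups at all three neighbours is trivial. -/
theorem eq_one_of_centralized (M : V → Subgroup G)
    (hconj : ∀ (g : G) (γ : V), ty γ = false → ∀ m ∈ M γ, g * m * g⁻¹ ∈ M (g • γ))
    (hstab : ∀ γ, ty γ = false → M γ ≤ stabilizer G γ)
    (htr : ∀ γ, ty γ = false → ∀ w w', Adj γ w → Adj γ w' → ∃ m ∈ M γ, m • w = w')
    {w : V} (hw : ty w = true) {x : G} (hx : x ∈ kern Adj w)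
    (hc : ∀ γ, Adj w γ → ∀ m ∈ M γ, m * x = x * m) : x = 1 := by
  obtain ⟨y, hy⟩ := h.exists_adj w
  refine h.eq_one_of_fix (fun v => ?_) hy
  have key : ∀ u, ty u = true → x ∈ kern Adj u ∧ ∀ γ, Adj u γ → ∀ m ∈ M γ, m * x = x * m := by
    intro u
    obtain ⟨n, hn⟩ := h.conn w u
    induction n using Nat.strong_induction_on generalizing w y with
    | _ n ih =>
      intro hu
      match n, hn with
      | 0, hn => cases hn; exact ⟨hx, hc⟩
      | 1, hn =>
        obtain ⟨z, hz, e⟩ := hn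
        cases e
        have := h.tyB hz hw
        rw [hu] at this
        exact absurd this (by simp)
      | n + 2, hn =>
        obtain ⟨γ, hγ, w₂, hw₂, hn'⟩ := hn
        have hγB := h.tyB hγ hw
        obtain ⟨m, hm, hmw⟩ := htr γ hγB w w₂ (h.symm hγ) hw₂
        have hmx : m * x * m⁻¹ = x := by rw [hc γ hγ m hm, mul_inv_cancel_right]
        obtain ⟨y₂, hy₂⟩ := h.exists_adj w₂
        refine ih n (by omega) (w := w₂) (h.tyA hw₂ hγB) ?_ ?_ y₂ hy₂ hn' hu
        · have := h.conj_kern m hx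
          rwa [hmx, hmw] at this
        · intro γ' hγ' p hp
          have hγ'' : Adj w (m⁻¹ • γ') := by
            have := h.smul m⁻¹ hγ'
            rwa [inv_smul_eq_iff.2 hmw.symm] at this
          have hp' := hconj m⁻¹ γ' (h.tyB hγ' (h.tyA hw₂ hγB)) p hp
          rw [inv_inv] at hp'
          have e := hc _ hγ'' _ hp'
          calc p * x = m * (m⁻¹ * p * m * (m⁻¹ * x * m)) * m⁻¹ := by group
            _ = m * (m⁻¹ * p * m * x) * m⁻¹ := by
              rw [show m⁻¹ * x * m = x by rw [mul_assoc, ← hc γ hγ m hm, inv_mul_cancel_left]]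
            _ = m * (x * (m⁻¹ * p * m)) * m⁻¹ := by rw [e]
            _ = (m * x * m⁻¹) * p := by group
            _ = x * p := by rw [hmx]
  cases hv : ty v
  · obtain ⟨u, hu⟩ := h.exists_adj v
    exact (key u (h.tyA hu hv)).1.2 v (h.symm hu)
  · exact (key v hv).1.1

/-- the `N` of a vertex of type `false` -/
theorem kern_le_stab {γ u : V} (hu : Adj γ u) : kern (G := G) Adj u ≤ stabilizer G γ :=
  fun _ hq => hq.2 γ (h.symm hu)

/-- two `Z`s at a vertex of type `false` meet in the central part -/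
theorem zOf_inter {δ w w' : V} (hB : ty δ = false) (hw : Adj δ w) (hw' : Adj δ w') (hne : w ≠ w') {a : G}
    (ha : a ∈ zOf G Adj w) (ha' : a ∈ zOf G Adj w') : a ∈ zOf G Adj δ := by
  have hwA := h.tyA hw hB
  have hall : ∀ u, Adj δ u → a ∈ zOf G Adj u := by
    intro u hu
    by_cases e1 : u = w
    · exact e1 ▸ ha
    by_cases e2 : u = w'
    · exact e2 ▸ ha'
    obtain ⟨t, ht, htq⟩ := SetLike.not_le_iff_exists.1 (h.kern_not_le (G := G) (h.symm hw))
    have := h.conj_zOf t ha'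
    rwa [h.swap_eq hw hw' hu hne (Ne.symm e1) (Ne.symm e2) (edgeT_comm (G := G) w δ ▸ kern_le (h.symm hw) ht) htq,
      zOf_comm_kern ha ht, mul_inv_cancel_right] at this
  obtain ⟨γ, hγ, hγne⟩ := h.exists_nbr_ne (x := w) δ
  obtain ⟨e, he, c, hc, rfl⟩ := h.zOf_split hwA (h.symm hw) hγ (Ne.symm hγne) ha
  suffices hc1 : c = 1 by rw [hc1, mul_one]; exact he
  have hcall : ∀ u, Adj δ u → c ∈ zOf G Adj u := fun u hu =>
    (mul_mem_cancel_left (h.wOf_le (h.tyA hu hB) (h.symm hu) he)).1 (hall u hu)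
  let M : V → Subgroup G := fun γ => ⨆ (u : V) (_ : Adj γ u), kern Adj u
  have hMc : ∀ m ∈ M δ, m * c = c * m := by
    intro m hm
    have hle : M δ ≤ centralizer ({c} : Set G) := iSup₂_le fun u hu q hq =>
      mem_centralizer_singleton_iff.2 (zOf_comm_kern (hcall u hu) hq)
    exact mem_centralizer_singleton_iff.1 (hle hm)
  have hMs : ∀ γ', ty γ' = false → M γ' ≤ stabilizer G γ' := fun γ' _ => iSup₂_le fun u hu => h.kern_le_stab hu
  have hMconj : ∀ (g : G) (γ' : V), ty γ' = false → ∀ m ∈ M γ', g * m * g⁻¹ ∈ M (g • γ') := by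
    intro g γ' _
    have hle : M γ' ≤ (M (g • γ')).comap (MulAut.conj g).toMonoidHom := iSup₂_le fun u hu q hq =>
      le_iSup₂_of_le (f := fun u (_ : Adj (g • γ') u) => kern (G := G) Adj u) (g • u) (h.smul g hu) le_rfl
        (h.conj_kern g hq)
    exact fun m hm => hle hm
  refine h.eq_one_of_centralized M hMconj hMs (fun γ' _ u u' hu hu' => ?_) hwA
    (h.zOf_le_kern w (h.wOf_le hwA hγ hc)) fun γ' hγ' => ?_
  · refine h.trans_of_moves (fun x hx => ?_) hu hu'
    obtain ⟨t, ht, htq⟩ := SetLike.not_le_iff_exists.1 (h.kern_not_le (G := G) (h.symm hx))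
    exact ⟨t, le_iSup₂_of_le (f := fun u (_ : Adj γ' u) => kern (G := G) Adj u) x hx le_rfl ht,
      edgeT_comm (G := G) x γ' ▸ kern_le (h.symm hx) ht, htq⟩
  · intro m hm
    by_cases e1 : γ' = δ
    · exact hMc m (e1 ▸ hm)
    by_cases e2 : γ' = γ
    · exact h.wOf_central (h.tyB hγ hwA) hc (e2 ▸ hMs γ' (h.tyB hγ' hwA) hm)
    obtain ⟨t, ht, htq⟩ := h.swap hγ
    have hsw : t • δ = γ' := h.swap_eq hγ (h.symm hw) hγ' hγne (Ne.symm e2) (Ne.symm e1) ht htq
    have htc : t * c * t⁻¹ = c := by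
      rw [h.wOf_central (h.tyB hγ hwA) hc (mem_edgeT.1 ht).2, mul_inv_cancel_right]
    have hm' := hMconj t⁻¹ γ' (h.tyB hγ' hwA) m hm
    rw [inv_smul_eq_iff.2 hsw.symm, inv_inv] at hm'
    have := hMc _ hm'
    calc m * c = t * (t⁻¹ * m * t * c) * t⁻¹ := by
          rw [show t * (t⁻¹ * m * t * c) * t⁻¹ = m * (t * c * t⁻¹) by group, htc]
      _ = t * (c * (t⁻¹ * m * t)) * t⁻¹ := by rw [this]
      _ = c * m := by rw [show t * (c * (t⁻¹ * m * t)) * t⁻¹ = t * c * t⁻¹ * m by group, htc]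

/-- `Z_w` is the group of central involutions of `Q_w` -/
theorem mem_zOf_of_central {w : V} (hw : ty w = true) {a : G} (ha : a ∈ kern Adj w)
    (hc : ∀ q ∈ kern Adj w, q * a = a * q) (h2 : a * a = 1) : a ∈ zOf G Adj w := by
  obtain ⟨δ, hδ⟩ := h.exists_adj w
  obtain ⟨δ', hδ', hne⟩ := h.exists_nbr_ne (x := w) δ
  obtain ⟨t, ht, htq⟩ := h.swap hδ
  have hmem : ∀ b, b ∈ edgeT G w δ → (∀ q ∈ kern Adj w, q * b = b * q) → t * b = b * t → b * b = 1 →
      b ∈ zOf G Adj δ := by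
    intro b hb hbc hbt hb2
    rw [h.wOf_eq hw hδ]
    refine mem_omegaCenterOf.2 ⟨hb, fun q hq => ?_, by rw [pow_two, hb2]⟩
    by_cases hqq : q ∈ kern Adj w
    · exact hbc q hqq
    · have hk := h.mul_mem_kern hδ (inv_mem ht) hq (fun e => htq (by simpa using inv_mem e)) hqq
      have h3 := (show Commute t b from hbt).mul_left (show Commute (t⁻¹ * q) b from hbc _ hk)
      rwa [mul_inv_cancel_left] at h3
  obtain ⟨a', ha'⟩ : ∃ a', a' = t * a * t⁻¹ := ⟨_, rfl⟩
  have htx := (mem_edgeT.1 ht).1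
  have ha'k : a' ∈ kern Adj w := by
    have := h.conj_kern t ha
    rwa [htx, ← ha'] at this
  have ha'c : ∀ q ∈ kern Adj w, q * a' = a' * q := by
    intro q hq
    have hq' : t⁻¹ * q * t ∈ kern Adj w := by
      have := h.conj_kern t⁻¹ hq
      rwa [inv_smul_eq_iff.2 htx.symm, inv_inv] at this
    have e := hc _ hq'
    rw [ha']
    calc q * (t * a * t⁻¹) = t * (t⁻¹ * q * t * a) * t⁻¹ := by group
      _ = t * (a * (t⁻¹ * q * t)) * t⁻¹ := by rw [e]
      _ = _ := by group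
  have haa : Commute a a' := ha'c a ha
  have h22 : t * t * a = a * (t * t) := hc _ (h.sq_mem_kern hδ ht)
  have hta' : t * a' = a * t := by
    rw [ha', show t * (t * a * t⁻¹) = t * t * a * t⁻¹ by group, h22]; group
  have hta : t * a = a' * t := by rw [ha']; group
  have hf : a * a' ∈ zOf G Adj δ := by
    refine hmem _ (kern_le hδ (mul_mem ha ha'k)) (fun q hq => ((show Commute q a from hc q hq).mul_right
      (show Commute q a' from ha'c q hq)).eq) ?_ ?_
    · rw [← mul_assoc, hta, mul_assoc, hta', ← mul_assoc, haa.eq]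
    · rw [show a * a' * (a * a') = a * (a' * a) * a' by group, ← haa.eq, ← mul_assoc a, h2, one_mul]
      rw [ha', show t * a * t⁻¹ * (t * a * t⁻¹) = t * (a * a) * t⁻¹ by group, h2, mul_one, mul_inv_cancel]
  obtain ⟨c, hc', hce⟩ := h.fold_onto hw hδ hδ' hne hf ht htq
  have hcw := h.wOf_le hw hδ' hc'
  have hck := h.zOf_le_kern w hcw
  have key : a * c ∈ zOf G Adj δ := by
    refine hmem _ (kern_le hδ (mul_mem ha hck)) (fun q hq => ((show Commute q a from hc q hq).mul_right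
      (show Commute q c from zOf_comm_kern hcw hq)).eq) ?_ ?_
    · have h4 : t * c = t * c * t⁻¹ * t := by group
      have h5 : t * c * t⁻¹ = c * (a * a') := by
        rw [← hce, ← mul_assoc, h.zOf_sq hcw, one_mul]
      rw [← mul_assoc, hta, mul_assoc, h4, h5, show a' * (c * (a * a') * t) = a' * (c * a) * a' * t by group,
        ← hc c hck, show a' * (c * a) * a' * t = a' * c * a * a' * t by group]
      have hac : Commute a c := (hc c hck).symm
      have ha'c' : Commute a' c := (ha'c c hck).symm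
      have ha'2 : a' * a' = 1 := by
        rw [ha', show t * a * t⁻¹ * (t * a * t⁻¹) = t * (a * a) * t⁻¹ by group, h2, mul_one, mul_inv_cancel]
      rw [ha'c'.eq, show c * a' * a * a' = c * (a' * a) * a' by group, ← haa.eq,
        show c * (a * a') * a' = c * a * (a' * a') by group, ha'2, mul_one, ← hac.eq]
    · rw [show a * c * (a * c) = a * (c * a) * c by group, hc c hck, ← mul_assoc a, h2, one_mul, h.zOf_sq hcw]
  have := mul_mem (h.wOf_le hw hδ key) hcw
  rwa [mul_assoc, h.zOf_sq hcw, mul_one] at this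

/-! ### Orders -/

theorem card_le_kern {x y : V} (hy : Adj x y) {H : Subgroup G} [Finite H] (hH : H ≤ edgeT G x y) :
    Nat.card H ≤ 2 * Nat.card ↥(H ⊓ kern Adj x) :=
  card_le_two_mul fun _ ha _ hb hna hnb => h.mul_mem_kern hy (hH ha) (hH hb) hna hnb

theorem finite_edgeT (x y : V) : Finite (edgeT G x y) :=
  haveI := h.fin x
  Finite.of_injective _ (inclusion_injective (inf_le_left : edgeT G x y ≤ stabilizer G x))

theorem finite_kern (x : V) : Finite (kern (G := G) Adj x) :=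
  haveI := h.fin x
  Finite.of_injective _ (inclusion_injective (show kern (G := G) Adj x ≤ stabilizer G x from fun _ hq => hq.1))

theorem card_edgeT {x y : V} (hy : Adj x y) : Nat.card (edgeT G x y) = 2 * Nat.card (kern (G := G) Adj x) := by
  obtain ⟨t, ht, htq⟩ := h.swap hy
  have hi : ((kern (G := G) Adj x).subgroupOf (edgeT G x y)).index = 2 := by
    refine index_eq_two_iff.2 ⟨⟨t, ht⟩, fun b => ?_⟩
    simp only [mem_subgroupOf, Subgroup.coe_mul]
    by_cases hb : (b : G) ∈ kern Adj x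
    · exact Or.inr ⟨hb, fun e => htq ((mul_mem_cancel_left hb).1 e)⟩
    · exact Or.inl ⟨h.mul_mem_kern hy b.2 ht hb htq, hb⟩
  have := card_mul_index ((kern (G := G) Adj x).subgroupOf (edgeT G x y))
  rw [hi, Nat.card_congr (subgroupOfEquivOfLe (kern_le hy)).toEquiv] at this
  omega

theorem card_edgeT_smul (g : G) (x y : V) : Nat.card (edgeT G (g • x) (g • y)) = Nat.card (edgeT G x y) := by
  refine Nat.card_congr
    { toFun := fun t => ⟨g⁻¹ * t * g, by simpa using conj_edgeT g⁻¹ t.2⟩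
      invFun := fun t => ⟨g * t * g⁻¹, conj_edgeT g t.2⟩
      left_inv := fun t => Subtype.ext (by simp [mul_assoc])
      right_inv := fun t => Subtype.ext (by simp [mul_assoc]) }

theorem card_edgeT_eq {x y x' y' : V} (hxy : Adj x y) (hxy' : Adj x' y') :
    Nat.card (edgeT G x y) = Nat.card (edgeT G x' y') := by
  by_cases e : ty x = ty x'
  · obtain ⟨g, rfl, rfl⟩ := h.edge_trans hxy hxy' e
    exact (h.card_edgeT_smul g x y).symm
  · obtain ⟨g, rfl, rfl⟩ := h.edge_trans hxy (h.symm hxy') (by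
      have := h.flip hxy'
      cases h1 : ty x <;> cases h2 : ty x' <;> cases h3 : ty y' <;> simp_all)
    rw [edgeT_comm (G := G) (g • y) (g • x)]
    exact (h.card_edgeT_smul g x y).symm

theorem card_kern_eq {x y : V} (hy : Adj x y) :
    Nat.card (kern (G := G) Adj x) = Nat.card (kern (G := G) Adj y) := by
  have h1 := h.card_edgeT hy
  have h2 := h.card_edgeT (h.symm hy)
  rw [edgeT_comm] at h2
  omega

theorem card_kern_inf {x y : V} (hy : Adj x y) :
    Nat.card (kern (G := G) Adj x) ≤ 2 * Nat.card ↥(kern (G := G) Adj x ⊓ kern Adj y) := by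
  haveI := h.finite_kern x
  exact h.card_le_kern (h.symm hy) (edgeT_comm (G := G) x y ▸ kern_le hy)

end Cub

end CfsgLib.LS.CubicBound
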