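import Cfsg.Agent.Lib.LocalStructure.CubicBound.FarDist

/-!
# Critical distance three: the centralizer of all the modules around a vertex
-/

set_option autoImplicit false
set_option linter.style.haveILetI false
set_option linter.unusedSectionVars false

open Subgroup MulAction

namespace CfsgLib.LS.CubicBound

open CfsgLib.LS.ActiveCenter
open CfsgLib.LS.ActiveCenter.Geo (zOf kern_le edgeA_le_zOf zOf_comm_kern)

universe u v

variable {G : Type u} {V : Type v} [Group G] [MulAction G V] {Adj : V → V → Prop} {ty : V → Bool}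

/-- four vertices as a walk -/
def quad (a b c d : V) : ℕ → V := pre a (pre b (pre c fun _ => d))

theorem quad_walk {a b c d : V} (h1 : Adj a b) (h2 : Adj b c) (h3 : Adj c d) (n1 : c ≠ a) (n2 : d ≠ b) :
    IsWalk Adj 3 (quad a b c d) :=
  (((show IsWalk Adj 0 (fun _ => d) from
    ⟨fun i hi => absurd hi (by omega), fun i hi => absurd hi (by omega)⟩).cons h3 (by omega)).cons h2
      fun _ => n2).cons h1 fun _ => n1

/-- the part of `D_δ` in `D_v` for every vertex two steps away -/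
def kOf (G : Type u) [Group G] [MulAction G V] (Adj : V → V → Prop) (δ : V) : Subgroup G :=
  dOf G Adj δ ⊓ ⨅ (u : V) (_ : Adj δ u) (v : V) (_ : Adj u v), dOf G Adj v

theorem mem_kOf {δ : V} {g : G} :
    g ∈ kOf G Adj δ ↔ g ∈ dOf G Adj δ ∧ ∀ u, Adj δ u → ∀ v, Adj u v → g ∈ dOf G Adj v := by
  simp only [kOf, mem_inf, mem_iInf]

/-- A vertex, a neighbour with its two other neighbours, outer elements at those, and an inverted
element of order three. -/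
structure Conf (G : Type u) [Group G] [MulAction G V] (Adj : V → V → Prop) (ty : V → Bool) (δ w p q : V)
    (y y' o : G) : Prop where
  tyB : ty δ = false
  hw : Adj δ w
  hp : Adj w p
  hq : Adj w q
  np : p ≠ δ
  nq : q ≠ δ
  npq : p ≠ q
  outy : ∃ x, Adj p x ∧ x ≠ w ∧ Out G Adj p x y
  outy' : ∃ x, Adj q x ∧ x ≠ w ∧ Out G Adj q x y'
  ofix : o • δ = δ
  omove : o • w ≠ w
  ocube : o ^ 3 = 1
  oinv : y * o * y⁻¹ = o⁻¹

namespace Cub

variable (h : Cub G Adj ty) (hd : OddDist G Adj ty 3) (hj : JZero G Adj ty)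
include h

theorem dOf_conj (g : G) {δ : V} {d : G} (hd' : d ∈ dOf G Adj δ) : g * d * g⁻¹ ∈ dOf G Adj (g • δ) := by
  obtain ⟨k1, k2⟩ := mem_dOf.1 hd'
  refine mem_dOf.2 ⟨h.conj_kern g k1, fun v hv => ?_⟩
  have hv' : Adj δ (g⁻¹ • v) := by simpa using h.smul g⁻¹ hv
  have := h.conj_kern g (k2 _ hv')
  rwa [smul_inv_smul] at this

theorem kOf_conj (g : G) {δ : V} {d : G} (hd' : d ∈ kOf G Adj δ) : g * d * g⁻¹ ∈ kOf G Adj (g • δ) := by
  obtain ⟨k1, k2⟩ := mem_kOf.1 hd'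
  refine mem_kOf.2 ⟨h.dOf_conj g k1, fun u hu v hv => ?_⟩
  have hu' : Adj δ (g⁻¹ • u) := by simpa using h.smul g⁻¹ hu
  have := h.dOf_conj g (k2 _ hu' (g⁻¹ • v) (h.smul g⁻¹ hv))
  rwa [smul_inv_smul] at this

theorem dOf_comm {δ : V} {d x : G} (hd' : d ∈ dOf G Adj δ) (hx : x ∈ vOf G Adj δ) : d * x = x * d := by
  have hle : vOf G Adj δ ≤ centralizer ({d} : Set G) := vOf_le fun u hu a ha =>
    mem_centralizer_singleton_iff.2 (zOf_comm_kern ha ((mem_dOf.1 hd').2 u hu)).symm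
  exact (mem_centralizer_singleton_iff.1 (hle hx)).symm

include hd

theorem crit_three {g : ℕ → V} (hg : IsWalk Adj 3 g) (hA : ty (g 0) = true) : Crit G Adj ty 3 g := by
  obtain ⟨f, hc⟩ := hd.attained
  have hf := hc.walk
  have hB := h.tyB (hg.adj 0 (by omega)) hA
  haveI : Nonempty V := ⟨f 0⟩
  obtain ⟨k, hk⟩ := h.conj_walk (fun s => h.mv_one s) (le_refl 2) (hf.shift (m := 2) (k := 1) (by omega))
    (hg.shift (m := 2) (k := 1) (by omega))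
    (show ty (f 1) = ty (g 1) from (h.tyB (hf.adj 0 (by omega)) hc.start).trans hB.symm)
  have k1 : k • f 1 = g 1 := hk 0 (by omega)
  have k2 : k • f 2 = g 2 := hk 1 (by omega)
  have k3 : k • f 3 = g 3 := hk 2 le_rfl
  have hx := h.both_outer hd (h.crit_smul k hc) (x := g 0) (by show Adj (k • f 1) (g 0); rw [k1]; exact h.symm (hg.adj 0 (by omega)))
    (by show g 0 ≠ k • f 2; rw [k2]; exact Ne.symm (hg.ne 0 (by omega)))
  refine ⟨hg, hA, ?_⟩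
  rw [← k3]
  exact hx.not_le

theorem out_not_kern {x p w q : V} (hp : ty p = false) (hx : Adj p x) (hw : Adj p w) (hq : Adj w q)
    (hxw : x ≠ w) (hqp : q ≠ p) {a : G} (ha : Out G Adj p x a) : a ∉ kern Adj q :=
  h.out_crit hd (f := quad x p w q)
    (h.crit_three hd (quad_walk (h.symm hx) hw hq (Ne.symm hxw) hqp) (h.tyA hx hp)) ha

theorem vOf_le_dOf {δ : V} (hδ : ty δ = false) : vOf G Adj δ ≤ dOf G Adj δ := fun g hg =>
  mem_dOf.2 ⟨(vOf_le fun w hw a ha =>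
    h.le_kern hd.toIsDist (n := 1) (by omega) (h.tyA hw hδ) (near_one (h.symm hw)) ha) hg,
    fun _ hu => h.vOf_le_kern_nbr hd hδ hu hg⟩

theorem wOf_le_kOf {δ : V} (hδ : ty δ = false) : zOf G Adj δ ≤ kOf G Adj δ := fun a ha => by
  have hD : ∀ u, Adj δ u → ∀ v, Adj u v → a ∈ dOf G Adj v := fun u hu v hv =>
    mem_dOf.2 ⟨h.w_le_kern hd.toIsDist (n := 2) (by omega) hδ (near_cons hu (near_one hv)) ha,
      fun x hx => h.w_le_kern hd.toIsDist (n := 3) le_rfl hδ (near_cons hu (near_cons hv (near_one hx))) ha⟩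
  obtain ⟨y, hy⟩ := h.exists_adj δ
  exact mem_kOf.2 ⟨hD y hy δ (h.symm hy), hD⟩

theorem dOf_of_comm {δ : V} (hδ : ty δ = false) {g : G} (hg : g • δ = δ)
    (hc : ∀ p, Adj δ p → ∀ a ∈ zOf G Adj p, g * a = a * g) : g ∈ dOf G Adj δ := by
  have hfix : ∀ p, Adj δ p → g • p = p := by
    intro p hp
    by_contra hne
    obtain ⟨a, ha, haW⟩ := h.exists_zOf_not_wOf (h.tyA hp hδ) (h.symm hp)
    have := h.conj_zOf g ha
    rw [hc p hp a ha, mul_inv_cancel_right] at this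
    exact haW (h.zOf_inter hδ (h.smul_adj hg hp) hp hne this ha)
  exact mem_dOf.2 ⟨⟨hg, hfix⟩, fun p hp => h.mem_kern_of_centralizes (h.tyA hp hδ) (hfix p hp) (hc p hp)⟩

include hj

theorem com_three {w p q r x x' : V} (hw : ty w = true) (hp : Adj w p) (hq : Adj w q) (hr : Adj w r)
    (n1 : p ≠ q) (n2 : p ≠ r) (n3 : q ≠ r) (hx : Adj p x) (hxw : x ≠ w) (hx' : Adj q x') (hx'w : x' ≠ w)
    {z y : G} (hz : Out G Adj p x z) (hy : Out G Adj q x' y) : z * (y * z * y⁻¹) = rOf G Adj r := by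
  obtain ⟨e1, e2⟩ := h.com_mem hd hj (f := quad x p w q)
    (h.crit_three hd (quad_walk (h.symm hx) (h.symm hp) hq (Ne.symm hxw) (Ne.symm n1)) (h.tyA hx (h.tyB hp hw)))
    (w := x') hx' hx'w (z := z) (y := y) hz hy
  obtain ⟨R, hR⟩ : ∃ R, R = z * (y * z * y⁻¹) := ⟨_, rfl⟩
  rw [← hR] at e1 e2 ⊢
  have a1 : Out G Adj p w R := e1
  have a2 : Out G Adj q w R := e2
  rcases h.zOf_cases hd hw hp hq hr n1 n2 n3 a1.mem with rfl | rfl | rfl | rfl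
  · exact absurd (one_mem _) a1.not_mem
  · exact absurd (h.rOf_spec p).1 a1.not_mem
  · exact absurd (h.rOf_spec q).1 a2.not_mem
  · rfl

theorem vOf_le_sup {δ a b : V} (hδ : ty δ = false) (ha : Adj δ a) (hb : Adj δ b) (hab : a ≠ b) :
    vOf G Adj δ ≤ zOf G Adj a ⊔ zOf G Adj b := by
  refine vOf_le fun c hc z hz => ?_
  by_cases e1 : c = a
  · exact mem_sup_left (e1 ▸ hz)
  by_cases e2 : c = b
  · exact mem_sup_right (e2 ▸ hz)
  by_cases hzW : z ∈ zOf G Adj δ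
  · exact mem_sup_left (h.wOf_le (h.tyA ha hδ) (h.symm ha) hzW)
  obtain ⟨p, hp⟩ := h.exists_out hδ ha
  obtain ⟨q, hq⟩ := h.exists_out hδ hb
  have hpq := h.jZero_out hd hj hδ ha hb hc hab (Ne.symm e1) (Ne.symm e2) hp hq
  have hW := h.out_mul hd hδ hc hpq ⟨hz, hzW⟩
  have hm : p * q ∈ zOf G Adj a ⊔ zOf G Adj b := mul_mem (mem_sup_left hp.mem) (mem_sup_right hq.mem)
  have := mul_mem (inv_mem hm) (mem_sup_left (T := zOf G Adj b) (h.wOf_le (h.tyA ha hδ) (h.symm ha) hW))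
  rwa [← mul_assoc, inv_mul_cancel, one_mul] at this

theorem vOf_split {δ a b : V} (hδ : ty δ = false) (ha : Adj δ a) (hb : Adj δ b) (hab : a ≠ b) {x : G}
    (hx : x ∈ vOf G Adj δ) : ∃ p ∈ zOf G Adj a, ∃ q ∈ zOf G Adj b, x = p * q := by
  obtain ⟨p, hp, q, hq, rfl⟩ := CfsgLib.RootSub.mem_sup_of_commute (H := zOf G Adj a) (K := zOf G Adj b)
    (fun p hp r hr => h.comm_at hd hδ ha hb hp hr) (h.vOf_le_sup hd hj hδ ha hb hab hx)
  exact ⟨p, hp, q, hq, rfl⟩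

theorem vOf_cases {δ : V} (hδ : ty δ = false) {x : G} (hx : x ∈ vOf G Adj δ) :
    ∃ a, Adj δ a ∧ x ∈ zOf G Adj a := by
  obtain ⟨a, ha⟩ := h.exists_adj δ
  obtain ⟨b, c, hb, hc, n1, n2, n3, -⟩ := h.exists_two δ ha
  obtain ⟨p, hp, q, hq, rfl⟩ := h.vOf_split hd hj hδ ha hb (Ne.symm n1) hx
  by_cases hpW : p ∈ zOf G Adj δ
  · exact ⟨b, hb, mul_mem (h.wOf_le (h.tyA hb hδ) (h.symm hb) hpW) hq⟩
  by_cases hqW : q ∈ zOf G Adj δ
  · exact ⟨a, ha, mul_mem hp (h.wOf_le (h.tyA ha hδ) (h.symm ha) hqW)⟩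
  exact ⟨c, hc, (h.jZero_out hd hj hδ ha hb hc (Ne.symm n1) (Ne.symm n2) n3 ⟨hp, hpW⟩ ⟨hq, hqW⟩).mem⟩

theorem dOf_com {p w q : V} (hp : ty p = false) (hw : Adj p w) (hq : Adj w q) (hne : q ≠ p) {d x : G}
    (hd' : d ∈ dOf G Adj p) (hx : x ∈ vOf G Adj q) : d * x * d⁻¹ * x⁻¹ ∈ zOf G Adj w := by
  have hwA := h.tyA hw hp
  have hqB := h.tyB hq hwA
  obtain ⟨hdp, hdn⟩ := mem_dOf.1 hd'
  have hdq : d • q = q := (hdn w hw).2 q hq
  have hm : d * x * d⁻¹ * x⁻¹ ∈ vOf G Adj q := by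
    have := h.vOf_conj d hx
    rw [hdq] at this
    exact mul_mem this (inv_mem hx)
  have hxp : x • p = p := (h.vOf_le_kern_nbr hd hqB (h.symm hq) hx).2 p (h.symm hw)
  have hk : d * x * d⁻¹ * x⁻¹ ∈ kern Adj p := by
    rw [show d * x * d⁻¹ * x⁻¹ = d * (x * d⁻¹ * x⁻¹) by group]
    refine mul_mem hdp ?_
    have := h.conj_kern x (inv_mem hdp)
    rwa [hxp] at this
  obtain ⟨r, hr, hrw⟩ := h.exists_nbr_ne (x := q) w
  obtain ⟨a, ha, c, hc, he⟩ := h.vOf_split hd hj hqB (h.symm hq) hr (Ne.symm hrw) hm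
  rw [he] at hk ⊢
  refine mul_mem ha ?_
  by_cases hcW : c ∈ zOf G Adj q
  · exact h.wOf_le hwA hq hcW
  · exfalso
    have hap : a ∈ kern Adj p := h.le_kern hd.toIsDist (n := 1) (by omega) hwA (near_one (h.symm hw)) ha
    exact h.out_not_kern hd hqB hr (h.symm hq) (h.symm hw) hrw (Ne.symm hne) ⟨hc, hcW⟩
      ((mul_mem_cancel_left hap).1 hk)

omit hj in
theorem exists_conf {δ w p q : V} (hδ : ty δ = false) (hw : Adj δ w) (hp : Adj w p) (hq : Adj w q)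
    (np : p ≠ δ) (nq : q ≠ δ) (npq : p ≠ q) : ∃ y y' o : G, Conf G Adj ty δ w p q y y' o := by
  have hwA := h.tyA hw hδ
  obtain ⟨x, hx, hxw⟩ := h.exists_nbr_ne (x := p) w
  obtain ⟨x', hx', hx'w⟩ := h.exists_nbr_ne (x := q) w
  obtain ⟨y, hy⟩ := h.exists_out (h.tyB hp hwA) hx
  obtain ⟨y', hy'⟩ := h.exists_out (h.tyB hq hwA) hx'
  have hyk : y ∈ kern Adj w := h.le_kern hd.toIsDist (n := 2) (by omega) (h.tyA hx (h.tyB hp hwA))
    (near_cons (h.symm hx) (near_one (h.symm hp))) hy.mem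
  have hyq : y ∉ kern Adj δ :=
    h.out_not_kern hd (h.tyB hp hwA) hx (h.symm hp) (h.symm hw) hxw (Ne.symm np) hy
  obtain ⟨o, ho, how, ho3, hoi⟩ := h.exists_inverted hw
    (edgeT_comm (G := G) w δ ▸ kern_le (h.symm hw) hyk) hyq (h.zOf_sq hy.mem)
  exact ⟨y, y', o, hδ, hw, hp, hq, np, nq, npq, ⟨x, hx, hxw, hy⟩, ⟨x', hx', hx'w, hy'⟩, ho, how, ho3, hoi⟩

section conf

variable {δ w p q : V} {y y' o : G} (hC : Conf G Adj ty δ w p q y y' o)
include hC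

omit hd hj in
theorem conf_ty : ty w = true ∧ ty p = false ∧ ty q = false := by
  have := h.tyA hC.hw hC.tyB
  exact ⟨this, h.tyB hC.hp this, h.tyB hC.hq this⟩

omit hj in
theorem conf_y : y ∈ edgeT G δ w ∧ y ∉ kern Adj δ ∧ y ∈ kern Adj w ∧ y ∈ vOf G Adj p ∧ y * y = 1 ∧
    y' ∈ kern Adj w ∧ y' ∉ kern Adj δ ∧ y' ∈ vOf G Adj q := by
  obtain ⟨hwA, hpB, hqB⟩ := h.conf_ty hC
  obtain ⟨x, hx, hxw, hy⟩ := hC.outy
  obtain ⟨x', hx', hx'w, hy'⟩ := hC.outy'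
  have hyk := h.vOf_le_kern_nbr hd hpB (h.symm hC.hp) (zOf_le_vOf hx hy.mem)
  have hy'k := h.vOf_le_kern_nbr hd hqB (h.symm hC.hq) (zOf_le_vOf hx' hy'.mem)
  exact ⟨edgeT_comm (G := G) w δ ▸ kern_le (h.symm hC.hw) hyk,
    h.out_not_kern hd hpB hx (h.symm hC.hp) (h.symm hC.hw) hxw (Ne.symm hC.np) hy, hyk, zOf_le_vOf hx hy.mem,
    h.zOf_sq hy.mem, hy'k, h.out_not_kern hd hqB hx' (h.symm hC.hq) (h.symm hC.hw) hx'w (Ne.symm hC.nq) hy',
    zOf_le_vOf hx' hy'.mem⟩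

omit hd hj in
theorem conf_arms : o • o • w ≠ w ∧ o • o • w ≠ o • w ∧ Adj δ (o • w) ∧ Adj δ (o • o • w) ∧
    ∀ u, Adj δ u → u = w ∨ u = o • w ∨ u = o • o • w := by
  have h1 : Adj δ (o • w) := h.smul_adj hC.ofix hC.hw
  have h2 : Adj δ (o • o • w) := h.smul_adj hC.ofix h1
  have n2 : o • o • w ≠ o • w := fun e => hC.omove (smul_left_cancel o e)
  have n1 : o • o • w ≠ w := by
    intro e
    have h3 : o • o • o • w = w := by
      rw [← mul_smul, ← mul_smul, ← pow_three', hC.ocube, one_smul]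
    rw [e] at h3
    exact hC.omove h3
  exact ⟨n1, n2, h1, h2, fun u hu => h.adj_cases hC.hw h1 h2 (Ne.symm hC.omove) (Ne.symm n1) (Ne.symm n2) hu⟩

/-- the fixed points of `o` in `V_δ` are central -/
theorem conf_fixed {x : G} (hx : x ∈ vOf G Adj δ) (ho : o * x = x * o) : x ∈ zOf G Adj δ := by
  obtain ⟨n1, n2, h1, h2, hall⟩ := h.conf_arms hC
  obtain ⟨a, ha, hxa⟩ := h.vOf_cases hd hj hC.tyB hx
  have hoa : o • a ≠ a := by
    rcases hall a ha with rfl | rfl | rfl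
    · exact hC.omove
    · exact n2
    · exact fun e => n2 (smul_left_cancel o e)
  have := h.conj_zOf o hxa
  rw [ho, mul_inv_cancel_right] at this
  exact h.zOf_inter hC.tyB (h.smul_adj hC.ofix ha) ha hoa this hxa

/-- every element of `D_δ` is fixed by `o` modulo `V_δ` -/
theorem conf_split {d : G} (hd' : d ∈ dOf G Adj δ) :
    ∃ c x, c ∈ dOf G Adj δ ∧ o * c = c * o ∧ x ∈ vOf G Adj δ ∧ d = c * x := by
  obtain ⟨hwA, hpB, hqB⟩ := h.conf_ty hC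
  obtain ⟨hyT, -, -, hyV, hy2, -, -, -⟩ := h.conf_y hd hC
  have hB := hC.tyB
  have hVconj : ∀ {g x : G}, g • δ = δ → x ∈ vOf G Adj δ → g * x * g⁻¹ ∈ vOf G Adj δ := fun {g x} hg hx => by
    have := h.vOf_conj g hx
    rwa [hg] at this
  have hDconj : ∀ {g x : G}, g • δ = δ → x ∈ dOf G Adj δ → g * x * g⁻¹ ∈ dOf G Adj δ := fun {g x} hg hx => by
    have := h.dOf_conj g hx
    rwa [hg] at this
  have hyi : y⁻¹ = y := inv_eq_of_mul_eq_one_right hy2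
  have hK : ∀ g, g • δ = δ → (∀ e ∈ dOf G Adj δ, g * e * g⁻¹ * e⁻¹ ∈ vOf G Adj δ) →
      ∀ k, k • δ = δ → (∀ e ∈ dOf G Adj δ, k * e * k⁻¹ * e⁻¹ ∈ vOf G Adj δ) →
      ∀ e ∈ dOf G Adj δ, g * k * e * (g * k)⁻¹ * e⁻¹ ∈ vOf G Adj δ := by
    intro g hg hgD k hk hkD e he
    rw [show g * k * e * (g * k)⁻¹ * e⁻¹ = g * (k * e * k⁻¹ * e⁻¹) * g⁻¹ * (g * e * g⁻¹ * e⁻¹) by group]
    exact mul_mem (hVconj hg (hkD e he)) (hgD e he)
  have hy1 : ∀ e ∈ dOf G Adj δ, y * e * y⁻¹ * e⁻¹ ∈ vOf G Adj δ := fun e he => by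
    rw [show y * e * y⁻¹ * e⁻¹ = (e * y * e⁻¹ * y⁻¹)⁻¹ by group]
    exact inv_mem (zOf_le_vOf hC.hw (h.dOf_com hd hj hB hC.hw hC.hp hC.np he hyV))
  have hoi : o⁻¹ • δ = δ := inv_smul_eq_iff.2 hC.ofix.symm
  have hyδ : y • δ = δ := (mem_edgeT.1 hyT).1
  have hy2' : ∀ e ∈ dOf G Adj δ, (o * y * o⁻¹) * e * (o * y * o⁻¹)⁻¹ * e⁻¹ ∈ vOf G Adj δ := fun e he => by
    have he' : o⁻¹ * e * o ∈ dOf G Adj δ := by
      have := hDconj hoi he
      rwa [inv_inv] at this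
    have := hVconj hC.ofix (hy1 _ he')
    rwa [show o * (y * (o⁻¹ * e * o) * y⁻¹ * (o⁻¹ * e * o)⁻¹) * o⁻¹ = o * y * o⁻¹ * e * (o * y * o⁻¹)⁻¹ * e⁻¹ by group]
      at this
  have hoy : o * y * o⁻¹ = o * o * y := by
    rw [← hC.oinv, hyi, show o * y * (y * o * y) = o * (y * y) * o * y by group, hy2, mul_one]
  have h2fix : (o * y * o⁻¹) • δ = δ := by rw [mul_smul, mul_smul, hoi, hyδ, hC.ofix]
  have hoo : ∀ e ∈ dOf G Adj δ, (o * o) * e * (o * o)⁻¹ * e⁻¹ ∈ vOf G Adj δ := fun e he => by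
    have := hK _ h2fix hy2' y hyδ hy1 e he
    rwa [hoy, mul_assoc (o * o), hy2, mul_one] at this
  have hoofix : (o * o) • δ = δ := by rw [mul_smul, hC.ofix, hC.ofix]
  have ho : ∀ e ∈ dOf G Adj δ, o * e * o⁻¹ * e⁻¹ ∈ vOf G Adj δ := fun e he => by
    have := hK _ hoofix hoo _ hoofix hoo e he
    rwa [show o * o * (o * o) = o ^ 3 * o by rw [pow_three]; group, hC.ocube, one_mul] at this
  obtain ⟨v, hv⟩ : ∃ v, v = o * d * o⁻¹ * d⁻¹ := ⟨_, rfl⟩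
  have hvV : v ∈ vOf G Adj δ := hv ▸ ho d hd'
  obtain ⟨v1, hv1⟩ : ∃ v1, v1 = o * v * o⁻¹ := ⟨_, rfl⟩
  have hv1V : v1 ∈ vOf G Adj δ := hv1 ▸ hVconj hC.ofix hvV
  obtain ⟨v2, hv2⟩ : ∃ v2, v2 = o * v1 * o⁻¹ := ⟨_, rfl⟩
  have hv2V : v2 ∈ vOf G Adj δ := hv2 ▸ hVconj hC.ofix hv1V
  have hcom : ∀ a ∈ vOf G Adj δ, ∀ c ∈ vOf G Adj δ, a * c = c * a := fun a ha c hc =>
    h.dOf_comm (h.vOf_le_dOf hd hB ha) hc
  have hsum : v2 * v1 * v = 1 := by
    rw [hv2, hv1, hv, show o * (o * (o * d * o⁻¹ * d⁻¹) * o⁻¹) * o⁻¹ * (o * (o * d * o⁻¹ * d⁻¹) * o⁻¹) *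
      (o * d * o⁻¹ * d⁻¹) = o ^ 3 * d * (o ^ 3)⁻¹ * d⁻¹ by rw [pow_three]; group, hC.ocube]
    group
  have hsq : ∀ a ∈ vOf G Adj δ, a * a = 1 := fun a ha => by
    obtain ⟨u, hu, hau⟩ := h.vOf_cases hd hj hB ha
    exact h.zOf_sq hau
  refine ⟨d * v1, v1⁻¹, mul_mem hd' (h.vOf_le_dOf hd hB hv1V), ?_, inv_mem hv1V, by group⟩
  have key : v * v2 = v1 := by
    rw [hcom v hvV v2 hv2V]
    have h1 : v2 * v1 * v = v2 * v * v1 := by rw [mul_assoc, hcom v1 hv1V v hvV, ← mul_assoc]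
    rw [h1] at hsum
    rw [eq_inv_of_mul_eq_one_left hsum, inv_eq_of_mul_eq_one_right (hsq v1 hv1V)]
  have e1 : o * (d * v1) * o⁻¹ = d * v1 := by
    rw [show o * (d * v1) * o⁻¹ = (o * d * o⁻¹) * (o * v1 * o⁻¹) by group, ← hv2,
      show o * d * o⁻¹ = v * d by rw [hv]; group, ← h.dOf_comm hd' hvV, mul_assoc, key]
  exact mul_inv_eq_iff_eq_mul.1 e1

theorem conf_com_c {c : G} (hc : c ∈ dOf G Adj δ) (ho : o * c = c * o) :
    c * y * c⁻¹ * y⁻¹ ∈ zOf G Adj δ := by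
  obtain ⟨-, -, -, hyV, hy2, -, -, -⟩ := h.conf_y hd hC
  have hn := h.dOf_com hd hj hC.tyB hC.hw hC.hp hC.np hc hyV
  refine h.conf_fixed hd hj hC (zOf_le_vOf hC.hw hn) ?_
  obtain ⟨n, hnd⟩ : ∃ n, n = c * y * c⁻¹ * y⁻¹ := ⟨_, rfl⟩
  rw [← hnd]
  have hyi : y⁻¹ = y := inv_eq_of_mul_eq_one_right hy2
  have hoy : o * y * o⁻¹ = o * o * y := by
    rw [← hC.oinv, hyi, show o * y * (y * o * y) = o * (y * y) * o * y by group, hy2, mul_one]
  have co : Commute c o := (show c * o = o * c from ho.symm)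
  have e1 : o * n * o⁻¹ = c * (o * y * o⁻¹) * c⁻¹ * (o * y * o⁻¹)⁻¹ := by
    rw [hnd]
    calc o * (c * y * c⁻¹ * y⁻¹) * o⁻¹ = (o * c * o⁻¹) * (o * y * o⁻¹) * (o * c * o⁻¹)⁻¹ * (o * y * o⁻¹)⁻¹ := by
          group
      _ = _ := by rw [ho, mul_inv_cancel_right]
  have e2 : c * (o * o * y) * c⁻¹ * (o * o * y)⁻¹ = o * o * n * (o * o)⁻¹ := by
    rw [hnd, show c * (o * o * y) * c⁻¹ * (o * o * y)⁻¹ = c * (o * o) * (y * c⁻¹ * y⁻¹) * (o * o)⁻¹ by group,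
      (co.mul_right co).eq]
    group
  rw [hoy, e2] at e1
  have e3 : o * (o * n * o⁻¹) * o⁻¹ = o * n * o⁻¹ := by
    rw [show o * (o * n * o⁻¹) * o⁻¹ = o * o * n * (o * o)⁻¹ by group, ← e1]
  have e4 := mul_left_cancel (mul_right_cancel e3)
  exact mul_inv_eq_iff_eq_mul.1 e4

theorem conf_two_split {d : G} (hd' : d ∈ dOf G Adj δ) (hdp : d ∈ dOf G Adj p) :
    ∃ c x, c ∈ dOf G Adj δ ∧ o * c = c * o ∧ c * y = y * c ∧ x ∈ zOf G Adj w ∧ d = c * x := by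
  obtain ⟨hwA, hpB, hqB⟩ := h.conf_ty hC
  obtain ⟨-, -, hyk, hyV, hy2, -, -, -⟩ := h.conf_y hd hC
  obtain ⟨c, x, hc, hoc, hx, rfl⟩ := h.conf_split hd hj hC hd'
  obtain ⟨a, ha, hxa⟩ := h.vOf_cases hd hj hC.tyB hx
  obtain ⟨n, hnd⟩ : ∃ n, n = c * y * c⁻¹ * y⁻¹ := ⟨_, rfl⟩
  have hn : n ∈ zOf G Adj δ := hnd ▸ h.conf_com_c hd hj hC hc hoc
  have hdy : c * x * y = y * (c * x) := h.dOf_comm hdp hyV
  have hxw : x ∈ zOf G Adj w := by
    by_contra hne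
    have haw : a ≠ w := fun e => hne (e ▸ hxa)
    have hxo : Out G Adj δ a x := ⟨hxa, fun e => hne (h.wOf_le hwA (h.symm hC.hw) e)⟩
    obtain ⟨x', hx', hx'w, hy⟩ := hC.outy
    have hR := h.com_three hd hj hwA (h.symm hC.hw) hC.hp hC.hq (Ne.symm hC.np) (Ne.symm hC.nq) hC.npq ha haw
      hx' hx'w hxo hy
    have hyi : y⁻¹ = y := inv_eq_of_mul_eq_one_right hy2
    have hrq := h.wOf_le hwA hC.hq (h.rOf_spec q).1
    have e1 : c * rOf G Adj q * c⁻¹ = rOf G Adj q := by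
      rw [h.dOf_comm hc (zOf_le_vOf hC.hw hrq), mul_inv_cancel_right]
    have e2 : rOf G Adj q * n = 1 := by
      have h2 : c * x * y * (c * x)⁻¹ * y⁻¹ = 1 := by rw [hdy]; group
      rw [show c * x * y * (c * x)⁻¹ * y⁻¹ = c * (x * (y * x⁻¹ * y⁻¹)) * c⁻¹ * (c * y * c⁻¹ * y⁻¹) by group,
        h.zOf_inv hxa, hR, e1, ← hnd] at h2
      exact h2
    refine (h.rOf_spec q).2 (h.wOf_inter hwA hC.hq (h.symm hC.hw) hC.nq (h.rOf_spec q).1 ?_)
    rw [eq_inv_of_mul_eq_one_left e2]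
    exact inv_mem hn
  refine ⟨c, x, hc, hoc, ?_, hxw, rfl⟩
  have hxy : x * y = y * x := (zOf_comm_kern hxw hyk).symm
  calc c * y = c * (y * x) * x⁻¹ := by group
    _ = c * x * y * x⁻¹ := by rw [← hxy, mul_assoc c x y]
    _ = y * c := by rw [hdy]; group

omit hj in
theorem conf_comm_dOf {g : G} (hg : g ∈ dOf G Adj δ) (hgy : g * y = y * g) (hj : JZero G Adj ty) :
    g ∈ dOf G Adj p := by
  obtain ⟨hwA, hpB, hqB⟩ := h.conf_ty hC
  obtain ⟨x, hx, hxw, hy⟩ := hC.outy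
  have hgw := (mem_dOf.1 hg).2 w hC.hw
  have hgp : g • p = p := hgw.2 p hC.hp
  have hgx : ∀ a ∈ zOf G Adj x, g * a = a * g := by
    intro a ha
    by_cases haW : a ∈ zOf G Adj p
    · exact h.wOf_central hpB haW hgp
    · have hW := h.out_mul hd hpB hx ⟨ha, haW⟩ hy
      have h1 : Commute g (a * y) := h.wOf_central hpB hW hgp
      have := h1.mul_right (show Commute g y from hgy)
      rw [mul_assoc, h.zOf_sq hy.mem, mul_one] at this
      exact this.eq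
  refine h.dOf_of_comm hd hpB hgp fun r hr a ha => ?_
  have hle : zOf G Adj w ⊔ zOf G Adj x ≤ centralizer ({g} : Set G) :=
    sup_le (fun e he => mem_centralizer_singleton_iff.2 (zOf_comm_kern he hgw).symm)
      fun e he => mem_centralizer_singleton_iff.2 (hgx e he).symm
  exact (mem_centralizer_singleton_iff.1
    (hle (h.vOf_le_sup hd hj hpB (h.symm hC.hp) hx (Ne.symm hxw) (zOf_le_vOf hr ha)))).symm

theorem conf_kOf {g : G} (hg : g ∈ dOf G Adj δ) (hgo : o * g = g * o) (hp : g ∈ dOf G Adj p)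
    (hq : g ∈ dOf G Adj q) : g ∈ kOf G Adj δ := by
  obtain ⟨-, -, -, -, hall⟩ := h.conf_arms hC
  have base : ∀ v, Adj w v → g ∈ dOf G Adj v := fun v hv => by
    rcases h.adj_cases (h.symm hC.hw) hC.hp hC.hq (Ne.symm hC.np) (Ne.symm hC.nq) hC.npq hv with rfl | rfl | rfl
    · exact hg
    · exact hp
    · exact hq
  have step : ∀ u, (∀ v, Adj u v → g ∈ dOf G Adj v) → ∀ v, Adj (o • u) v → g ∈ dOf G Adj v := fun u hu v hv => by
    have hv' : Adj u (o⁻¹ • v) := by simpa using h.smul o⁻¹ hv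
    have := h.dOf_conj o (hu _ hv')
    rwa [hgo, mul_inv_cancel_right, smul_inv_smul] at this
  refine mem_kOf.2 ⟨hg, fun u hu v hv => ?_⟩
  rcases hall u hu with rfl | rfl | rfl
  · exact base v hv
  · exact step w base v hv
  · exact step (o • w) (step w base) v hv

end conf

theorem kOf_split {δ w p q : V} (hδ : ty δ = false) (hw : Adj δ w) (hp : Adj w p) (hq : Adj w q)
    (np : p ≠ δ) (nq : q ≠ δ) (npq : p ≠ q) {j : G} (j1 : j ∈ dOf G Adj δ) (j2 : j ∈ dOf G Adj p)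
    (j3 : j ∈ dOf G Adj q) : ∃ k x, k ∈ kOf G Adj δ ∧ x ∈ zOf G Adj w ∧ j = k * x := by
  obtain ⟨y, y', o, hC⟩ := h.exists_conf hd hδ hw hp hq np nq npq
  obtain ⟨c, x, hc, hoc, hcy, hx, rfl⟩ := h.conf_two_split hd hj hC j1 j2
  have hpB := (h.conf_ty hC).2.1
  have hqB := (h.conf_ty hC).2.2
  have hxD : ∀ v, ty v = false → Adj w v → x ∈ dOf G Adj v := fun v hv hwv =>
    h.vOf_le_dOf hd hv (zOf_le_vOf (h.symm hwv) hx)
  exact ⟨c, x, h.conf_kOf hd hj hC hc hoc ((mul_mem_cancel_right (hxD p hpB hp)).1 j2)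
    ((mul_mem_cancel_right (hxD q hqB hq)).1 j3), hx, rfl⟩

theorem kOf_index {δ w p q : V} (hδ : ty δ = false) (hw : Adj δ w) (hp : Adj w p) (hq : Adj w q)
    (np : p ≠ δ) (nq : q ≠ δ) (npq : p ≠ q) {a c : G} (a1 : a ∈ dOf G Adj δ) (a2 : a ∈ dOf G Adj p)
    (a3 : a ∈ dOf G Adj q) (an : a ∉ kOf G Adj δ) (c1 : c ∈ dOf G Adj δ) (c2 : c ∈ dOf G Adj p)
    (c3 : c ∈ dOf G Adj q) (cn : c ∉ kOf G Adj δ) : a * c ∈ kOf G Adj δ := by
  obtain ⟨k, x, hk, hx, rfl⟩ := h.kOf_split hd hj hδ hw hp hq np nq npq a1 a2 a3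
  obtain ⟨k', x', hk', hx', rfl⟩ := h.kOf_split hd hj hδ hw hp hq np nq npq c1 c2 c3
  have hW := h.wOf_le_kOf hd hδ
  have ox : Out G Adj δ w x := ⟨hx, fun e => an (mul_mem hk (hW e))⟩
  have ox' : Out G Adj δ w x' := ⟨hx', fun e => cn (mul_mem hk' (hW e))⟩
  have hcomm : k' * x = x * k' := h.dOf_comm (mem_kOf.1 hk').1 (zOf_le_vOf hw hx)
  rw [show k * x * (k' * x') = k * (x * k') * x' by group, ← hcomm, show k * (k' * x) * x' = k * k' * (x * x') by group]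
  exact mul_mem (mul_mem hk hk') (hW (h.out_mul hd hδ hw ox ox'))

omit hj in
theorem kOf_triple {δ w p q : V} (hwA : ty w = true) (hw : Adj w δ) (hp : Adj w p) (hq : Adj w q)
    (np : p ≠ δ) (nq : q ≠ δ) (npq : p ≠ q) {k : G} (k1 : k ∈ kOf G Adj δ) (k2 : k ∈ kOf G Adj p)
    (k3 : k ∈ kOf G Adj q) : k = 1 := by
  let M : V → Subgroup G := fun γ => ⨆ (u : V) (_ : Adj γ u) (v : V) (_ : Adj u v) (_ : v ≠ γ), vOf G Adj v
  have hmem : ∀ {γ u v : V}, Adj γ u → Adj u v → v ≠ γ → vOf G Adj v ≤ M γ := fun {γ u v} hu hv hne =>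
    le_iSup_of_le u (le_iSup_of_le hu (le_iSup_of_le v (le_iSup_of_le hv (le_iSup_of_le hne le_rfl))))
  have hMs : ∀ γ, ty γ = false → M γ ≤ stabilizer G γ := fun γ hγ =>
    iSup_le fun u => iSup_le fun hu => iSup_le fun v => iSup_le fun hv => iSup_le fun _ x hx =>
      (h.vOf_le_kern_nbr hd (h.tyB hv (h.tyA hu hγ)) (h.symm hv) hx).2 γ (h.symm hu)
  have hMconj : ∀ (g : G) (γ : V), ty γ = false → ∀ m ∈ M γ, g * m * g⁻¹ ∈ M (g • γ) := by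
    intro g γ _ m hm
    have hle : M γ ≤ (M (g • γ)).comap (MulAut.conj g).toMonoidHom :=
      iSup_le fun u => iSup_le fun hu => iSup_le fun v => iSup_le fun hv => iSup_le fun hne x hx =>
        hmem (h.smul g hu) (h.smul g hv) (fun e => hne (smul_left_cancel g e)) (h.vOf_conj g hx)
    exact hle hm
  refine h.eq_one_of_centralized M hMconj hMs ?_ hwA ((mem_dOf.1 (mem_kOf.1 k1).1).2 w (h.symm hw)) ?_
  · intro γ hγ a b ha hb
    refine h.trans_of_moves (fun u hu => ?_) ha hb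
    have huA := h.tyA hu hγ
    obtain ⟨v, hv, hne⟩ := h.exists_nbr_ne (x := u) γ
    have hvB := h.tyB hv huA
    obtain ⟨x, hx, hxu⟩ := h.exists_nbr_ne (x := v) u
    obtain ⟨m, hm⟩ := h.exists_out hvB hx
    exact ⟨m, hmem hu hv hne (zOf_le_vOf hx hm.mem),
      edgeT_comm (G := G) u γ ▸ kern_le (h.symm hu) (h.vOf_le_kern_nbr hd hvB (h.symm hv) (zOf_le_vOf hx hm.mem)),
      h.out_not_kern hd hvB hx (h.symm hv) (h.symm hu) hxu (Ne.symm hne) hm⟩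
  · intro γ hγ m hm
    have hkγ : k ∈ kOf G Adj γ := by
      rcases h.adj_cases hw hp hq (Ne.symm np) (Ne.symm nq) npq hγ with rfl | rfl | rfl
      · exact k1
      · exact k2
      · exact k3
    have hle : M γ ≤ centralizer ({k} : Set G) :=
      iSup_le fun u => iSup_le fun hu => iSup_le fun v => iSup_le fun hv => iSup_le fun _ x hx =>
        mem_centralizer_singleton_iff.2 (h.dOf_comm ((mem_kOf.1 hkγ).2 u hu v hv) hx).symm
    exact mem_centralizer_singleton_iff.1 (hle hm)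

theorem kOf_pair {δ w p q : V} (hδ : ty δ = false) (hw : Adj δ w) (hp : Adj w p) (hq : Adj w q)
    (np : p ≠ δ) (nq : q ≠ δ) (npq : p ≠ q) {k : G} (k1 : k ∈ kOf G Adj δ) (k2 : k ∈ kOf G Adj p) : k = 1 := by
  have hwA := h.tyA hw hδ
  have hqB := h.tyB hq hwA
  have hpB := h.tyB hp hwA
  have tri : ∀ x ∈ kOf G Adj δ, x ∈ kOf G Adj p → x ∈ kOf G Adj q → x = 1 := fun x x1 x2 x3 =>
    h.kOf_triple hd hwA (h.symm hw) hp hq np nq npq x1 x2 x3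
  have hJ : ∀ x ∈ kOf G Adj δ, x ∈ dOf G Adj δ ∧ x ∈ dOf G Adj p ∧ x ∈ dOf G Adj q := fun x hx =>
    ⟨(mem_kOf.1 hx).1, (mem_kOf.1 hx).2 w hw p hp, (mem_kOf.1 hx).2 w hw q hq⟩
  have prod : ∀ x ∈ kOf G Adj δ, ∀ z ∈ kOf G Adj δ, x ∉ kOf G Adj q → z ∉ kOf G Adj q →
      x * z ∈ kOf G Adj q := fun x hx z hz xn zn => by
    obtain ⟨x1, x2, x3⟩ := hJ x hx
    obtain ⟨z1, z2, z3⟩ := hJ z hz
    exact h.kOf_index hd hj hqB (h.symm hq) (h.symm hw) hp (Ne.symm nq) npq (Ne.symm np) x3 x1 x2 xn z3 z1 z2 zn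
  have hk2 : k * k = 1 := by
    refine tri _ (mul_mem k1 k1) (mul_mem k2 k2) ?_
    by_cases e : k ∈ kOf G Adj q
    · exact mul_mem e e
    · exact prod k k1 k k1 e e
  have hcen : ∀ g ∈ kern Adj w, g * k = k * g := by
    intro g hg
    have g1 := h.kOf_conj g k1
    rw [hg.2 δ (h.symm hw)] at g1
    have g2 := h.kOf_conj g k2
    rw [hg.2 p hp] at g2
    have := tri _ (mul_mem g1 (inv_mem k1)) (mul_mem g2 (inv_mem k2)) ?_
    · exact mul_inv_eq_iff_eq_mul.1 (mul_inv_eq_one.1 this)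
    by_cases e : k ∈ kOf G Adj q
    · have g3 := h.kOf_conj g e
      rw [hg.2 q hq] at g3
      exact mul_mem g3 (inv_mem e)
    · refine prod _ g1 _ (inv_mem k1) (fun e' => e ?_) fun e' => e (by simpa using inv_mem e')
      have := h.kOf_conj g⁻¹ e'
      rw [inv_smul_eq_iff.2 (hg.2 q hq).symm, show g⁻¹ * (g * k * g⁻¹) * g⁻¹⁻¹ = k by group] at this
      exact this
  have hkw : k ∈ zOf G Adj w :=
    h.mem_zOf_of_central hwA ((mem_dOf.1 (mem_kOf.1 k1).1).2 w hw) hcen hk2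
  have inW : ∀ γ, ty γ = false → Adj γ w → k ∈ kOf G Adj γ → k ∈ zOf G Adj γ := by
    intro γ hγ hγw hk
    by_contra hne
    obtain ⟨u, hu, huw⟩ := h.exists_nbr_ne (x := γ) w
    obtain ⟨v, hv, hvγ⟩ := h.exists_nbr_ne (x := u) γ
    exact h.out_not_kern hd hγ hγw hu hv (Ne.symm huw) hvγ ⟨hkw, hne⟩
      (mem_dOf.1 ((mem_kOf.1 hk).2 u hu v hv)).1
  exact h.wOf_inter hwA (h.symm hw) hp (Ne.symm np) (inW δ hδ hw k1) (inW p hpB (h.symm hp) k2)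

theorem kOf_le {δ : V} (hδ : ty δ = false) : kOf G Adj δ ≤ zOf G Adj δ := by
  intro k hk
  obtain ⟨w, hw⟩ := h.exists_adj δ
  obtain ⟨p, q, hp, hq, np, nq, npq, -⟩ := h.exists_two w (h.symm hw)
  have hpB := h.tyB hp (h.tyA hw hδ)
  by_cases e : k ∈ kOf G Adj p
  · rw [h.kOf_pair hd hj hδ hw hp hq np nq npq hk e]; exact one_mem _
  have hr : rOf G Adj δ ∈ kOf G Adj δ := h.wOf_le_kOf hd hδ (h.rOf_spec δ).1
  have hr' : rOf G Adj δ ∉ kOf G Adj p := fun e' =>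
    (h.rOf_spec δ).2 (h.kOf_pair hd hj hδ hw hp hq np nq npq hr e')
  have hJ : ∀ x ∈ kOf G Adj δ, x ∈ dOf G Adj δ ∧ x ∈ dOf G Adj p ∧ x ∈ dOf G Adj q := fun x hx =>
    ⟨(mem_kOf.1 hx).1, (mem_kOf.1 hx).2 w hw p hp, (mem_kOf.1 hx).2 w hw q hq⟩
  obtain ⟨x1, x2, x3⟩ := hJ k hk
  obtain ⟨z1, z2, z3⟩ := hJ _ hr
  have := h.kOf_pair hd hj hδ hw hp hq np nq npq (mul_mem hk hr)
    (h.kOf_index hd hj hpB (h.symm hp) (h.symm hw) hq (Ne.symm np) (Ne.symm npq) (Ne.symm nq) x2 x1 x3 e z2 z1 z3 hr')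
  rw [eq_inv_of_mul_eq_one_left this]
  exact inv_mem (h.rOf_spec δ).1

end Cub

end CfsgLib.LS.CubicBound
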