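import Cfsg.Agent.Lib.LocalStructure.CubicBound.Setup

/-!
# Walks without back-tracking and the critical distance
-/

set_option autoImplicit false
set_option linter.style.haveILetI false
set_option linter.unusedSectionVars false

open Subgroup MulAction

namespace CfsgLib.LS.CubicBound

open CfsgLib.LS.ActiveCenter
open CfsgLib.LS.ActiveCenter.Geo (zOf kern_le edgeA_le_zOf zOf_comm_kern)

universe u v

variable {G : Type u} {V : Type v} [Group G] [MulAction G V] {Adj : V → V → Prop} {ty : V → Bool}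

/-- `f 0, …, f n` is a walk without back-tracking -/
structure IsWalk (Adj : V → V → Prop) (n : ℕ) (f : ℕ → V) : Prop where
  adj : ∀ i < n, Adj (f i) (f (i + 1))
  ne : ∀ i, i + 1 < n → f (i + 2) ≠ f i

/-- prepend a vertex -/
def pre (x : V) (f : ℕ → V) : ℕ → V
  | 0 => x
  | i + 1 => f i

/-- append a vertex after the `n`th -/
def app (n : ℕ) (f : ℕ → V) (x : V) : ℕ → V := fun i => if i ≤ n then f i else x

theorem pre_zero (x : V) (f : ℕ → V) : pre x f 0 = x := rfl

theorem pre_succ (x : V) (f : ℕ → V) (i : ℕ) : pre x f (i + 1) = f i := rfl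

theorem app_le {n : ℕ} (f : ℕ → V) (x : V) {i : ℕ} (hi : i ≤ n) : app n f x i = f i := if_pos hi

theorem app_last {n : ℕ} (f : ℕ → V) (x : V) : app n f x (n + 1) = x := if_neg (by omega)

namespace IsWalk

variable {n : ℕ} {f : ℕ → V} (hf : IsWalk Adj n f)
include hf

theorem mono {m : ℕ} (hm : m ≤ n) : IsWalk Adj m f :=
  ⟨fun i hi => hf.adj i (by omega), fun i hi => hf.ne i (by omega)⟩

theorem shift {m k : ℕ} (hm : k + m ≤ n) : IsWalk Adj m (fun i => f (i + k)) :=
  ⟨fun i hi => by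
      have := hf.adj (i + k) (by omega)
      rwa [show i + k + 1 = i + 1 + k by omega] at this,
    fun i hi => by
      have := hf.ne (i + k) (by omega)
      rwa [show i + k + 2 = i + 2 + k by omega] at this⟩

theorem cons {x : V} (hx : Adj x (f 0)) (hne : 1 ≤ n → f 1 ≠ x) : IsWalk Adj (n + 1) (pre x f) := by
  refine ⟨fun i hi => ?_, fun i hi => ?_⟩
  · cases i with
    | zero => exact hx
    | succ i => exact hf.adj i (by omega)
  · cases i with
    | zero => exact hne (by omega)
    | succ i => exact hf.ne i (by omega)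

theorem snoc {x : V} (hx : Adj (f n) x) (hne : 1 ≤ n → x ≠ f (n - 1)) : IsWalk Adj (n + 1) (app n f x) := by
  refine ⟨fun i hi => ?_, fun i hi => ?_⟩
  · by_cases e : i < n
    · rw [app_le f x e.le, app_le f x e]; exact hf.adj i e
    · obtain rfl : i = n := by omega
      rw [app_le f x le_rfl, app_last]; exact hx
  · by_cases e : i + 2 ≤ n
    · rw [app_le f x e, app_le f x (by omega)]; exact hf.ne i (by omega)
    · obtain rfl : n = i + 1 := by omega
      rw [app_le f x (Nat.le_succ i), show i + 2 = i + 1 + 1 from rfl, app_last]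
      simpa using hne (by omega)

theorem near {i j : ℕ} (hij : i ≤ j) (hj : j ≤ n) : Near Adj (j - i) (f i) (f j) := by
  induction j, hij using Nat.le_induction with
  | base => rw [Nat.sub_self]; rfl
  | succ j hij ih =>
    rw [show j + 1 - i = j - i + 1 by omega]
    exact near_snoc (ih (by omega)) (hf.adj j (by omega))

theorem near_k {i k : ℕ} (hk : i + k ≤ n) : Near Adj k (f i) (f (i + k)) := by
  simpa using hf.near (Nat.le_add_right i k) hk

end IsWalk

namespace Cub

variable (h : Cub G Adj ty)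
include h

theorem walk_rev {n : ℕ} {f : ℕ → V} (hf : IsWalk Adj n f) : IsWalk Adj n (fun i => f (n - i)) :=
  ⟨fun i hi => by
      have := hf.adj (n - i - 1) (by omega)
      rw [show n - i - 1 + 1 = n - i by omega] at this
      rw [show n - (i + 1) = n - i - 1 by omega]
      exact h.symm this,
    fun i hi => by
      have := hf.ne (n - i - 2) (by omega)
      rw [show n - i - 2 + 2 = n - i by omega] at this
      rw [show n - (i + 2) = n - i - 2 by omega]
      exact Ne.symm this⟩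

theorem walk_smul (g : G) {n : ℕ} {f : ℕ → V} (hf : IsWalk Adj n f) : IsWalk Adj n (fun i => g • f i) :=
  ⟨fun i hi => h.smul g (hf.adj i hi), fun i hi e => hf.ne i hi (smul_left_cancel g e)⟩

theorem ty_walk {n : ℕ} {f f' : ℕ → V} (hf : IsWalk Adj n f) (hf' : IsWalk Adj n f') :
    ∀ {i}, i ≤ n → (ty (f i) = ty (f' i) ↔ ty (f 0) = ty (f' 0)) := by
  intro i
  induction i with
  | zero => exact fun _ => Iff.rfl
  | succ i ih =>
    intro hi
    have h1 := h.flip (hf.adj i (by omega))
    have h2 := h.flip (hf'.adj i (by omega))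
    rw [← ih (by omega)]
    cases e1 : ty (f i) <;> cases e2 : ty (f' i) <;> cases e3 : ty (f (i + 1)) <;> cases e4 : ty (f' (i + 1)) <;>
      simp_all

theorem ty_idx {n : ℕ} {f : ℕ → V} (hf : IsWalk Adj n f) (h0 : ty (f 0) = true) {i : ℕ} (hi : i ≤ n) :
    ty (f i) = true ↔ Even i := by
  have := ty_of_near (ty := ty) (fun {a b} => h.flip (x := a) (y := b)) (hf.near (Nat.zero_le i) hi)
  rw [h0, Nat.sub_zero] at this
  rw [← this]
  exact eq_comm

theorem ty_odd {n : ℕ} {f : ℕ → V} (hf : IsWalk Adj n f) (h0 : ty (f 0) = true) {i : ℕ} (hi : i ≤ n)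
    (ho : Odd i) : ty (f i) = false := by
  cases e : ty (f i)
  · rfl
  · exact absurd ((h.ty_idx hf h0 hi).1 e) (Nat.not_even_iff_odd.2 ho)

end Cub

/-- some element fixes a walk of length `n` with last vertex of type `s`, moving a neighbour of it -/
def Mv (G : Type u) [Group G] [MulAction G V] (Adj : V → V → Prop) (ty : V → Bool) (s : Bool) (n : ℕ) : Prop :=
  ∃ (f : ℕ → V) (g : G), IsWalk Adj n f ∧ ty (f n) = s ∧ (∀ i ≤ n, g • f i = f i) ∧ g ∉ kern Adj (f n)

/-- both kinds of movers exist -/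
abbrev Mvs (G : Type u) [Group G] [MulAction G V] (Adj : V → V → Prop) (ty : V → Bool) (n : ℕ) : Prop :=
  ∀ s, Mv G Adj ty s n

theorem Mv.mono {s : Bool} {m n : ℕ} (hm : m ≤ n) (hv : Mv G Adj ty s n) : Mv G Adj ty s m := by
  obtain ⟨f, g, hf, hs, hg, hgq⟩ := hv
  refine ⟨fun i => f (i + (n - m)), g, hf.shift (by omega), ?_, fun i hi => hg _ (by omega), ?_⟩
  · show ty (f (m + (n - m))) = s
    rwa [show m + (n - m) = n by omega]
  · show g ∉ kern Adj (f (m + (n - m)))
    rwa [show m + (n - m) = n by omega]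

/-- a critical walk -/
structure Crit (G : Type u) [Group G] [MulAction G V] (Adj : V → V → Prop) (ty : V → Bool) (b : ℕ)
    (f : ℕ → V) : Prop where
  walk : IsWalk Adj b f
  start : ty (f 0) = true
  not_le : ¬ zOf G Adj (f 0) ≤ kern Adj (f b)

/-- `b` is the critical distance -/
structure IsDist (G : Type u) [Group G] [MulAction G V] (Adj : V → V → Prop) (ty : V → Bool) (b : ℕ) : Prop where
  low : ∀ n < b, ∀ x y : V, ty x = true → Near Adj n x y → zOf G Adj x ≤ kern Adj y
  attained : ∃ f, Crit G Adj ty b f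

namespace Cub

variable (h : Cub G Adj ty)
include h

theorem exists_ty (s : Bool) [Nonempty V] : ∃ x y : V, Adj x y ∧ ty x = s := by
  obtain ⟨x⟩ := ‹Nonempty V›
  obtain ⟨y, hy⟩ := h.exists_adj x
  by_cases e : ty x = s
  · exact ⟨x, y, hy, e⟩
  · refine ⟨y, x, h.symm hy, ?_⟩
    have := h.flip hy
    cases hx : ty x <;> cases hy' : ty y <;> cases s <;> simp_all

theorem mv_one [Nonempty V] (s : Bool) : Mv G Adj ty s 1 := by
  obtain ⟨x, y, hxy, hx⟩ := h.exists_ty s
  obtain ⟨t, ht, htq⟩ := h.swap hxy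
  obtain ⟨h1, h2⟩ := mem_edgeT.1 ht
  refine ⟨pre y (fun _ => x), t, (show IsWalk Adj 0 (fun _ => x) from
    ⟨fun i hi => absurd hi (by omega), fun i hi => absurd hi (by omega)⟩).cons (h.symm hxy) (by omega), hx,
    fun i hi => ?_, htq⟩
  match i, hi with
  | 0, _ => exact h2
  | 1, _ => exact h1

/-- walks of a given length starting in the same class are conjugate -/
theorem conj_walk {m : ℕ} (hmv : Mvs G Adj ty m) : ∀ {n : ℕ}, n ≤ m + 1 → ∀ {f f' : ℕ → V},
    IsWalk Adj n f → IsWalk Adj n f' → ty (f 0) = ty (f' 0) → ∃ g : G, ∀ i ≤ n, g • f i = f' i := by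
  intro n
  induction n with
  | zero =>
    intro _ f f' _ _ ht
    obtain ⟨y, hy⟩ := h.exists_adj (f 0)
    obtain ⟨g, hg⟩ := h.ty_smul (1 : G) y hy ht.symm
    exact ⟨g, fun i hi => by obtain rfl := Nat.le_zero.1 hi; exact hg⟩
  | succ n ih =>
    intro hn f f' hf hf' ht
    match n, ih, hn, hf, hf' with
    | 0, _, _, hf, hf' =>
      obtain ⟨g, h1, h2⟩ := h.edge_trans (hf.adj 0 (by omega)) (hf'.adj 0 (by omega)) ht
      exact ⟨g, fun i hi => by interval_cases i <;> assumption⟩
    | k + 1, ih, hn, hf, hf' =>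
      obtain ⟨g, hg⟩ := ih (by omega) (hf.mono (by omega)) (hf'.mono (by omega)) ht
      by_cases e : g • f (k + 2) = f' (k + 2)
      · refine ⟨g, fun i hi => ?_⟩
        by_cases e' : i ≤ k + 1
        · exact hg i e'
        · obtain rfl : i = k + 2 := by omega
          exact e
      obtain ⟨p, x, hp, hps, hx, hxq⟩ := (hmv (ty (f' (k + 1)))).mono (show k + 1 ≤ m by omega)
      obtain ⟨c, hc⟩ := ih (by omega) hp (hf'.mono (by omega))
        ((h.ty_walk hp (hf'.mono (by omega)) le_rfl).1 hps)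
      obtain ⟨x', hx'⟩ : ∃ x', x' = c * x * c⁻¹ := ⟨_, rfl⟩
      have hfix : ∀ i ≤ k + 1, x' • f' i = f' i := fun i hi => by
        rw [hx', ← hc i hi, mul_smul, mul_smul, inv_smul_smul, hx i hi]
      have hnq : x' ∉ kern Adj (f' (k + 1)) := fun e => hxq (by
        have := h.conj_kern c⁻¹ e
        rw [inv_smul_eq_iff.2 (hc (k + 1) le_rfl).symm, hx'] at this
        simpa [mul_assoc] using this)
      have ha1 : Adj (f' (k + 1)) (g • f (k + 2)) := by
        have := h.smul g (hf.adj (k + 1) (by omega))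
        rwa [hg (k + 1) le_rfl] at this
      have ha0 : g • f (k + 2) ≠ f' k := fun e' => hf.ne k (by omega)
        (smul_left_cancel g (e'.trans (hg k (by omega)).symm))
      have hsw : x' • g • f (k + 2) = f' (k + 2) := h.swap_eq (h.symm (hf'.adj k (by omega))) ha1
        (hf'.adj (k + 1) (by omega)) (Ne.symm ha0) (Ne.symm (hf'.ne k (by omega))) e
        (mem_edgeT.2 ⟨hfix _ le_rfl, hfix k (by omega)⟩) hnq
      refine ⟨x' * g, fun i hi => ?_⟩
      rw [mul_smul]
      by_cases e' : i ≤ k + 1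
      · rw [hg i e', hfix i e']
      · obtain rfl : i = k + 2 := by omega
        exact hsw

/-- a walk from a critical pair, or a shorter one -/
theorem exists_walk : ∀ {n : ℕ} {x y : V}, Near Adj n x y →
    ∃ m ≤ n, ∃ f, IsWalk Adj m f ∧ f 0 = x ∧ f m = y := by
  intro n
  induction n with
  | zero =>
    intro x y hn
    cases hn
    exact ⟨0, le_rfl, fun _ => x, ⟨fun i hi => absurd hi (by omega), fun i hi => absurd hi (by omega)⟩, rfl, rfl⟩
  | succ n ih =>
    intro x y ⟨z, hz, hn⟩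
    obtain ⟨m, hm, f, hf, f0, fm⟩ := ih hn
    by_cases e : 1 ≤ m ∧ f 1 = x
    · refine ⟨m - 1, by omega, fun i => f (i + 1), hf.shift (by omega), e.2, ?_⟩
      show f (m - 1 + 1) = y
      rwa [show m - 1 + 1 = m by omega]
    · exact ⟨m + 1, by omega, pre x f, hf.cons (f0 ▸ hz) (fun h1 e' => e ⟨h1, e'⟩), rfl, fm⟩

theorem exists_isDist [Nonempty V] : ∃ b, IsDist G Adj ty b := by
  classical
  have hex : ∃ n, ∃ x y : V, ty x = true ∧ Near Adj n x y ∧ ¬ zOf G Adj x ≤ kern Adj y := by
    by_contra hno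
    push Not at hno
    obtain ⟨x, y, hxy, hx⟩ := h.exists_ty true
    obtain ⟨a, ha, ha1⟩ := h.exists_edgeA_ne_one hxy
    refine ha1 (h.eq_one_of_fix (fun v => ?_) hxy)
    obtain ⟨n, hn⟩ := h.conn x v
    exact (hno n x v hx hn (edgeA_le_zOf hxy ha)).1
  refine ⟨Nat.find hex, fun n hn x y hx hxy => ?_, ?_⟩
  · by_contra hle
    exact Nat.find_min hex hn ⟨x, y, hx, hxy, hle⟩
  · obtain ⟨x, y, hx, hn, hle⟩ := Nat.find_spec hex
    obtain ⟨m, hm, f, hf, f0, fm⟩ := h.exists_walk hn
    have hm' : m = Nat.find hex := by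
      by_contra hne
      refine Nat.find_min hex (show m < _ by omega) ⟨x, y, hx, ?_, hle⟩
      simpa [f0, fm] using hf.near (Nat.zero_le m) le_rfl
    exact ⟨f, hm' ▸ hf, by rwa [f0], by rw [← hm', f0, fm]; exact hle⟩

theorem crit_smul (g : G) {b : ℕ} {f : ℕ → V} (hc : Crit G Adj ty b f) :
    Crit G Adj ty b (fun i => g • f i) := by
  refine ⟨h.walk_smul g hc.walk, (h.ty_smul' g (f 0)).trans hc.start, fun hle => hc.not_le fun a ha => ?_⟩
  have := h.conj_kern g⁻¹ (hle (h.conj_zOf g ha))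
  simpa [mul_assoc] using this

theorem crit_smul_iff (g : G) {x y : V} :
    zOf G Adj (g • x) ≤ kern Adj (g • y) ↔ zOf G Adj x ≤ kern Adj y := by
  refine ⟨fun hle a ha => ?_, fun hle a ha => ?_⟩
  · simpa [mul_assoc] using h.conj_kern g⁻¹ (hle (h.conj_zOf g ha))
  · have h1 := h.conj_zOf g⁻¹ ha
    rw [inv_smul_smul, inv_inv] at h1
    have := h.conj_kern g (hle h1)
    rwa [show g * (g⁻¹ * a * g) * g⁻¹ = a by group] at this

variable {b : ℕ} (hb : IsDist G Adj ty b)
include hb

theorem dist_pos : 0 < b := by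
  obtain ⟨f, hc⟩ := hb.attained
  by_contra h0
  obtain rfl : b = 0 := by omega
  exact hc.not_le (h.zOf_le_kern _)

theorem le_kern {n : ℕ} (hn : n < b) {x y : V} (hx : ty x = true) (hxy : Near Adj n x y) {a : G}
    (ha : a ∈ zOf G Adj x) : a ∈ kern Adj y := hb.low n hn x y hx hxy ha

theorem w_le_kern {n : ℕ} (hn : n ≤ b) {δ y : V} (hδ : ty δ = false) (hxy : Near Adj n δ y) {a : G}
    (ha : a ∈ zOf G Adj δ) : a ∈ kern Adj y := by
  match n, hn, hxy with
  | 0, _, hxy => cases hxy; exact h.zOf_le_kern _ ha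
  | k + 1, hn, hxy =>
    obtain ⟨z, hz, hzy⟩ := hxy
    have hzA := h.tyA hz hδ
    exact h.le_kern hb (by omega) hzA hzy (h.wOf_le hzA (h.symm hz) ha)

theorem v_le_kern {n : ℕ} (hn : n + 1 < b) {δ y : V} (hδ : ty δ = false) (hxy : Near Adj n δ y) :
    vOf G Adj δ ≤ kern Adj y :=
  vOf_le fun w hw _ ha => h.le_kern hb (n := n + 1) (by omega) (h.tyA hw hδ) (near_cons (h.symm hw) hxy) ha

theorem comm_zz {n : ℕ} (hn : n < b) {x y : V} (hx : ty x = true) (hxy : Near Adj n x y) {a a' : G}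
    (ha : a ∈ zOf G Adj x) (ha' : a' ∈ zOf G Adj y) : a * a' = a' * a :=
  zOf_comm_kern ha' (h.le_kern hb hn hx hxy ha)

theorem comm_wz {n : ℕ} (hn : n ≤ b) {δ y : V} (hδ : ty δ = false) (hxy : Near Adj n δ y) {a a' : G}
    (ha : a ∈ zOf G Adj δ) (ha' : a' ∈ zOf G Adj y) : a * a' = a' * a :=
  zOf_comm_kern ha' (h.w_le_kern hb hn hδ hxy ha)

omit hb in
theorem fix_of_kern {x y : V} {g : G} (hg : g ∈ kern Adj x) (hy : Adj x y) : g • y = y := hg.2 y hy

/-- the elements of `Z` fix the next vertex -/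
theorem mem_edgeT_of_near {n : ℕ} (hn : n < b) {x y z : V} (hx : ty x = true) (hxy : Near Adj n x y)
    (hz : Adj y z) {a : G} (ha : a ∈ zOf G Adj x) : a ∈ edgeT G y z :=
  kern_le hz (h.le_kern hb hn hx hxy ha)

end Cub

end CfsgLib.LS.CubicBound
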